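import Mathlib

/-!
# The arithmetic of the insoluble near-field degrees
-/

set_option autoImplicit false

namespace Cfsg.Lib.Perm.Zas25

set_option synthInstance.maxSize 4000 in
theorem check_one : ∀ p < 120, ∀ c < 3, 7 ≤ p → (120 * c) ∣ p ^ 2 - 1 →
    (p ^ 2 - 1) / (120 * c) ∣ p - 1 → Nat.gcd ((p ^ 2 - 1) / (120 * c)) 30 = 1 → Nat.Prime p →
    c = 1 ∧ (p = 11 ∨ p = 29 ∨ p = 59) := by
  decide +kernel

set_option synthInstance.maxSize 4000 in
theorem check_two : ∀ p < 16, ∀ e < 5, 7 ≤ p → Nat.Prime p → (120 * e) ∣ p ^ 4 - 1 →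
    (p ^ 4 - 1) / (120 * e) ∣ p ^ 2 - 1 → Nat.gcd ((p ^ 4 - 1) / (120 * e)) 30 = 1 → False := by
  decide +kernel

theorem seven_pow_gt (d : ℕ) (h : 4 ≤ d) : 120 * d < 7 ^ d := by
  induction d, h using Nat.le_induction with
  | base => norm_num
  | succ n hn ih => rw [pow_succ]; omega

theorem seven_pow_gt' (d : ℕ) (h : 2 ≤ d) : 120 * d < 7 ^ (2 * d) := by
  rcases Nat.lt_or_ge d 4 with h4 | h4
  · interval_cases d <;> norm_num
  · exact lt_of_lt_of_le (seven_pow_gt d h4) (Nat.pow_le_pow_right (by norm_num) (by omega))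

theorem type_three_arith {p d m k c a : ℕ} (hp : p.Prime) (hp7 : 7 ≤ p) (hd : 1 ≤ d) (hm : 2 ≤ m)
    (hkd : k ∣ d) (hc : c = 1 ∨ c = 2) (ha : Nat.Coprime a 30) (hdvd : a ∣ p ^ d - 1)
    (heq : (p ^ d) ^ m = k * (c * (120 * a)) + 1) :
    d = 1 ∧ m = 2 ∧ k = 1 ∧ c = 1 ∧ ((p = 11 ∧ a = 1) ∨ (p = 29 ∧ a = 7) ∨ (p = 59 ∧ a = 29)) := by
  obtain ⟨q, hq⟩ : ∃ q, q = p ^ d := ⟨_, rfl⟩
  rw [← hq] at hdvd heq
  have hk : k ≤ d := Nat.le_of_dvd (by omega) hkd
  have hq7 : 7 ^ d ≤ q := hq ▸ Nat.pow_le_pow_left hp7 d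
  have hq1 : 7 ≤ q := le_trans (Nat.le_self_pow (by omega) 7) hq7
  have haodd : a % 2 = 1 := by
    rcases Nat.mod_two_eq_zero_or_one a with h | h
    · exact absurd (Nat.dvd_gcd (Nat.dvd_of_mod_eq_zero h) (by norm_num : 2 ∣ 30)) (by rw [ha]; norm_num)
    · exact h
  have h2a : 2 * a ≤ q - 1 := by
    obtain ⟨j, hj⟩ := hdvd
    have hqodd : q % 2 = 1 := by
      rw [hq, Nat.pow_mod, (hp.eq_two_or_odd.resolve_left (by omega))]
      simp
    rcases j with _ | _ | j
    · omega
    · omega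
    · rw [hj]; nlinarith
  have hRHS : k * (c * (120 * a)) ≤ 120 * d * (q - 1) := by
    rcases hc with rfl | rfl <;>
      calc k * (_ * (120 * a)) ≤ d * (2 * (120 * a)) := by
            refine Nat.mul_le_mul hk ?_
            omega
        _ = 120 * d * (2 * a) := by ring
        _ ≤ _ := Nat.mul_le_mul_left _ h2a
  obtain ⟨s, hs⟩ : ∃ s, s + 1 = q := ⟨q - 1, by omega⟩
  have hs' : q - 1 = s := by omega
  rw [hs'] at hRHS
  have hm3 : m < 4 := by
    by_contra hh
    have h1 : q ^ 4 ≤ q ^ m := Nat.pow_le_pow_right (by omega) (by omega)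
    have h2 : 120 * d < q ^ 3 := by
      rcases Nat.lt_or_ge d 2 with h | h
      · have : d = 1 := by omega
        subst this
        exact lt_of_lt_of_le (by norm_num : 120 * 1 < 7 ^ 3) (Nat.pow_le_pow_left hq1 3)
      · exact (lt_of_lt_of_le (seven_pow_gt' d h) (by rw [hq, ← pow_mul, mul_comm d 2];
                                                      exact Nat.pow_le_pow_left hp7 _)).trans_le
          (Nat.pow_le_pow_right (by omega) (by norm_num : 2 ≤ 3))
    have h3 : q ^ 4 ≤ 120 * d * s + 1 := by omega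
    have h4 : 120 * d * s ≤ q ^ 3 * s := Nat.mul_le_mul_right _ h2.le
    have h5 : q ^ 4 = q ^ 3 * s + q ^ 3 := by rw [← hs]; ring
    omega
  interval_cases m
  · -- two
    have hb : q + 1 ≤ 120 * d := by
      have : (q + 1) * s ≤ 120 * d * s := by nlinarith
      exact Nat.le_of_mul_le_mul_right this (by omega)
    have hd4 : d < 4 := by
      by_contra hh
      have := seven_pow_gt d (by omega)
      omega
    interval_cases d
    · have hk1 : k = 1 := Nat.dvd_one.mp hkd
      subst hk1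
      rw [pow_one] at hq
      subst hq
      have he : q ^ 2 - 1 = 120 * c * a := by rw [heq, one_mul, ← mul_assoc, mul_comm c]; omega
      have hdiv : (q ^ 2 - 1) / (120 * c) = a := by
        rw [he, Nat.mul_div_cancel_left _ (by omega)]
      obtain ⟨rfl, h⟩ := check_one q (by omega) c (by omega) hp7 ⟨a, he⟩ (by rw [hdiv]; exact hdvd)
        (by rw [hdiv]; exact ha) hp
      refine ⟨rfl, rfl, rfl, rfl, ?_⟩
      rcases h with rfl | rfl | rfl
      · exact Or.inl ⟨rfl, by omega⟩
      · exact Or.inr (Or.inl ⟨rfl, by omega⟩)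
      · exact Or.inr (Or.inr ⟨rfl, by omega⟩)
    · exfalso
      have hp16 : p < 16 := by
        by_contra hh
        have : 16 ^ 2 ≤ q := hq ▸ Nat.pow_le_pow_left (by omega) 2
        omega
      have he : p ^ 4 - 1 = 120 * (k * c) * a := by
        rw [show p ^ 4 = q ^ 2 by rw [hq, ← pow_mul], heq]
        rw [Nat.add_sub_cancel]; ring
      have hkc : 0 < k * c := Nat.mul_pos (Nat.pos_of_dvd_of_pos hkd (by norm_num)) (by omega)
      have hdiv : (p ^ 4 - 1) / (120 * (k * c)) = a := by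
        rw [he, Nat.mul_div_cancel_left _ (by omega)]
      refine check_two p hp16 (k * c) ?_ hp7 hp ⟨a, he⟩ (by rw [hdiv, ← hq]; exact hdvd) (by rw [hdiv]; exact ha)
      rcases hc with rfl | rfl <;> omega
    · exfalso
      have hp8 : p = 7 := by
        by_contra hh
        have : 8 ^ 3 ≤ q := hq ▸ Nat.pow_le_pow_left (by omega) 3
        omega
      subst hp8
      subst hq
      norm_num at heq
      have : 120 ∣ k * (c * (120 * a)) := ⟨k * (c * a), by ring⟩
      omega
  · exfalso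
    have hb : q * q + q + 1 ≤ 120 * d := by
      have : (q * q + q + 1) * s ≤ 120 * d * s := by nlinarith
      exact Nat.le_of_mul_le_mul_right this (by omega)
    rcases Nat.lt_or_ge d 2 with h | h
    · have : d = 1 := by omega
      subst this
      rw [pow_one] at hq
      subst hq
      have hq10 : q < 11 := by nlinarith
      have : q = 7 := by interval_cases q <;> first | rfl | norm_num at hp | norm_num at hb
      subst this
      norm_num at heq
      have : 120 ∣ k * (c * (120 * a)) := ⟨k * (c * a), by ring⟩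
      omega
    · have h1 : 120 * d < q ^ 2 := lt_of_lt_of_le (seven_pow_gt' d h) (by
        rw [hq, ← pow_mul, mul_comm d 2]; exact Nat.pow_le_pow_left hp7 _)
      nlinarith

end Cfsg.Lib.Perm.Zas25
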