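import Cfsg.Agent.Lib.Perm.Zas25.Complement
import Cfsg.Agent.Lib.Perm.Zas25.TypeThreeArith
import Cfsg.Agent.Lib.Perm.NearFieldSolvable

/-!
# Non-solvable linear groups regular on the non-zero vectors
-/

set_option autoImplicit false
set_option linter.style.haveILetI false

namespace Cfsg.Lib.Perm.Zas25

open scoped commutatorElement

universe u

/-- A maximal abelian normal subgroup inside a normal `Z`-subgroup is self-centralizing there. -/
theorem exists_self_centralizing {H : Type u} [Group H] [Finite H] (M : Subgroup H) [hM : M.Normal] [IsZGroup M] :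
    ∃ A : Subgroup H, A.Normal ∧ A ≤ M ∧ IsMulCommutative A ∧ M ⊓ Subgroup.centralizer (A : Set H) = A := by
  classical
  obtain ⟨A, ⟨hAn, hAM, hAc⟩, hmax⟩ := Set.Finite.exists_maximal
    (Set.toFinite {B : Subgroup H | B.Normal ∧ B ≤ M ∧ IsMulCommutative B})
    ⟨⊥, inferInstance, bot_le, ⟨⟨fun x y => Subsingleton.elim _ _⟩⟩⟩
  refine ⟨A, hAn, hAM, hAc, ?_⟩
  haveI := hAn
  set D := M ⊓ Subgroup.centralizer (A : Set H) with hD
  have hAD : A ≤ D := le_inf hAM fun x hx => Subgroup.mem_centralizer_iff.mpr fun y hy =>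
    congrArg Subtype.val (hAc.is_comm.comm (⟨y, hy⟩ : A) ⟨x, hx⟩)
  haveI : D.Normal := Subgroup.normal_inf_normal _ _
  by_contra hne
  haveI : Group.IsSolvable M := inferInstance
  haveI : Group.IsSolvable D := solvable_of_solvable_injective (Subgroup.inclusion_injective (inf_le_left : D ≤ M))
  obtain ⟨n, hn⟩ := (inferInstance : Group.IsSolvable D).solvable
  let f : ℕ → Subgroup H := fun k => (derivedSeries D k).map D.subtype
  have hex : ∃ k, f k ≤ A := ⟨n, by simp only [f, hn, Subgroup.map_bot, bot_le]⟩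
  obtain ⟨k, hk, hk'⟩ : ∃ k, ¬ f k ≤ A ∧ f (k + 1) ≤ A := by
    have h0 : ¬ f 0 ≤ A := fun h => hne (le_antisymm (by
      simpa [f, derivedSeries_zero, ← MonoidHom.range_eq_map] using h) hAD)
    by_contra hh
    push Not at hh
    obtain ⟨j, hj⟩ := hex
    exact absurd hj (Nat.rec h0 (fun i hi => hh i hi) j)
  haveI : (f k).Normal := ConjAct.normal_of_characteristic_of_normal
  set E := f k ⊔ A with hE
  haveI : E.Normal := Subgroup.sup_normal _ _
  have hfkD : f k ≤ D := Subgroup.map_subtype_le _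
  have hED : E ≤ D := sup_le hfkD hAD
  have hEM : E ≤ M := hED.trans inf_le_left
  -- commutators of `E` lie in `A`, which is central in `E`
  have hEA : ∀ x ∈ E, ∀ a ∈ A, a * x = x * a := fun x hx a ha =>
    Subgroup.mem_centralizer_iff.mp (inf_le_right (a := M) (hED hx)) a ha
  have hcomm : ⁅E, E⁆ ≤ A := by
    rw [Subgroup.commutator_le]
    intro x hx y hy
    obtain ⟨x₁, hx₁, a, ha, rfl⟩ := Subgroup.mem_sup_of_normal_right.mp hx
    obtain ⟨y₁, hy₁, b, hb, rfl⟩ := Subgroup.mem_sup_of_normal_right.mp hy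
    rw [← QuotientGroup.eq_one_iff, ← QuotientGroup.mk'_apply, map_commutatorElement, map_mul, map_mul,
      (QuotientGroup.eq_one_iff a).mpr ha |> fun h => (show QuotientGroup.mk' A a = 1 from h),
      (QuotientGroup.eq_one_iff b).mpr hb |> fun h => (show QuotientGroup.mk' A b = 1 from h), mul_one, mul_one,
      ← map_commutatorElement, QuotientGroup.mk'_apply, QuotientGroup.eq_one_iff]
    refine hk' ?_
    show _ ∈ (derivedSeries D (k + 1)).map D.subtype
    rw [derivedSeries_succ, Subgroup.map_commutator]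
    exact Subgroup.commutator_mem_commutator hx₁ hy₁
  haveI : IsZGroup E := IsZGroup.of_injective (Subgroup.inclusion_injective hEM)
  haveI : Group.IsNilpotent E := by
    rw [Subgroup.nilpotent_iff_lowerCentralSeries]
    refine ⟨2, (Subgroup.eq_bot_iff_forall _).mpr ?_⟩
    suffices h : (⁅⁅(⊤ : Subgroup E), ⊤⁆, ⊤⁆ : Subgroup E) = ⊥ from fun x hx => by
      have : x ∈ (⊥ : Subgroup E) := by rw [← h]; exact hx
      exact this
    rw [Subgroup.commutator_eq_bot_iff_le_centralizer, Subgroup.commutator_le]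
    intro x _ y _
    refine Subgroup.mem_centralizer_iff.mpr fun w _ => Subtype.ext ?_
    exact (hEA w w.2 _ (hcomm (Subgroup.commutator_mem_commutator x.2 y.2))).symm
  haveI : IsCyclic E := inferInstance
  exact hk (le_trans le_sup_left (hmax (y := E) ⟨inferInstance, hEM, ⟨⟨(IsCyclic.commGroup (α := E)).mul_comm⟩⟩⟩
    le_sup_right))

variable {p : ℕ} [Fact p.Prime] {V : Type*} [AddCommGroup V] [Module (ZMod p) V] [Finite V]
  {H : Subgroup (V ≃ₗ[ZMod p] V)}
  (hreg : ∀ v w : V, v ≠ 0 → w ≠ 0 → ∃! h : H, (h : V ≃ₗ[ZMod p] V) v = w)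
include hreg

/-- The centralizer of an irreducible abelian subgroup is abelian. -/
theorem centralizer_comm_of_irreducible (A : Subgroup H) (hAc : IsMulCommutative A)
    (hirr : ∀ W : Submodule (ZMod p) V, (∀ a ∈ A, ∀ v ∈ W, ((a : H) : V ≃ₗ[ZMod p] V) v ∈ W) → W = ⊥ ∨ W = ⊤)
    {x y : H} (hx : x ∈ Subgroup.centralizer (A : Set H)) (hy : y ∈ Subgroup.centralizer (A : Set H)) :
    x * y = y * x := by
  rcases subsingleton_or_nontrivial V with h | h
  · exact Subtype.ext (LinearEquiv.ext fun v => Subsingleton.elim _ _)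
  obtain ⟨w₀, hw₀⟩ := exists_ne (0 : V)
  let L : H → Module.End (ZMod p) V := fun h => ((h : V ≃ₗ[ZMod p] V) : V →ₗ[ZMod p] V)
  let R : Submodule (ZMod p) (Module.End (ZMod p) V) := Submodule.span (ZMod p) (L '' (A : Set H))
  have hcom : ∀ f ∈ R, ∀ h ∈ Subgroup.centralizer (A : Set H), ∀ v, f (L h v) = L h (f v) := by
    intro f hf h hh
    induction hf using Submodule.span_induction with
    | mem g hg =>
        obtain ⟨a, ha, rfl⟩ := hg
        exact fun v => congrArg (fun e : H => (e : V ≃ₗ[ZMod p] V) v) (Subgroup.mem_centralizer_iff.mp hh a ha)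
    | zero => intro v; simp
    | add f g _ _ hf hg => intro v; simp [hf v, hg v]
    | smul c f _ hf => intro v; simp [hf v]
  have hAcl : ∀ f ∈ R, ∀ a ∈ A, L a * f ∈ R := by
    intro f hf a ha
    induction hf using Submodule.span_induction with
    | mem g hg =>
        obtain ⟨b, hb, rfl⟩ := hg
        exact Submodule.subset_span ⟨a * b, mul_mem ha hb, rfl⟩
    | zero => simp
    | add f g _ _ hf hg => rw [mul_add]; exact add_mem hf hg
    | smul c f _ hf => rw [mul_smul_comm]; exact Submodule.smul_mem _ c hf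
  let W : Submodule (ZMod p) V := R.map (LinearMap.applyₗ w₀)
  have hW : W = ⊤ := by
    refine (hirr W ?_).resolve_left ?_
    · rintro a ha _ ⟨f, hf, rfl⟩
      exact ⟨L a * f, hAcl f hf a ha, rfl⟩
    · intro h0
      have : w₀ ∈ W := ⟨L 1, Submodule.subset_span ⟨1, one_mem A, rfl⟩, rfl⟩
      rw [h0] at this
      exact hw₀ ((Submodule.mem_bot _).mp this)
  have hrep : ∀ v : V, ∃ f ∈ R, f w₀ = v := fun v => by
    have : v ∈ W := hW ▸ Submodule.mem_top
    obtain ⟨f, hf, hfv⟩ := this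
    exact ⟨f, hf, hfv⟩
  obtain ⟨fy, hfy, hfy'⟩ := hrep (L y w₀)
  have hy' : ∀ v, L y v = fy v := by
    intro v
    obtain ⟨g, hg, rfl⟩ := hrep v
    rw [← hcom g hg y hy, ← hfy']
    have hgf : ∀ f ∈ R, g (f w₀) = f (g w₀) := by
      intro f hf
      induction hf using Submodule.span_induction with
      | mem e he =>
          obtain ⟨a, ha, rfl⟩ := he
          exact hcom g hg a (Subgroup.mem_centralizer_iff.mpr fun b hb =>
            congrArg Subtype.val (hAc.is_comm.comm (⟨b, hb⟩ : A) ⟨a, ha⟩)) w₀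
      | zero => simp
      | add f g _ _ hf hg => simp [hf, hg]
      | smul c f _ hf => simp [hf]
    exact hgf fy hfy
  refine Subtype.ext (LinearEquiv.ext fun v => ?_)
  show L x (L y v) = L y (L x v)
  rw [hy', hy', hcom fy hfy x hx]

/-- **Zassenhaus**: the three insoluble exceptional cases. -/
theorem type_three (hsolv : ¬ Group.IsSolvable H) :
    ∃ (a : ℕ) (M : Subgroup H), ((p = 11 ∧ a = 1) ∨ (p = 29 ∧ a = 7) ∨ (p = 59 ∧ a = 29)) ∧
      Nat.card V = p ^ 2 ∧ Nat.card M = a ∧
      Nonempty (H ≃* Matrix.SpecialLinearGroup (Fin 2) (ZMod 5) × Multiplicative (ZMod a)) := by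
  classical
  haveI : Finite (V ≃ₗ[ZMod p] V) := Finite.of_injective _ DFunLike.coe_injective
  haveI : Nontrivial V := by
    by_contra hV
    rw [not_nontrivial_iff_subsingleton] at hV
    haveI : Subsingleton H := ⟨fun a b => Subtype.ext (LinearEquiv.ext fun v => Subsingleton.elim _ _)⟩
    exact hsolv inferInstance
  have hHcard : Nat.card H + 1 = Nat.card V := by
    obtain ⟨v₀, hv₀⟩ := exists_ne (0 : V)
    have hbij : Function.Bijective (fun h : H =>
        (⟨(h : V ≃ₗ[ZMod p] V) v₀, by simpa using hv₀⟩ : {v : V // v ≠ 0})) := by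
      refine ⟨fun g h e => ?_, fun v => ?_⟩
      · obtain ⟨w, -, hw⟩ := hreg v₀ ((h : V ≃ₗ[ZMod p] V) v₀) hv₀ (by simpa using hv₀)
        exact (hw g (congrArg Subtype.val e)).trans (hw h rfl).symm
      · obtain ⟨h, hh, -⟩ := hreg v₀ v.1 hv₀ v.2
        exact ⟨h, Subtype.ext hh⟩
    haveI := Fintype.ofFinite V
    rw [Nat.card_congr (Equiv.ofBijective _ hbij), Nat.card_eq_fintype_card, Fintype.card_subtype_compl,
      Fintype.card_subtype_eq, Nat.card_eq_fintype_card]
    have : 0 < Fintype.card V := Fintype.card_pos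
    omega
  let ρ : H →* Module.End (ZMod p) V :=
    { toFun := fun h => ((h : V ≃ₗ[ZMod p] V) : V →ₗ[ZMod p] V)
      map_one' := rfl
      map_mul' := fun _ _ => rfl }
  have hfpf : ∀ g : H, g ≠ 1 → ∀ v : V, ρ g v = v → v = 0 := fun g hg v hv => by
    by_contra hv0
    exact hg (Cfsg.Lib.Perm.NearFieldAb.semiregular hreg hv0 hv)
  obtain ⟨G₀, hG₀n, hG₀i, S, M, hSn, hSM, hSMd, hcom, ⟨e⟩, hMsyl, hM30⟩ := nonsolvable_structure ρ hfpf hsolv
  haveI := hSn
  haveI := hG₀n
  have hModd : ¬ 2 ∣ Nat.card M := fun h => by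
    have := Nat.dvd_gcd h (by norm_num : 2 ∣ 30)
    rw [hM30] at this
    norm_num at this
  have hcard2 := card_center_eq_two e
  -- `M` is normal
  haveI hMn : M.Normal := by
    refine ⟨fun y hy h => ?_⟩
    have hw : h * y * h⁻¹ ∈ G₀ := hG₀n.conj_mem y (hSM ▸ Subgroup.mem_sup_right hy) h
    rw [← hSM] at hw
    obtain ⟨s, hs, y', hy', he⟩ := Subgroup.mem_sup_of_normal_left.mp hw
    suffices s = 1 by rw [← he, this, one_mul]; exact hy'
    have hwC : ∀ t ∈ S, t * (h * y * h⁻¹) = h * y * h⁻¹ * t := fun t ht => by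
      have h1 := hcom _ (hSn.conj_mem t ht h⁻¹) y hy
      calc t * (h * y * h⁻¹) = h * ((h⁻¹ * t * h⁻¹⁻¹) * y) * h⁻¹ := by group
      _ = h * (y * (h⁻¹ * t * h⁻¹⁻¹)) * h⁻¹ := by rw [h1]
      _ = _ := by group
    have hsC : (⟨s, hs⟩ : S) ∈ Subgroup.center S := Subgroup.mem_center_iff.mpr fun t => Subtype.ext (by
      have h1 := hwC t t.2
      rw [← he, ← mul_assoc, mul_assoc s y', ← hcom t t.2 y' hy', ← mul_assoc] at h1
      exact mul_right_cancel h1)
    have hs2 : s * s = 1 := by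
      have h2 : orderOf (⟨⟨s, hs⟩, hsC⟩ : Subgroup.center S) ∣ 2 := hcard2 ▸ orderOf_dvd_natCard _
      rw [orderOf_dvd_iff_pow_eq_one, pow_two] at h2
      exact congrArg Subtype.val (congrArg Subtype.val h2)
    have hwm : (s * y') ^ Nat.card M = 1 := by
      rw [he, conj_pow, show y ^ Nat.card M = 1 from congrArg Subtype.val (pow_card_eq_one' (x := (⟨y, hy⟩ : M))),
        mul_one, mul_inv_cancel]
    rw [(show Commute s y' from hcom s hs y' hy').mul_pow,
      show y' ^ Nat.card M = 1 from congrArg Subtype.val (pow_card_eq_one' (x := (⟨y', hy'⟩ : M))), mul_one,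
      ← Nat.div_add_mod (Nat.card M) 2, pow_add, pow_mul, pow_two, hs2, one_pow, one_mul,
      (by omega : Nat.card M % 2 = 1), pow_one] at hwm
    exact hwm
  haveI : IsZGroup M := ⟨fun q hq P => by haveI := Fact.mk hq; exact hMsyl q P⟩
  obtain ⟨A, hAn, hAM, hAc, hMA⟩ := exists_self_centralizing M
  haveI := hAn
  obtain ⟨W, -, hW0, hinv, hmin⟩ :=
    Cfsg.Lib.Perm.NearFieldAb.exists_min_inv A (⊤ : Submodule (ZMod p) V) top_ne_bot (fun _ _ _ _ => trivial)
  obtain ⟨⟨m, hm⟩, hidx⟩ := Cfsg.Lib.Perm.NearFieldAb.semilinear_bound hreg A hAn hAc W hW0 hinv hmin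
  obtain ⟨-, hAdvd⟩ := Cfsg.Lib.Perm.NearFieldAb.cyclic_of_minimal hreg A hAc W hW0 hinv hmin
  set C := Subgroup.centralizer (A : Set H) with hC
  have hSC : S ≤ C := fun s hs => Subgroup.mem_centralizer_iff.mpr fun a ha => (hcom s hs a (hAM ha)).symm
  -- the centralizer inside `G₀`
  have hGC : G₀ ⊓ C = S ⊔ A := by
    refine le_antisymm ?_ (le_inf (sup_le (hSM ▸ le_sup_left) (hAM.trans (hSM ▸ le_sup_right)))
      (sup_le hSC fun x hx => Subgroup.mem_centralizer_iff.mpr fun y hy =>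
        congrArg Subtype.val (hAc.is_comm.comm (⟨y, hy⟩ : A) ⟨x, hx⟩)))
    intro w hw
    obtain ⟨hwG, hwC⟩ := Subgroup.mem_inf.mp hw
    rw [← hSM] at hwG
    obtain ⟨s, hs, y, hy, rfl⟩ := Subgroup.mem_sup_of_normal_left.mp hwG
    refine mul_mem (Subgroup.mem_sup_left hs) (Subgroup.mem_sup_right ?_)
    rw [← hMA]
    exact ⟨hy, (Subgroup.mul_mem_cancel_left C (hSC hs)).mp hwC⟩
  let f : S × A →* H := MonoidHom.noncommCoprod S.subtype A.subtype (fun s a => hcom s s.2 a (hAM a.2))
  have hfinj : Function.Injective f := by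
    rw [injective_iff_map_eq_one]
    rintro ⟨s, a⟩ h
    have h1 : (s : H) * a = 1 := h
    have h2 : (a : H) ∈ S ⊓ M :=
      Subgroup.mem_inf.mpr ⟨by rw [eq_inv_of_mul_eq_one_right h1]; exact S.inv_mem s.2, hAM a.2⟩
    rw [hSMd] at h2
    have ha : (a : H) = 1 := h2
    rw [ha, mul_one] at h1
    exact Prod.ext (Subtype.ext h1) (Subtype.ext ha)
  have hSA : Nat.card (S ⊔ A : Subgroup H) = 120 * Nat.card A := by
    have hr : f.range = S ⊔ A := by
      exact (MonoidHom.noncommCoprod_range _ _ _).trans (by rw [Subgroup.range_subtype, Subgroup.range_subtype])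
    rw [← hr, ← Nat.card_congr (MonoidHom.ofInjective hfinj).toEquiv, Nat.card_prod, card_eq_120 e]
  obtain ⟨c, hc, hCc⟩ : ∃ c, (c = 1 ∨ c = 2) ∧ Nat.card C = c * (120 * Nat.card A) := by
    refine ⟨(G₀ ⊓ C).relIndex C, ?_, ?_⟩
    · rw [Subgroup.inf_relIndex_right]
      have h1 : G₀.relIndex C ∣ 2 := (Subgroup.relIndex_dvd_index_of_normal G₀ C).trans (by
        rcases hG₀i with h | h <;> rw [h] <;> norm_num)
      exact (Nat.dvd_prime Nat.prime_two).mp h1
    · rw [← hSA, ← hGC, mul_comm]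
      exact (Subgroup.card_mul_index ((G₀ ⊓ C).subgroupOf C)).symm.trans
        (congrArg (· * _) (Nat.card_congr (Subgroup.subgroupOfEquivOfLe (inf_le_right : G₀ ⊓ C ≤ C)).toEquiv))
  have hp := (Fact.out : p.Prime)
  have hHC : Nat.card H = C.index * (c * (120 * Nat.card A)) := by
    rw [← hCc, mul_comm]; exact C.card_mul_index.symm
  obtain ⟨d, hd⟩ : ∃ d, Module.finrank (ZMod p) W = d := ⟨_, rfl⟩
  have hWcard : Nat.card W = p ^ d := by
    rw [Module.natCard_eq_pow_finrank (K := ZMod p) (V := W), Nat.card_zmod, hd]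
  rw [hd] at hidx
  rw [hWcard] at hm hAdvd
  have hd1 : 1 ≤ d := by
    haveI := (Submodule.nontrivial_iff_ne_bot).mpr hW0
    rw [← hd]
    exact Module.finrank_pos
  have hp7 : 7 ≤ p := by
    have hnd : ∀ q : ℕ, q.Prime → q ∣ 120 → p ≠ q := by
      intro q hq h120 he
      subst he
      refine not_dvd_card ρ hfpf ?_
      exact (h120.trans ⟨C.index * c * Nat.card A, by rw [hHC]; ring⟩)
    have := hnd 2 Nat.prime_two (by norm_num)
    have := hnd 3 Nat.prime_three (by norm_num)
    have := hnd 5 (by norm_num) (by norm_num)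
    have h4 : p ≠ 4 := fun h => by rw [h] at hp; norm_num at hp
    have h6 : p ≠ 6 := fun h => by rw [h] at hp; norm_num at hp
    have := hp.two_le
    omega
  have hm2 : 2 ≤ m := by
    by_contra hh
    have hWV : W = ⊤ := by
      apply Submodule.eq_top_of_finrank_eq
      have h1 := Module.natCard_eq_pow_finrank (K := ZMod p) (V := V)
      rw [Nat.card_zmod, hm, ← pow_mul] at h1
      have h2 := Nat.pow_right_injective hp.two_le h1
      have h3 : 0 < Module.finrank (ZMod p) V := Module.finrank_pos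
      rcases (by omega : m = 0 ∨ m = 1) with rfl | rfl
      · omega
      · rw [hd]; simpa using h2
    have hns : ¬ IsMulCommutative S := fun h => by
      have h1 : Subgroup.center S = ⊤ :=
        Subgroup.eq_top_iff' _ |>.mpr fun x => Subgroup.mem_center_iff.mpr fun y => h.is_comm.comm y x
      rw [h1, Subgroup.card_top, card_eq_120 e] at hcard2
      omega
    refine hns ⟨⟨fun x y => Subtype.ext ?_⟩⟩
    exact centralizer_comm_of_irreducible hreg A hAc (fun U hU => by
      have := hmin U (hWV ▸ le_top) hU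
      rwa [hWV] at this) (hSC x.2) (hSC y.2)
  have hA30 : Nat.Coprime (Nat.card A) 30 :=
    Nat.Coprime.coprime_dvd_left (Subgroup.card_dvd_of_le hAM) hM30
  obtain ⟨rfl, rfl, hk, rfl, hpa⟩ := type_three_arith hp hp7 hd1 hm2 hidx hc hA30 hAdvd
    (by rw [← hHC, hHcard, hm])
  have hCtop : C = ⊤ := Subgroup.index_eq_one.mp hk
  have hMeq : M = A := by rw [← hMA, hCtop, inf_top_eq]
  have hfsurj : Function.Surjective f := by
    refine ((Nat.bijective_iff_injective_and_card f).mpr ⟨hfinj, ?_⟩).2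
    rw [Nat.card_prod, card_eq_120 e, hHC, hk, one_mul, one_mul]
  haveI : IsCyclic A := (Cfsg.Lib.Perm.NearFieldAb.cyclic_of_minimal hreg A hAc W hW0 hinv hmin).1
  refine ⟨Nat.card A, M, hpa, by rw [hm, pow_one], by rw [hMeq], ⟨(MulEquiv.ofBijective f ⟨hfinj, hfsurj⟩).symm.trans
    (MulEquiv.prodCongr e (zmodCyclicMulEquiv inferInstance).symm)⟩⟩

end Cfsg.Lib.Perm.Zas25
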