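import Cfsg.Agent.Lib.Perm.Zas25.SolvableRegular
import Cfsg.Agent.Lib.Perm.Zas25.TypeThree

/-!
# Solvable linear groups regular on the non-zero vectors: the semilinear case
-/

set_option autoImplicit false
set_option linter.style.haveILetI false

namespace Cfsg.Lib.Perm.Zas25

open scoped commutatorElement

variable {p : ℕ} [Fact p.Prime] {V : Type*} [AddCommGroup V] [Module (ZMod p) V] [Finite V] [Nontrivial V]
  {H : Subgroup (V ≃ₗ[ZMod p] V)}
  (hreg : ∀ v w : V, v ≠ 0 → w ≠ 0 → ∃! h : H, (h : V ≃ₗ[ZMod p] V) v = w)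

omit [Nontrivial V] in
set_option maxHeartbeats 1000000 in
/-- A group normalizing an irreducible abelian subgroup is semilinear. -/
theorem semilinear_of_irreducible [Nontrivial V] (A : Subgroup H) [hAn : A.Normal] (hAc : IsMulCommutative A)
    (hirr : ∀ W : Submodule (ZMod p) V, (∀ a ∈ A, ∀ v ∈ W, ((a : H) : V ≃ₗ[ZMod p] V) v ∈ W) → W = ⊥ ∨ W = ⊤) :
    ∃ (F : Type) (_ : Field F) (_ : Fintype F) (e : V ≃+ F),
      ∀ h : H, ∃ (a : F) (σ : F ≃+* F), ∀ v : V, e ((h : V ≃ₗ[ZMod p] V) v) = a * σ (e v) := by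
  classical
  obtain ⟨w₀, hw₀⟩ := exists_ne (0 : V)
  let r : A →* Module.End (ZMod p) V :=
    { toFun := fun a => (((a : H) : V ≃ₗ[ZMod p] V) : V →ₗ[ZMod p] V)
      map_one' := rfl
      map_mul' := fun _ _ => rfl }
  have hcomm : ∀ x ∈ Set.range r, ∀ y ∈ Set.range r, x * y = y * x := by
    rintro _ ⟨a, rfl⟩ _ ⟨b, rfl⟩
    rw [← map_mul, ← map_mul, hAc.is_comm.comm a b]
  let R := Subring.closure (Set.range r)
  letI : CommRing R := Subring.closureCommRingOfComm hcomm
  let cj : H → (Module.End (ZMod p) V →+* Module.End (ZMod p) V) := fun h =>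
    { toFun := fun φ => ((h : V ≃ₗ[ZMod p] V) : V →ₗ[ZMod p] V) * φ *
        (((h : V ≃ₗ[ZMod p] V).symm : V ≃ₗ[ZMod p] V) : V →ₗ[ZMod p] V)
      map_one' := LinearMap.ext fun v => (h : V ≃ₗ[ZMod p] V).apply_symm_apply v
      map_mul' := fun φ ψ => LinearMap.ext fun v => by simp
      map_zero' := LinearMap.ext fun v => by simp
      map_add' := fun φ ψ => LinearMap.ext fun v => by simp }
  have hcjR : ∀ (h : H), ∀ φ ∈ R, cj h φ ∈ R := by
    intro h
    have : R ≤ R.comap (cj h) := Subring.closure_le.mpr fun _ ⟨a, ha⟩ => ha ▸ Subring.subset_closure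
      ⟨⟨h * a * h⁻¹, hAn.conj_mem a a.2 h⟩, LinearMap.ext fun v => rfl⟩
    exact fun φ hφ => this hφ
  have hcj : ∀ (h : H) φ (v : V), cj h φ ((h : V ≃ₗ[ZMod p] V) v) = (h : V ≃ₗ[ZMod p] V) (φ v) := fun h φ v => by
    simp [cj]
  have hinj : ∀ φ : R, φ ≠ 0 → Function.Injective (φ : Module.End (ZMod p) V) := by
    intro φ hφ
    rw [← LinearMap.ker_eq_bot]
    refine (hirr _ fun a ha v hv => ?_).resolve_right fun h => hφ (Subtype.ext (LinearMap.ker_eq_top.mp h))
    have hc : φ * (⟨r ⟨a, ha⟩, Subring.subset_closure ⟨_, rfl⟩⟩ : R) =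
        (⟨r ⟨a, ha⟩, Subring.subset_closure ⟨_, rfl⟩⟩ : R) * φ := mul_comm _ _
    have h1 := LinearMap.congr_fun (congrArg Subtype.val hc) v
    rw [LinearMap.mem_ker] at hv ⊢
    refine h1.trans ?_
    show ((a : H) : V ≃ₗ[ZMod p] V) ((φ : Module.End (ZMod p) V) v) = 0
    rw [hv, map_zero]
  haveI : Nontrivial R := ⟨⟨1, 0, fun e => hw₀ (LinearMap.congr_fun (congrArg Subtype.val e) w₀)⟩⟩
  haveI : NoZeroDivisors R := ⟨fun {φ ψ} h' => by
    by_contra hh
    push Not at hh
    refine hh.2 (Subtype.ext (LinearMap.ext fun v => hinj φ hh.1 ?_))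
    show (φ : Module.End (ZMod p) V) ((ψ : Module.End (ZMod p) V) v) = (φ : Module.End (ZMod p) V) 0
    rw [map_zero]
    exact LinearMap.congr_fun (congrArg Subtype.val h') v⟩
  haveI : IsDomain R := NoZeroDivisors.to_isDomain R
  haveI : Finite (Module.End (ZMod p) V) := Finite.of_injective _ DFunLike.coe_injective
  letI : Field R := (Finite.isDomain_to_isField R).toField
  haveI : Fintype R := Fintype.ofFinite R
  -- evaluation
  let ev : R →+ V :=
    { toFun := fun φ => (φ : Module.End (ZMod p) V) w₀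
      map_zero' := rfl
      map_add' := fun _ _ => rfl }
  have hev : Function.Bijective ev := by
    constructor
    · intro φ ψ h
      by_contra hne
      exact hw₀ (hinj (φ - ψ) (sub_ne_zero.mpr hne) (a₁ := w₀) (a₂ := 0) (by
        rw [map_zero]
        show (φ : Module.End (ZMod p) V) w₀ - (ψ : Module.End (ZMod p) V) w₀ = 0
        exact sub_eq_zero.mpr h))
    · intro v
      let S : Submodule (ZMod p) V :=
        { carrier := Set.range ev
          zero_mem' := ⟨0, rfl⟩
          add_mem' := by rintro _ _ ⟨φ, rfl⟩ ⟨ψ, rfl⟩; exact ⟨φ + ψ, rfl⟩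
          smul_mem' := by
            rintro c _ ⟨φ, rfl⟩
            refine ⟨(c.val : R) * φ, ?_⟩
            conv_rhs => rw [← ZMod.natCast_zmod_val c, Nat.cast_smul_eq_nsmul (R := ZMod p)]
            rw [show (c.val : R) * φ = c.val • φ by rw [nsmul_eq_mul]]
            exact map_nsmul ev _ _ }
      have hS : S = ⊤ := by
        refine (hirr S ?_).resolve_left fun h => ?_
        · rintro a ha _ ⟨φ, rfl⟩
          exact ⟨⟨r ⟨a, ha⟩, Subring.subset_closure ⟨_, rfl⟩⟩ * φ, rfl⟩
        · have : w₀ ∈ S := ⟨1, rfl⟩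
          rw [h, Submodule.mem_bot] at this
          exact hw₀ this
      have : v ∈ S := hS ▸ Submodule.mem_top
      exact this
  let eR : R ≃+ V := AddEquiv.ofBijective ev hev
  have hcard : Nat.card R = p ^ Module.finrank (ZMod p) V := by
    rw [Nat.card_congr eR.toEquiv, Module.natCard_eq_pow_finrank (K := ZMod p) (V := V), Nat.card_zmod]
  have hd : Module.finrank (ZMod p) V ≠ 0 := Module.finrank_pos.ne'
  haveI : Fintype (GaloisField p (Module.finrank (ZMod p) V)) := Fintype.ofFinite _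
  let ι : R ≃+* GaloisField p (Module.finrank (ZMod p) V) := FiniteField.ringEquivOfCardEq (by
    rw [← Nat.card_eq_fintype_card, ← Nat.card_eq_fintype_card, hcard, GaloisField.card p _ hd])
  refine ⟨GaloisField p (Module.finrank (ZMod p) V), inferInstance, inferInstance,
    eR.symm.trans ι.toAddEquiv, fun h => ?_⟩
  let σ₀ : R →+* R := (cj h).restrict R R (hcjR h)
  let σ : R ≃+* R := RingEquiv.ofBijective σ₀ (Finite.injective_iff_bijective.mp σ₀.injective)
  refine ⟨ι (eR.symm ((h : V ≃ₗ[ZMod p] V) w₀)), (ι.symm.trans σ).trans ι, fun v => ?_⟩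
  obtain ⟨φ, rfl⟩ := eR.surjective v
  show ι (eR.symm ((h : V ≃ₗ[ZMod p] V) (eR φ))) =
    ι (eR.symm ((h : V ≃ₗ[ZMod p] V) w₀)) * ι (σ (ι.symm (ι (eR.symm (eR φ)))))
  rw [eR.symm_apply_apply, ι.symm_apply_apply, ← map_mul]
  congr 1
  rw [AddEquiv.symm_apply_eq]
  set c := eR.symm ((h : V ≃ₗ[ZMod p] V) w₀) with hc
  have hcv : (c : Module.End (ZMod p) V) w₀ = (h : V ≃ₗ[ZMod p] V) w₀ := eR.apply_symm_apply _
  rw [mul_comm c]
  show (h : V ≃ₗ[ZMod p] V) ((φ : Module.End (ZMod p) V) w₀) =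
    ((σ φ : R) : Module.End (ZMod p) V) ((c : Module.End (ZMod p) V) w₀)
  rw [hcv]
  exact (hcj h φ w₀).symm

include hreg

/-- **Zassenhaus**, the solvable case. -/
theorem solvable_regular (hsolv : Group.IsSolvable H) :
    ((∃ (F : Type) (_ : Field F) (_ : Fintype F) (e : V ≃+ F),
        ∀ h : H, ∃ (a : F) (σ : F ≃+* F), ∀ v : V, e ((h : V ≃ₗ[ZMod p] V) v) = a * σ (e v)) ∨
      Nat.card V ∈ ({25, 49, 121, 529} : Set ℕ)) ∧
    (p ≠ 2 → (∃ N : Subgroup H, N.Normal ∧ N.index = 2) ∨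
      (Nat.card V = 25 ∧ Nonempty (H ≃* Matrix.SpecialLinearGroup (Fin 2) (ZMod 3))) ∨
      (Nat.card V = 121 ∧ Nonempty (H ≃* Matrix.SpecialLinearGroup (Fin 2) (ZMod 3) × Multiplicative (ZMod 5)))) := by
  classical
  haveI : Finite (V ≃ₗ[ZMod p] V) := Finite.of_injective _ DFunLike.coe_injective
  let ρ : H →* Module.End (ZMod p) V :=
    { toFun := fun h => ((h : V ≃ₗ[ZMod p] V) : V →ₗ[ZMod p] V)
      map_one' := rfl
      map_mul' := fun _ _ => rfl }
  have hfpf : ∀ g : H, g ≠ 1 → ∀ v : V, ρ g v = v → v = 0 := fun g hg v hv => by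
    by_contra hv0
    exact hg (Cfsg.Lib.Perm.NearFieldAb.semiregular hreg hv0 hv)
  -- irreducible cyclic normal subgroups
  have key : (∀ A : Subgroup H, A.Normal → IsCyclic A → ∃ W : Submodule (ZMod p) V,
      W ≠ ⊥ ∧ W ≠ ⊤ ∧ ∀ a ∈ A, ∀ v ∈ W, ((a : H) : V ≃ₗ[ZMod p] V) v ∈ W) ∨
    ∃ A : Subgroup H, A.Normal ∧ IsMulCommutative A ∧ IsCyclic A ∧ ∀ W : Submodule (ZMod p) V,
      (∀ a ∈ A, ∀ v ∈ W, ((a : H) : V ≃ₗ[ZMod p] V) v ∈ W) → W = ⊥ ∨ W = ⊤ := by
    by_cases h : ∀ A : Subgroup H, A.Normal → IsCyclic A → ∃ W : Submodule (ZMod p) V,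
        W ≠ ⊥ ∧ W ≠ ⊤ ∧ ∀ a ∈ A, ∀ v ∈ W, ((a : H) : V ≃ₗ[ZMod p] V) v ∈ W
    · exact Or.inl h
    · push Not at h
      obtain ⟨A, hAn, hAc, hA⟩ := h
      refine Or.inr ⟨A, hAn, ⟨⟨fun a b => by letI := IsCyclic.commGroup (α := A); exact mul_comm a b⟩⟩, hAc,
        fun W hW => or_iff_not_imp_left.mpr fun h0 => ?_⟩
      by_contra ht
      obtain ⟨a, ha, v, hv, hav⟩ := hA W h0 ht
      exact hav (hW a ha v hv)
  constructor
  · rcases key with hI | ⟨A, hAn, hAc, -, hirr⟩
    · right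
      rcases Cfsg.Lib.Perm.NearFieldAb.exceptional_degree hreg hI hsolv with h | h | h | h <;>
        simp only [Set.mem_insert_iff, Set.mem_singleton_iff] <;> omega
    · haveI := hAn
      exact Or.inl (semilinear_of_irreducible A hAc hirr)
  intro hp2
  have hHcard : Nat.card H + 1 = Nat.card V := by
    obtain ⟨v₀, hv₀⟩ := exists_ne (0 : V)
    have hbij : Function.Bijective (fun h : H =>
        (⟨(h : V ≃ₗ[ZMod p] V) v₀, by simpa using hv₀⟩ : {v : V // v ≠ 0})) := by
      refine ⟨fun g h e => ?_, fun v => ?_⟩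
      · obtain ⟨w, -, hw⟩ := hreg v₀ ((h : V ≃ₗ[ZMod p] V) v₀) hv₀ (by simpa using hv₀)
        exact (hw g (congrArg Subtype.val e)).trans (hw h rfl).symm
      · obtain ⟨h, hh, -⟩ := hreg v₀ v.1 hv₀ v.2
        exact ⟨h, Subtype.ext hh⟩
    haveI := Fintype.ofFinite V
    rw [Nat.card_congr (Equiv.ofBijective _ hbij), Nat.card_eq_fintype_card, Fintype.card_subtype_compl,
      Fintype.card_subtype_eq, Nat.card_eq_fintype_card]
    have : 0 < Fintype.card V := Fintype.card_pos
    omega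
  have heven : 2 ∣ Nat.card H := by
    have hodd : Nat.card V % 2 = 1 := by
      rw [Module.natCard_eq_pow_finrank (K := ZMod p) (V := V), Nat.card_zmod, Nat.pow_mod,
        ((Fact.out : p.Prime).eq_two_or_odd).resolve_left hp2]
      simp
    omega
  obtain ⟨N, hNn, hNz, ht⟩ := target_exists ρ hfpf
  rcases ht with h | ⟨f, hf, hk⟩ | ⟨f, hf, hk⟩ | ⟨f, hf, hk⟩ | ⟨f, hf, hk⟩ | ⟨f, hf, hk⟩
  · subst h
    haveI := hNz
    haveI : IsZGroup H := IsZGroup.of_surjective (f := (⊤ : Subgroup H).subtype) fun g => ⟨⟨g, trivial⟩, rfl⟩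
    exact Or.inl (zgroup_index_two heven)
  · refine Or.inl (index_two_of_surjective f hf (K := Subgroup.zpowers (DihedralGroup.r 1 : DihedralGroup 2)) ?_)
    have := (Subgroup.zpowers (DihedralGroup.r 1 : DihedralGroup 2)).card_mul_index
    rw [Nat.card_zpowers, DihedralGroup.orderOf_r_one, DihedralGroup.nat_card] at this
    omega
  · subst hk
    haveI := hNz
    have hA : Nat.card (alternatingGroup (Fin 4)) = 12 := by rw [Nat.card_eq_fintype_card]; decide +kernel
    have h12 : Nat.card f.ker * 12 = Nat.card H := by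
      have h1 := f.ker.card_mul_index
      rwa [Subgroup.index_ker, MonoidHom.range_eq_top.mpr hf, Subgroup.card_top, hA] at h1
    rcases key with hI | ⟨A, hAn, hAc, hAcyc, hirr⟩
    · have h4 := a4_kernel ρ hfpf f hf
      rcases Cfsg.Lib.Perm.NearFieldAb.exceptional_degree hreg hI hsolv with h | h | h | h
      · exact Or.inr (Or.inl ⟨h, sl23_of_card ρ hfpf (by omega) f hf⟩)
      · exact absurd (show 4 ∣ Nat.card f.ker by omega) h4
      · exact Or.inr (Or.inr ⟨h, sl23_times_five ρ hfpf (by omega) f hf⟩)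
      · exact absurd (show 4 ∣ Nat.card f.ker by omega) h4
    · exfalso
      haveI := hAn
      set C := Subgroup.centralizer (A : Set H)
      have hCc : IsMulCommutative C := ⟨⟨fun x y => Subtype.ext
        (centralizer_comm_of_irreducible hreg A hAc hirr x.2 y.2)⟩⟩
      haveI : IsCyclic C := Cfsg.Lib.Perm.NearFieldAb.abelian_cyclic hreg C hCc
      haveI : IsZGroup C := inferInstance
      have hle : C ≤ f.ker := le_ker_of_no_zgroup f hf no_zgroup_alt_four C
      have hcomm : commutator H ≤ C := by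
        rw [commutator_def, Subgroup.commutator_le]
        intro x _ y _
        refine Subgroup.mem_centralizer_iff.mpr fun a ha => ?_
        have hcom : ∀ u v : MulAut A, u * v = v * u := fun u v => by
          haveI := hAcyc
          apply (IsCyclic.mulAutMulEquiv A).injective
          rw [map_mul, map_mul, mul_comm]
        have h2 : (MulAut.conjNormal : H →* MulAut A) ⁅x, y⁆ = 1 := by
          rw [map_commutatorElement, commutatorElement_eq_one_iff_mul_comm]
          exact hcom _ _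
        have h3 := congrArg (fun e : MulAut A => ((e ⟨a, ha⟩ : A) : H)) h2
        simp only [MulAut.conjNormal_apply, MulAut.one_apply] at h3
        exact (mul_inv_eq_iff_eq_mul.mp h3).symm
      have hnc : ∃ u v : alternatingGroup (Fin 4), u * v ≠ v * u := by decide +kernel
      obtain ⟨u, v, huv⟩ := hnc
      obtain ⟨x, rfl⟩ := hf u
      obtain ⟨y, rfl⟩ := hf v
      have h4 : f ⁅x, y⁆ = 1 := hle (hcomm (Subgroup.commutator_mem_commutator (Subgroup.mem_top x) (Subgroup.mem_top y)))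
      rw [map_commutatorElement, commutatorElement_eq_one_iff_mul_comm] at h4
      exact huv h4
  · refine Or.inl (index_two_of_surjective f hf (K := alternatingGroup (Fin 4)) ?_)
    exact alternatingGroup.index_eq_two
  · exfalso
    haveI : IsSimpleGroup (alternatingGroup (Fin 5)) := alternatingGroup.isSimpleGroup_five
    haveI := hsolv
    haveI : Group.IsSolvable (alternatingGroup (Fin 5)) := solvable_of_surjective hf
    have h5 := IsSimpleGroup.comm_iff_isSolvable.mpr (inferInstance : Group.IsSolvable (alternatingGroup (Fin 5)))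
    have := h5 av5 ⟨finRotate 5, Equiv.Perm.mem_alternatingGroup.2 (by decide +kernel)⟩
    revert this
    decide +kernel
  · exact Or.inl (index_two_of_surjective f hf (K := alternatingGroup (Fin 5)) alternatingGroup.index_eq_two)

end Cfsg.Lib.Perm.Zas25
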