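import Mathlib

/-!
# Normal `Z`-subgroups of the six target groups
-/

set_option autoImplicit false
set_option linter.style.haveILetI false

namespace Cfsg.Lib.Perm.Zas25

open scoped commutatorElement

universe u

/-- Two distinct commuting involutions do not fit into a `Z`-group. -/
theorem zgroup_absurd {T : Type u} [Group T] [Finite T] (X : Subgroup T) [IsZGroup X] {v w : T} (hvX : v ∈ X)
    (hwX : w ∈ X) (hv : v * v = 1) (hw : w * w = 1) (hv1 : v ≠ 1) (hw1 : w ≠ 1) (hvw : v ≠ w)
    (hc : v * w = w * v) : False := by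
  classical
  let K : Subgroup T := Subgroup.closure {v, w}
  have hKX : K ≤ X := (Subgroup.closure_le X).mpr (by rintro x (rfl | rfl) <;> assumption)
  haveI : IsMulCommutative K := Subgroup.isMulCommutative_closure (by
    rintro x (rfl | rfl) y (rfl | rfl) <;> first | rfl | exact hc | exact hc.symm)
  haveI : IsZGroup K := IsZGroup.of_injective (Subgroup.inclusion_injective hKX)
  haveI : Group.IsNilpotent K := by
    letI : CommGroup K := { (inferInstance : Group K) with mul_comm := mul_comm' }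
    exact CommGroup.isNilpotent
  haveI : IsCyclic K := inferInstance
  let v' : K := ⟨v, Subgroup.subset_closure (Or.inl rfl)⟩
  let w' : K := ⟨w, Subgroup.subset_closure (Or.inr rfl)⟩
  haveI := Fintype.ofFinite K
  have hsub : ({1, v', w'} : Finset K) ⊆ Finset.univ.filter fun x : K => x ^ 2 = 1 := by
    intro x hx
    simp only [Finset.mem_insert, Finset.mem_singleton] at hx
    rw [Finset.mem_filter]
    refine ⟨Finset.mem_univ _, Subtype.ext ?_⟩
    rcases hx with rfl | rfl | rfl
    · simp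
    · simpa [pow_two, v'] using hv
    · simpa [pow_two, w'] using hw
  have h1 := Finset.card_le_card hsub
  have h2 := IsCyclic.card_pow_eq_one_le (α := K) (n := 2) (by norm_num)
  have h3 : ({1, v', w'} : Finset K).card = 3 :=
    Finset.card_eq_three.mpr ⟨1, v', w', fun h => hv1 (congrArg Subtype.val h).symm,
      fun h => hw1 (congrArg Subtype.val h).symm, fun h => hvw (congrArg Subtype.val h), rfl⟩
  omega

theorem comm_comm_mem {T : Type u} [Group T] {X : Subgroup T} [X.Normal] {x : T} (hx : x ∈ X) (a b : T) :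
    ⁅⁅x, a⁆, b⁆ ∈ X := by
  have h : ∀ y ∈ X, ∀ c : T, ⁅y, c⁆ ∈ X := fun y hy c => by
    rw [commutatorElement_def, mul_assoc, mul_assoc]
    exact X.mul_mem hy (by rw [← mul_assoc]; exact Subgroup.Normal.conj_mem ‹_› _ (X.inv_mem hy) c)
  exact h _ (h x hx a) b

def pv4 : Equiv.Perm (Fin 4) := Equiv.swap 0 1 * Equiv.swap 2 3

def pw4 : Equiv.Perm (Fin 4) := Equiv.swap 0 2 * Equiv.swap 1 3

def av4 : alternatingGroup (Fin 4) := ⟨pv4, Equiv.Perm.mem_alternatingGroup.2 (by decide +kernel)⟩

def aw4 : alternatingGroup (Fin 4) := ⟨pw4, Equiv.Perm.mem_alternatingGroup.2 (by decide +kernel)⟩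

theorem reach_perm_four : ∀ x : Equiv.Perm (Fin 4), x ≠ 1 →
    (∃ a b : Equiv.Perm (Fin 4), ⁅⁅x, a⁆, b⁆ = pv4) ∧ (∃ a b : Equiv.Perm (Fin 4), ⁅⁅x, a⁆, b⁆ = pw4) := by
  decide +kernel

theorem reach_alt_four : ∀ x : alternatingGroup (Fin 4), x ≠ 1 →
    (∃ a b : alternatingGroup (Fin 4), ⁅⁅x, a⁆, b⁆ = av4) ∧ (∃ a b : alternatingGroup (Fin 4), ⁅⁅x, a⁆, b⁆ = aw4) := by
  decide +kernel

theorem no_zgroup_perm_four (X : Subgroup (Equiv.Perm (Fin 4))) [X.Normal] [IsZGroup X] : X = ⊥ := by
  refine (Subgroup.eq_bot_iff_forall X).mpr fun x hx => by_contra fun hx1 => ?_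
  obtain ⟨⟨a, b, h1⟩, c, d, h2⟩ := reach_perm_four x hx1
  exact zgroup_absurd X (h1 ▸ comm_comm_mem hx a b) (h2 ▸ comm_comm_mem hx c d) (by decide +kernel)
    (by decide +kernel) (by decide +kernel) (by decide +kernel) (by decide +kernel) (by decide +kernel)

theorem no_zgroup_alt_four (X : Subgroup (alternatingGroup (Fin 4))) [X.Normal] [IsZGroup X] : X = ⊥ := by
  refine (Subgroup.eq_bot_iff_forall X).mpr fun x hx => by_contra fun hx1 => ?_
  obtain ⟨⟨a, b, h1⟩, c, d, h2⟩ := reach_alt_four x hx1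
  exact zgroup_absurd X (h1 ▸ comm_comm_mem hx a b) (h2 ▸ comm_comm_mem hx c d) (by decide +kernel)
    (by decide +kernel) (by decide +kernel) (by decide +kernel) (by decide +kernel) (by decide +kernel)

def av5 : alternatingGroup (Fin 5) :=
  ⟨Equiv.swap 0 1 * Equiv.swap 2 3, Equiv.Perm.mem_alternatingGroup.2 (by decide +kernel)⟩

def aw5 : alternatingGroup (Fin 5) :=
  ⟨Equiv.swap 0 2 * Equiv.swap 1 3, Equiv.Perm.mem_alternatingGroup.2 (by decide +kernel)⟩

theorem no_zgroup_alt_five (X : Subgroup (alternatingGroup (Fin 5))) [hX : X.Normal] [IsZGroup X] : X = ⊥ := by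
  haveI : IsSimpleGroup (alternatingGroup (Fin 5)) := alternatingGroup.isSimpleGroup_five
  refine hX.eq_bot_or_eq_top.resolve_right fun h => ?_
  exact zgroup_absurd X (v := av5) (w := aw5) (h ▸ Subgroup.mem_top _) (h ▸ Subgroup.mem_top _)
    (by decide +kernel) (by decide +kernel) (by decide +kernel) (by decide +kernel) (by decide +kernel)
    (by decide +kernel)

theorem centralizer_gens_five : ∀ x : Equiv.Perm (Fin 5),
    x * (av5 : Equiv.Perm (Fin 5)) = (av5 : Equiv.Perm (Fin 5)) * x →
    x * (finRotate 5) = finRotate 5 * x → x = 1 := by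
  decide +kernel

theorem no_zgroup_perm_five (X : Subgroup (Equiv.Perm (Fin 5))) [hX : X.Normal] [IsZGroup X] : X = ⊥ := by
  let Y := X.subgroupOf (alternatingGroup (Fin 5))
  haveI : Y.Normal := Subgroup.Normal.subgroupOf hX _
  let f : Y →* X := ((alternatingGroup (Fin 5)).subtype.comp Y.subtype).codRestrict X fun y => y.2
  haveI : IsZGroup Y := IsZGroup.of_injective (f := f) fun a b h =>
    Subtype.ext (Subtype.ext (congrArg Subtype.val h :))
  have hY := no_zgroup_alt_five Y
  have key : ∀ x ∈ X, ∀ c ∈ alternatingGroup (Fin 5), x * c = c * x := by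
    intro x hx c hc
    have h1 : ⁅x, c⁆ ∈ X := by
      rw [commutatorElement_def, mul_assoc, mul_assoc]
      exact X.mul_mem hx (by rw [← mul_assoc]; exact hX.conj_mem _ (X.inv_mem hx) c)
    have h2 : ⁅x, c⁆ ∈ alternatingGroup (Fin 5) := by
      rw [commutatorElement_def, Equiv.Perm.mem_alternatingGroup]
      simp [Equiv.Perm.sign_mul, Equiv.Perm.sign_inv, mul_comm, mul_left_comm]
    have h3 : (⟨_, h2⟩ : alternatingGroup (Fin 5)) ∈ Y := h1
    rw [hY, Subgroup.mem_bot] at h3
    exact commutatorElement_eq_one_iff_mul_comm.mp (congrArg Subtype.val h3)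
  refine (Subgroup.eq_bot_iff_forall X).mpr fun x hx => ?_
  exact centralizer_gens_five x (key x hx _ av5.2)
    (key x hx _ (Equiv.Perm.mem_alternatingGroup.2 (by decide +kernel)))

/-- The four-group is not a `Z`-group. -/
theorem not_zgroup_four : ¬ IsZGroup (DihedralGroup 2) := by
  intro h
  haveI : IsZGroup (⊤ : Subgroup (DihedralGroup 2)) := IsZGroup.of_injective (Subgroup.subtype_injective _)
  exact zgroup_absurd (⊤ : Subgroup (DihedralGroup 2)) (v := DihedralGroup.r 1) (w := DihedralGroup.sr 0)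
    (Subgroup.mem_top _) (Subgroup.mem_top _) (by decide) (by decide) (by decide) (by decide) (by decide) (by decide)

end Cfsg.Lib.Perm.Zas25
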