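import Cfsg.Agent.Lib.Perm.Zas25.Complement
import Cfsg.Agent.Lib.Perm.Zas25.SixTypesTargets
import Cfsg.Agent.Lib.Core.PSolvable
import Cfsg.Agent.Lib.Linear.SLPerfect
import Cfsg.Agent.S0253
import Cfsg.Agent.S2119

/-!
# The six types of groups of fixed-point-free linear maps
-/

set_option autoImplicit false
set_option linter.style.haveILetI false

namespace Cfsg.Lib.Perm.Zas25

universe u v

/-- The quotient of `G` by `N` is trivial or one of the five non-trivial types. -/
def IsTarget {G : Type u} [Group G] (N : Subgroup G) : Prop :=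
  N = ⊤ ∨
    (∃ f : G →* DihedralGroup 2, Function.Surjective f ∧ f.ker = N) ∨
    (∃ f : G →* alternatingGroup (Fin 4), Function.Surjective f ∧ f.ker = N) ∨
    (∃ f : G →* Equiv.Perm (Fin 4), Function.Surjective f ∧ f.ker = N) ∨
    (∃ f : G →* alternatingGroup (Fin 5), Function.Surjective f ∧ f.ker = N) ∨
    (∃ f : G →* Equiv.Perm (Fin 5), Function.Surjective f ∧ f.ker = N)

theorem le_ker_of_no_zgroup {G T : Type*} [Group G] [Finite G] [Group T] (f : G →* T) (hf : Function.Surjective f)
    (hT : ∀ (X : Subgroup T) [X.Normal] [IsZGroup X], X = ⊥) (X : Subgroup G) [hX : X.Normal] [IsZGroup X] :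
    X ≤ f.ker := by
  haveI : (X.map f).Normal := hX.map f hf
  haveI : IsZGroup (X.map f) := IsZGroup.of_surjective (f.subgroupMap_surjective X)
  have := hT (X.map f)
  rwa [Subgroup.map_eq_bot_iff] at this

/-- The four-group quotient, or a quotient containing every normal `Z`-subgroup. -/
theorem target_cases {G : Type u} [Group G] [Finite G] {N : Subgroup G} (h : IsTarget N) :
    (∃ f : G →* DihedralGroup 2, Function.Surjective f ∧ f.ker = N) ∨
      ((N = ⊤ ∨ 12 ≤ N.index) ∧ ∀ (X : Subgroup G) [X.Normal] [IsZGroup X], X ≤ N) := by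
  have hidx : ∀ {T : Type} [Group T] (f : G →* T), Function.Surjective f → f.ker = N → N.index = Nat.card T := by
    intro T _ f hf hk
    rw [← hk, Subgroup.index_ker, MonoidHom.range_eq_top.mpr hf, Subgroup.card_top]
  rcases h with h | h | ⟨f, hf, hk⟩ | ⟨f, hf, hk⟩ | ⟨f, hf, hk⟩ | ⟨f, hf, hk⟩
  · exact Or.inr ⟨Or.inl h, fun X _ _ => h ▸ le_top⟩
  · exact Or.inl h
  · refine Or.inr ⟨Or.inr ?_, fun X _ _ => hk ▸ le_ker_of_no_zgroup f hf no_zgroup_alt_four X⟩
    rw [hidx f hf hk, Nat.card_eq_fintype_card]; decide +kernel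
  · refine Or.inr ⟨Or.inr ?_, fun X _ _ => hk ▸ le_ker_of_no_zgroup f hf no_zgroup_perm_four X⟩
    rw [hidx f hf hk, Nat.card_perm, Nat.card_fin]; decide
  · refine Or.inr ⟨Or.inr ?_, fun X _ _ => hk ▸ le_ker_of_no_zgroup f hf no_zgroup_alt_five X⟩
    rw [hidx f hf hk, Nat.card_eq_fintype_card]; decide +kernel
  · refine Or.inr ⟨Or.inr ?_, fun X _ _ => hk ▸ le_ker_of_no_zgroup f hf no_zgroup_perm_five X⟩
    rw [hidx f hf hk, Nat.card_perm, Nat.card_fin]; decide

/-- The map of a generalized quaternion group onto the four-group. -/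
def quatToFour (m : ℕ) (hm : 2 ∣ m) : QuaternionGroup m →* DihedralGroup 2 where
  toFun
    | .a i => .r (ZMod.castHom (Dvd.intro m rfl : 2 ∣ 2 * m) (ZMod 2) i)
    | .xa i => .sr (ZMod.castHom (Dvd.intro m rfl : 2 ∣ 2 * m) (ZMod 2) i)
  map_one' := by
    show DihedralGroup.r (ZMod.castHom _ (ZMod 2) (0 : ZMod (2 * m))) = DihedralGroup.r 0
    rw [map_zero]
  map_mul' x y := by
    have hm0 : (m : ZMod 2) = 0 := (ZMod.natCast_eq_zero_iff m 2).mpr hm
    rcases x with i | i <;> rcases y with j | j <;>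
      simp [map_add, map_sub, hm0]

theorem quatToFour_surjective (m : ℕ) (hm : 2 ∣ m) : Function.Surjective (quatToFour m hm) := by
  rintro (i | i)
  · obtain ⟨j, hj⟩ := ZMod.castHom_surjective (Dvd.intro m rfl : 2 ∣ 2 * m) i
    exact ⟨.a j, congrArg DihedralGroup.r hj⟩
  · obtain ⟨j, hj⟩ := ZMod.castHom_surjective (Dvd.intro m rfl : 2 ∣ 2 * m) i
    exact ⟨.xa j, congrArg DihedralGroup.sr hj⟩

theorem quatToFour_ker_cyclic (m : ℕ) [NeZero m] (hm : 2 ∣ m) : IsCyclic (quatToFour m hm).ker := by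
  have hle : (quatToFour m hm).ker ≤ Subgroup.zpowers (QuaternionGroup.a 1 : QuaternionGroup m) := by
    rintro (i | i) hi
    · haveI : NeZero (2 * m) := ⟨by have := NeZero.ne m; omega⟩
      rw [← ZMod.natCast_zmod_val i, ← QuaternionGroup.a_one_pow]
      exact Subgroup.npow_mem_zpowers _ _
    · exfalso
      have h1 : DihedralGroup.sr (ZMod.castHom (Dvd.intro m rfl : 2 ∣ 2 * m) (ZMod 2) i) = DihedralGroup.r 0 := hi
      cases h1
  exact isCyclic_of_injective (Subgroup.inclusion hle) (Subgroup.inclusion_injective hle)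

/-- A group of exponent two covered by a quaternion group has at most four elements. -/
theorem card_le_four {R : Type*} [Group R] [Finite R] (hR : ∀ r : R, r * r = 1) (m : ℕ) [NeZero m]
    (g : QuaternionGroup m →* R) (hg : Function.Surjective g) : Nat.card R ≤ 4 := by
  set x := g (QuaternionGroup.a 1)
  set y := g (QuaternionGroup.xa 0)
  have hinv : ∀ r : R, r⁻¹ = r := fun r => inv_eq_of_mul_eq_one_right (hR r)
  have ha : ∀ i : ZMod (2 * m), g (QuaternionGroup.a i) = 1 ∨ g (QuaternionGroup.a i) = x := by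
    intro i
    rw [← ZMod.natCast_zmod_val i, ← QuaternionGroup.a_one_pow, map_pow]
    rcases Nat.even_or_odd i.val with ⟨k, hk⟩ | ⟨k, hk⟩
    · left; rw [hk, ← two_mul, pow_mul, pow_two, hR, one_pow]
    · right; rw [hk, pow_succ, pow_mul, pow_two, hR, one_pow, one_mul]
  have hsurj : Function.Surjective (![1, x, y, y * x] : Fin 4 → R) := by
    intro r
    obtain ⟨(i | i), rfl⟩ := hg r
    · rcases ha i with h | h
      · exact ⟨0, h.symm⟩
      · exact ⟨1, h.symm⟩
    · have he : (QuaternionGroup.xa i : QuaternionGroup m) = QuaternionGroup.xa 0 * QuaternionGroup.a i := by simp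
      rcases ha i with h | h
      · exact ⟨2, by rw [he, map_mul, h, mul_one]; rfl⟩
      · exact ⟨3, by rw [he, map_mul, h]; rfl⟩
  simpa using Nat.card_le_card_of_surjective _ hsurj

/-- Generalized quaternion groups of order at least sixteen have no automorphisms of odd prime order. -/
theorem quat_aut_prime (k : ℕ) (hk : 2 ≤ k) (φ : MulAut (QuaternionGroup (2 ^ k))) (q : ℕ) (hq : q.Prime)
    (hq2 : q ≠ 2) (hφ : φ ^ q = 1) : φ = 1 := by
  haveI : NeZero (2 ^ k) := ⟨by positivity⟩
  haveI : NeZero (2 * 2 ^ k) := ⟨by positivity⟩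
  have h4 : 4 < 2 * 2 ^ k := by
    have : 4 ≤ 2 ^ k := le_trans (by norm_num) (Nat.pow_le_pow_right (by norm_num) hk)
    omega
  obtain ⟨i, hi⟩ : ∃ i, φ (QuaternionGroup.a 1) = QuaternionGroup.a i := by
    rcases h : φ (QuaternionGroup.a 1) with i | i
    · exact ⟨i, rfl⟩
    · have h1 := MulEquiv.orderOf_eq φ (QuaternionGroup.a 1)
      rw [h, QuaternionGroup.orderOf_xa, QuaternionGroup.orderOf_a_one] at h1
      omega
  obtain ⟨j, hj⟩ : ∃ j, φ (QuaternionGroup.xa 0) = QuaternionGroup.xa j := by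
    rcases h : φ (QuaternionGroup.xa 0) with j | j
    · exfalso
      obtain ⟨(l | l), hl⟩ := φ.surjective (QuaternionGroup.xa 0)
      · rw [← ZMod.natCast_zmod_val l, ← QuaternionGroup.a_one_pow, map_pow, hi,
          ← ZMod.natCast_zmod_val i, ← QuaternionGroup.a_one_pow, ← pow_mul, QuaternionGroup.a_one_pow] at hl
        cases hl
      · rw [show (QuaternionGroup.xa l : QuaternionGroup (2 ^ k)) = QuaternionGroup.xa 0 * QuaternionGroup.a l by simp,
          map_mul, h, ← ZMod.natCast_zmod_val l, ← QuaternionGroup.a_one_pow, map_pow, hi,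
          ← ZMod.natCast_zmod_val i, ← QuaternionGroup.a_one_pow, ← pow_mul, QuaternionGroup.a_one_pow,
          QuaternionGroup.a_mul_a] at hl
        cases hl
    · exact ⟨j, rfl⟩
  have hpowa : ∀ t : ℕ, (φ ^ t) (QuaternionGroup.a 1) = QuaternionGroup.a (i ^ t) := by
    intro t
    induction t with
    | zero => simp
    | succ t ih =>
      rw [pow_succ', MulAut.mul_apply, ih, ← ZMod.natCast_zmod_val (i ^ t), ← QuaternionGroup.a_one_pow, map_pow,
        hi]
      conv_lhs => rw [← ZMod.natCast_zmod_val i, ← QuaternionGroup.a_one_pow, ← pow_mul,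
        QuaternionGroup.a_one_pow]
      rw [Nat.cast_mul, ZMod.natCast_zmod_val, ZMod.natCast_zmod_val, pow_succ']
  have hiq : i ^ q = 1 := by
    have := hpowa q
    rw [hφ, MulAut.one_apply] at this
    exact (QuaternionGroup.a.injEq _ _ ▸ this).symm
  have hi1 : i = 1 := by
    have hu : IsUnit i := IsUnit.of_pow_eq_one hiq hq.pos.ne'
    obtain ⟨u, rfl⟩ := hu
    have h1 : u ^ q = 1 := Units.ext (by rw [Units.val_pow_eq_pow_val, hiq, Units.val_one])
    have htot : Nat.totient (2 * 2 ^ k) = 2 ^ k := by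
      rw [← pow_succ', Nat.totient_prime_pow_succ Nat.prime_two k]
      norm_num
    have h2 : u ^ (2 ^ k) = 1 := by
      have h2' := ZMod.pow_totient u
      rwa [htot] at h2'
    have h3 : orderOf u ∣ Nat.gcd q (2 ^ k) :=
      Nat.dvd_gcd (orderOf_dvd_of_pow_eq_one h1) (orderOf_dvd_of_pow_eq_one h2)
    rw [(Nat.coprime_primes hq Nat.prime_two).mpr hq2 |>.pow_right k, Nat.dvd_one, orderOf_eq_one_iff] at h3
    rw [h3, Units.val_one]
  subst hi1
  have hfix : ∀ l : ZMod (2 * 2 ^ k), φ (QuaternionGroup.a l) = QuaternionGroup.a l := fun l => by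
    rw [← ZMod.natCast_zmod_val l, ← QuaternionGroup.a_one_pow, map_pow, hi]
  have hpowx : ∀ t : ℕ, (φ ^ t) (QuaternionGroup.xa 0) = QuaternionGroup.xa ((t : ZMod (2 * 2 ^ k)) * j) := by
    intro t
    induction t with
    | zero => simp
    | succ t ih =>
      rw [pow_succ', MulAut.mul_apply, ih,
        show (QuaternionGroup.xa ((t : ZMod (2 * 2 ^ k)) * j) : QuaternionGroup (2 ^ k)) =
          QuaternionGroup.xa 0 * QuaternionGroup.a ((t : ZMod (2 * 2 ^ k)) * j) by simp,
        map_mul, hfix, hj, QuaternionGroup.xa_mul_a]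
      congr 1
      push_cast
      ring
  have hj0 : j = 0 := by
    have h1 := hpowx q
    rw [hφ, MulAut.one_apply] at h1
    have h2 : (q : ZMod (2 * 2 ^ k)) * j = 0 := (QuaternionGroup.xa.injEq _ _ ▸ h1).symm
    have hu : IsUnit (q : ZMod (2 * 2 ^ k)) := by
      rw [ZMod.isUnit_iff_coprime, ← pow_succ']
      exact ((Nat.coprime_primes hq Nat.prime_two).mpr hq2).pow_right _
    exact (hu.mul_right_eq_zero).mp h2
  refine MulEquiv.ext fun x => ?_
  rcases x with l | l
  · exact hfix l
  · rw [MulAut.one_apply, show (QuaternionGroup.xa l : QuaternionGroup (2 ^ k)) =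
      QuaternionGroup.xa 0 * QuaternionGroup.a l by simp, map_mul, hfix, hj, hj0]

variable {l : ℕ} [Fact l.Prime] {V : Type v} [AddCommGroup V] [Module (ZMod l) V] [Finite V] [Nontrivial V]
  {G : Type u} [Group G] [Finite G] (ρ : G →* Module.End (ZMod l) V)
  (hfpf : ∀ g : G, g ≠ 1 → ∀ v : V, ρ g v = v → v = 0)
include hfpf

theorem sylow_cyclic_of_ne_two (N : Subgroup G) {q : ℕ} [Fact q.Prime] (hq : q ≠ 2) (Q : Sylow q N) : IsCyclic Q := by
  rcases pgroup_cases ρ hfpf _ (Q.2.map N.subtype) with hc | ⟨h2, -⟩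
  · exact isCyclic_of_surjective ((Q : Subgroup N).equivMapOfInjective N.subtype N.subtype_injective).symm.toMonoidHom
      ((Q : Subgroup N).equivMapOfInjective N.subtype N.subtype_injective).symm.surjective
  · exact absurd h2 hq

/-- A subgroup of order not divisible by eight is a `Z`-group. -/
theorem zgroup_of_not_eight (N : Subgroup G) (h : ¬ 8 ∣ Nat.card N) : IsZGroup N := by
  refine ⟨fun q hq Q => ?_⟩
  haveI := Fact.mk hq
  by_cases hq2 : q = 2
  · subst hq2
    rcases pgroup_cases ρ hfpf _ (Q.2.map N.subtype) with hc | ⟨-, n, hn, ⟨e⟩⟩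
    · exact isCyclic_of_surjective ((Q : Subgroup N).equivMapOfInjective N.subtype N.subtype_injective).symm.toMonoidHom
        ((Q : Subgroup N).equivMapOfInjective N.subtype N.subtype_injective).symm.surjective
    · exfalso
      have h1 : Nat.card (Q : Subgroup N) = 4 * 2 ^ n := by
        rw [← Subgroup.card_map_of_injective N.subtype_injective, Nat.card_congr e.toEquiv,
          Nat.card_eq_fintype_card, QuaternionGroup.card]
      refine h (dvd_trans ?_ (Subgroup.card_subgroup_dvd_card (Q : Subgroup N)))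
      rw [h1]
      obtain ⟨r, rfl⟩ := Nat.exists_eq_succ_of_ne_zero (show n ≠ 0 by omega)
      exact ⟨2 ^ r, by rw [pow_succ]; ring⟩
  · exact sylow_cyclic_of_ne_two ρ hfpf N hq2 Q

/-- **Uniqueness.** -/
theorem target_unique {N₁ N₂ : Subgroup G} [N₁.Normal] [N₂.Normal] [IsZGroup N₁] [IsZGroup N₂]
    (h1 : IsTarget N₁) (h2 : IsTarget N₂) : N₁ = N₂ := by
  classical
  have mixed : ∀ {A B : Subgroup G} [A.Normal] [B.Normal] [IsZGroup A] [IsZGroup B],
      (∃ f : G →* DihedralGroup 2, Function.Surjective f ∧ f.ker = A) →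
      ((B = ⊤ ∨ 12 ≤ B.index) ∧ ∀ (X : Subgroup G) [X.Normal] [IsZGroup X], X ≤ B) → False := by
    rintro A B _ _ _ _ ⟨f, hf, hk⟩ ⟨hB, hbig⟩
    rcases hB with rfl | hB
    · haveI : IsZGroup G := IsZGroup.of_surjective (f := (⊤ : Subgroup G).subtype) fun g => ⟨⟨g, trivial⟩, rfl⟩
      exact not_zgroup_four (IsZGroup.of_surjective hf)
    · have h3 := Subgroup.index_dvd_of_le (hbig A)
      rw [← hk, Subgroup.index_ker, MonoidHom.range_eq_top.mpr hf, Subgroup.card_top,
        DihedralGroup.nat_card] at h3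
      have := Nat.le_of_dvd (by norm_num) h3
      omega
  rcases target_cases h1 with d1 | b1 <;> rcases target_cases h2 with d2 | b2
  · obtain ⟨f₁, hf₁, hk₁⟩ := d1
    obtain ⟨f₂, hf₂, hk₂⟩ := d2
    let F : G →* DihedralGroup 2 × DihedralGroup 2 := f₁.prod f₂
    have hexp : ∀ r : DihedralGroup 2 × DihedralGroup 2, r * r = 1 := by decide +kernel
    have hexp' : ∀ r : F.range, r * r = 1 := fun r => Subtype.ext (hexp r)
    haveI := Fact.mk Nat.prime_two
    have hR : IsPGroup 2 F.range := fun r => ⟨1, by rw [pow_one, pow_two]; exact hexp' r⟩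
    obtain ⟨P⟩ : Nonempty (Sylow 2 G) := inferInstance
    let P' : Sylow 2 F.range := P.mapSurjective F.rangeRestrict_surjective
    have hP' : (P' : Subgroup F.range) = ⊤ :=
      P'.is_maximal' (hR.to_subgroup ⊤) le_top |>.symm
    have hsurjP : Function.Surjective (F.rangeRestrict.comp (P : Subgroup G).subtype) := by
      rw [← MonoidHom.range_eq_top, MonoidHom.range_comp, Subgroup.range_subtype]
      exact hP'
    have h4 : Nat.card F.range ≤ 4 := by
      rcases pgroup_cases ρ hfpf _ P.2 with hc | ⟨-, n, hn, ⟨e⟩⟩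
      · haveI := hc
        haveI : IsCyclic F.range := isCyclic_of_surjective _ hsurjP
        haveI := Fintype.ofFinite F.range
        have h5 := IsCyclic.card_pow_eq_one_le (α := F.range) (n := 2) (by norm_num)
        rw [Finset.filter_true_of_mem (fun r _ => by rw [pow_two]; exact hexp' r), Finset.card_univ,
          ← Nat.card_eq_fintype_card] at h5
        omega
      · haveI : NeZero (2 ^ n) := ⟨by positivity⟩
        exact card_le_four hexp' (2 ^ n) ((F.rangeRestrict.comp (P : Subgroup G).subtype).comp e.symm.toMonoidHom)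
          (hsurjP.comp e.symm.surjective)
    have key : ∀ (f : G →* DihedralGroup 2), Function.Surjective f → F.ker ≤ f.ker → f.ker = F.ker := by
      intro f hf hle
      refine (Subgroup.eq_of_le_of_card_ge hle ?_).symm
      have e1 := f.ker.card_mul_index
      have e2 := F.ker.card_mul_index
      rw [Subgroup.index_ker, MonoidHom.range_eq_top.mpr hf, Subgroup.card_top, DihedralGroup.nat_card] at e1
      rw [Subgroup.index_ker] at e2
      have h0 : 0 < Nat.card F.ker := Nat.card_pos
      nlinarith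
    rw [← hk₁, ← hk₂, key f₁ hf₁ (by rw [MonoidHom.ker_prod]; exact inf_le_left),
      key f₂ hf₂ (by rw [MonoidHom.ker_prod]; exact inf_le_right)]
  · exact (mixed d1 b2).elim
  · exact (mixed d2 b1).elim
  · exact le_antisymm (b2.2 N₁) (b1.2 N₂)

/-- The non-solvable case. -/
theorem target_nonsolvable (hns : ¬ Group.IsSolvable G) : ∃ N : Subgroup G, N.Normal ∧ IsZGroup N ∧ IsTarget N := by
  classical
  obtain ⟨G₀, hG₀n, hG₀i, S, M, hSn, hSM, hSMd, hcom, ⟨e⟩, -, hM30⟩ := nonsolvable_structure ρ hfpf hns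
  haveI := hSn
  have hModd : ¬ 2 ∣ Nat.card M := fun h => by
    have := Nat.dvd_gcd h (by norm_num : 2 ∣ 30)
    rw [hM30] at this
    norm_num at this
  let f : S × M →* G := MonoidHom.noncommCoprod S.subtype M.subtype (fun s a => hcom s s.2 a a.2)
  have hfinj : Function.Injective f := by
    rw [injective_iff_map_eq_one]
    rintro ⟨s, a⟩ h
    have h1 : (s : G) * a = 1 := h
    have h2 : (a : G) ∈ S ⊓ M :=
      Subgroup.mem_inf.mpr ⟨by rw [eq_inv_of_mul_eq_one_right h1]; exact S.inv_mem s.2, a.2⟩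
    rw [hSMd] at h2
    have ha : (a : G) = 1 := h2
    rw [ha, mul_one] at h1
    exact Prod.ext (Subtype.ext h1) (Subtype.ext ha)
  have hG₀c : Nat.card G₀ = 120 * Nat.card M := by
    have hr : f.range = G₀ :=
      (MonoidHom.noncommCoprod_range _ _ _).trans (by rw [Subgroup.range_subtype, Subgroup.range_subtype, hSM])
    rw [← hr, ← Nat.card_congr (MonoidHom.ofInjective hfinj).toEquiv, Nat.card_prod, card_eq_120 e]
  haveI := Fact.mk (show Nat.Prime 5 by norm_num)
  have hSperf : commutator S = ⊤ :=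
    perfect_of_mulEquiv e.symm (Cfsg.Lib.Linear.commutator_SL_eq_top' (Or.inr (by rw [ZMod.card]; norm_num)))
  obtain ⟨a5⟩ := Cfsg.Agent.S0253.result (F := ZMod 5) (ZMod.card 5)
  let eS : S ⧸ Subgroup.center S ≃* alternatingGroup (Fin 5) :=
    (QuotientGroup.congr (Subgroup.center S) (Subgroup.center (Matrix.SpecialLinearGroup (Fin 2) (ZMod 5))) e
      (by
        ext y
        simp only [Subgroup.mem_map, MulEquiv.coe_toMonoidHom, Subgroup.mem_center_iff]
        constructor
        · rintro ⟨x, hx, rfl⟩ z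
          obtain ⟨z, rfl⟩ := e.surjective z
          show e z * e x = e x * e z
          rw [← map_mul, ← map_mul, hx z]
        · intro hy
          obtain ⟨x, rfl⟩ := e.surjective y
          exact ⟨x, fun z => e.injective (by rw [map_mul, map_mul]; exact hy (e z)), rfl⟩)).trans a5
  let F : MulAut S →* MulAut (S ⧸ Subgroup.center S) :=
    { toFun := fun φ => QuotientGroup.congr _ _ φ (Subgroup.characteristic_iff_map_eq.mp inferInstance φ)
      map_one' := MulEquiv.ext fun x => QuotientGroup.induction_on x fun _ => rfl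
      map_mul' := fun _ _ => MulEquiv.ext fun x => QuotientGroup.induction_on x fun _ => rfl }
  have hF : Function.Injective F := (injective_iff_map_eq_one F).mpr fun φ hφ => aut_eq_one_of_quot hSperf φ fun x =>
    QuotientGroup.eq.mp (DFunLike.congr_fun hφ (x : S ⧸ Subgroup.center S)).symm
  let J : MulAut (S ⧸ Subgroup.center S) →* Equiv.Perm (Fin 5) :=
    (MulEquiv.ofBijective (MulAut.conjNormal : Equiv.Perm (Fin 5) →* MulAut (alternatingGroup (Fin 5)))
      (Cfsg.Agent.S2119.result 5 (by norm_num) (by norm_num))).symm.toMonoidHom.comp (MulAut.congr eS).toMonoidHom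
  have hJ : Function.Injective J := fun a b h =>
    (MulAut.congr eS).injective ((MulEquiv.ofBijective (MulAut.conjNormal : Equiv.Perm (Fin 5) →*
      MulAut (alternatingGroup (Fin 5))) (Cfsg.Agent.S2119.result 5 (by norm_num) (by norm_num))).symm.injective h)
  let ψ : G →* Equiv.Perm (Fin 5) := J.comp (F.comp (MulAut.conjNormal : G →* MulAut S))
  have hker : ψ.ker = (MulAut.conjNormal : G →* MulAut S).ker :=
    (MonoidHom.ker_comp_of_injective _ _ hJ).trans (MonoidHom.ker_comp_of_injective _ _ hF)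
  have hSr : Nat.card (S.map ψ) = 60 := by
    have h1 := (ψ.comp S.subtype).ker.card_mul_index
    have h2 : (ψ.comp S.subtype).ker = Subgroup.center S := by
      ext y
      rw [← MonoidHom.comap_ker, hker, Subgroup.mem_comap, MonoidHom.mem_ker, Subgroup.mem_center_iff]
      constructor
      · intro h z
        have h3 := congrArg (fun φ : MulAut S => ((φ z : S) : G)) h
        simp only [MulAut.conjNormal_apply, Subgroup.coe_subtype, MulAut.one_apply] at h3
        exact Subtype.ext (mul_inv_eq_iff_eq_mul.mp h3).symm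
      · intro h
        refine MulEquiv.ext fun z => Subtype.ext ?_
        rw [MulAut.conjNormal_apply, MulAut.one_apply, Subgroup.coe_subtype,
          show (y : G) * z = z * y from (congrArg Subtype.val (h z)).symm, mul_inv_cancel_right]
    rw [Subgroup.index_ker, MonoidHom.range_comp, Subgroup.range_subtype, h2, card_center_eq_two e,
      card_eq_120 e] at h1
    omega
  have hR : Nat.card ψ.range = 60 ∨ Nat.card ψ.range = 120 := by
    have h1 : Nat.card (S.map ψ) ∣ Nat.card ψ.range := Subgroup.card_dvd_of_le (Subgroup.map_le_range ψ S)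
    have h2 := Subgroup.card_subgroup_dvd_card ψ.range
    rw [Nat.card_perm, Nat.card_fin] at h2
    rw [hSr] at h1
    obtain ⟨t, ht⟩ := h1
    rw [ht] at h2 ⊢
    have h3 := Nat.le_of_dvd (by decide) h2
    have h4 : (Nat.factorial 5) = 120 := rfl
    have : 0 < Nat.card ψ.range := Nat.card_pos
    rcases t with _ | _ | _ | t <;> omega
  have h8 : ¬ 8 ∣ Nat.card ψ.ker := by
    have h1 := ψ.ker.card_mul_index
    have h2 := G₀.card_mul_index
    rw [Subgroup.index_ker] at h1
    rw [hG₀c] at h2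
    rintro ⟨t, ht⟩
    rw [ht] at h1
    rcases hR with hR | hR <;> rw [hR] at h1 <;> rcases hG₀i with hi | hi <;> rw [hi] at h2 <;> omega
  refine ⟨ψ.ker, inferInstance, zgroup_of_not_eight ρ hfpf _ h8, ?_⟩
  rcases hR with hR | hR
  · have hr : ψ.range = alternatingGroup (Fin 5) := by
      refine Equiv.Perm.eq_alternatingGroup_of_index_eq_two ?_
      have h1 := ψ.range.card_mul_index
      rw [hR, Nat.card_perm, Nat.card_fin] at h1
      have h4 : (Nat.factorial 5) = 120 := rfl
      omega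
    refine Or.inr (Or.inr (Or.inr (Or.inr (Or.inl ⟨(MulEquiv.subgroupCongr hr).toMonoidHom.comp ψ.rangeRestrict,
      (MulEquiv.subgroupCongr hr).surjective.comp ψ.rangeRestrict_surjective, ?_⟩))))
    rw [MonoidHom.ker_comp_of_injective _ _ (MulEquiv.injective (MulEquiv.subgroupCongr hr)), MonoidHom.ker_rangeRestrict]
  · refine Or.inr (Or.inr (Or.inr (Or.inr (Or.inr ⟨ψ, ?_, rfl⟩))))
    rw [← MonoidHom.range_eq_top]
    refine Subgroup.eq_top_of_card_eq _ ?_
    rw [hR, Nat.card_perm, Nat.card_fin]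
    rfl

/-- The solvable case with quaternion Sylow two-subgroups. -/
theorem target_quaternion [Group.IsSolvable G] (P : Sylow 2 G) {n : ℕ} (hn : 1 ≤ n)
    (e : (P : Subgroup G) ≃* QuaternionGroup (2 ^ n)) : ∃ N : Subgroup G, N.Normal ∧ IsZGroup N ∧ IsTarget N := by
  classical
  haveI := Fact.mk Nat.prime_two
  haveI : NeZero (2 ^ n) := ⟨by positivity⟩
  haveI hOn : (Cfsg.pPrimeCore 2 G).Normal := inferInstance
  set π := QuotientGroup.mk' (Cfsg.pPrimeCore 2 G) with hπ
  have hπs : Function.Surjective π := QuotientGroup.mk'_surjective _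
  have hO : ∀ x : G, x ∈ (P : Subgroup G) → π x = 1 → x = 1 := by
    intro x hxP hx
    have hxO : x ∈ Cfsg.pPrimeCore 2 G := (QuotientGroup.eq_one_iff x).mp hx
    obtain ⟨j, hj⟩ := P.2 ⟨x, hxP⟩
    have h1 : orderOf x ∣ 2 ^ j := orderOf_dvd_of_pow_eq_one (congrArg Subtype.val hj)
    have h2 : orderOf x ∣ Nat.card (Cfsg.pPrimeCore 2 G) := Subgroup.orderOf_dvd_natCard _ hxO
    have h3 := Nat.dvd_gcd h2 h1
    rw [(Cfsg.Lib.Core.pPrimeCore_coprime 2 G).pow_right j, Nat.dvd_one, orderOf_eq_one_iff] at h3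
    exact h3
  let Pbar : Sylow 2 (G ⧸ Cfsg.pPrimeCore 2 G) := P.mapSurjective hπs
  have hPbar : (Pbar : Subgroup (G ⧸ Cfsg.pPrimeCore 2 G)) = (P : Subgroup G).map π := rfl
  set T := Cfsg.pCore 2 (G ⧸ Cfsg.pPrimeCore 2 G) with hT
  haveI : T.Normal := by rw [hT]; infer_instance
  have hTP : T ≤ (P : Subgroup G).map π := hPbar ▸ Cfsg.Lib.Core.pCore_le_sylow Pbar
  haveI : Group.IsSolvable (G ⧸ Cfsg.pPrimeCore 2 G) := solvable_of_surjective hπs
  have hCT : Subgroup.centralizer (T : Set (G ⧸ Cfsg.pPrimeCore 2 G)) ≤ T :=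
    Cfsg.Lib.Core.centralizer_pCore_le_of_isPSolvable Cfsg.Lib.Core.isPSolvable_of_isSolvable
      Cfsg.Lib.Core.pPrimeCore_quotient_eq_bot
  have hTp : IsPGroup 2 T := Cfsg.Lib.Core.pCore_isPGroup 2 _
  -- the lift of `T`
  let T' : Subgroup G := (P : Subgroup G) ⊓ T.comap π
  let τ : T' →* T := (π.comp T'.subtype).codRestrict T fun x => (Subgroup.mem_inf.mp x.2).2
  have hτ : Function.Bijective τ := by
    refine ⟨(injective_iff_map_eq_one τ).mpr fun x hx => Subtype.ext ?_, fun t => ?_⟩
    · exact hO x (Subgroup.mem_inf.mp x.2).1 (congrArg Subtype.val hx)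
    · obtain ⟨x, hx, hxt⟩ := hTP t.2
      exact ⟨⟨x, Subgroup.mem_inf.mpr ⟨hx, by show π x ∈ T; rw [hxt]; exact t.2⟩⟩, Subtype.ext hxt⟩
  let eT : T' ≃* T := MulEquiv.ofBijective τ hτ
  let φ : (G ⧸ Cfsg.pPrimeCore 2 G) →* MulAut T := MulAut.conjNormal
  have hker : φ.ker = Subgroup.centralizer (T : Set (G ⧸ Cfsg.pPrimeCore 2 G)) := by
    ext g
    rw [MonoidHom.mem_ker, Subgroup.mem_centralizer_iff]
    constructor
    · intro h y hy
      have h2 : g * y * g⁻¹ = y := by
        have := congrArg (fun f : MulAut T => ((f ⟨y, hy⟩ : T) : G ⧸ Cfsg.pPrimeCore 2 G)) h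
        simpa [φ] using this
      exact (mul_inv_eq_iff_eq_mul.mp h2).symm
    · intro h
      refine MulEquiv.ext fun y => Subtype.ext ?_
      rw [MulAut.conjNormal_apply, MulAut.one_apply, ← h y y.2, mul_inv_cancel_right]
  haveI : Finite (MulAut T) := Finite.of_injective _ DFunLike.coe_injective
  have hext : IsPGroup 2 (φ.range) → IsPGroup 2 (G ⧸ Cfsg.pPrimeCore 2 G) := by
    intro h
    obtain ⟨a, ha⟩ := IsPGroup.iff_card.mp h
    obtain ⟨b, hb⟩ := IsPGroup.iff_card.mp (hTp.to_le (hker.le.trans hCT))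
    exact IsPGroup.of_card (n := b + a) (by rw [← φ.ker.card_mul_index, Subgroup.index_ker, ha, hb, ← pow_add])
  -- a two-group quotient maps onto the four-group
  have two : IsPGroup 2 (G ⧸ Cfsg.pPrimeCore 2 G) → ∃ N : Subgroup G, N.Normal ∧ IsZGroup N ∧ IsTarget N := by
    intro h2
    have htop : (P : Subgroup G).map π = ⊤ := hPbar ▸ (Pbar.is_maximal' (h2.to_subgroup ⊤) le_top).symm
    let τP : (P : Subgroup G) →* G ⧸ Cfsg.pPrimeCore 2 G := π.comp (P : Subgroup G).subtype
    have hb : Function.Bijective τP := by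
      refine ⟨(injective_iff_map_eq_one τP).mpr fun x hx => Subtype.ext (hO x x.2 hx), ?_⟩
      rw [← MonoidHom.range_eq_top, MonoidHom.range_comp, Subgroup.range_subtype]
      exact htop
    let g : G →* QuaternionGroup (2 ^ n) := e.toMonoidHom.comp ((MulEquiv.ofBijective τP hb).symm.toMonoidHom.comp π)
    have hg : Function.Surjective g :=
      e.surjective.comp ((MulEquiv.ofBijective τP hb).symm.surjective.comp hπs)
    have h2n : 2 ∣ 2 ^ n := dvd_pow_self 2 (by omega)
    let f := (quatToFour (2 ^ n) h2n).comp g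
    refine ⟨f.ker, inferInstance, ⟨fun q hq S => ?_⟩,
      Or.inr (Or.inl ⟨f, (quatToFour_surjective _ h2n).comp hg, rfl⟩)⟩
    haveI := Fact.mk hq
    by_cases hq2 : q = 2
    · subst hq2
      haveI := quatToFour_ker_cyclic (2 ^ n) h2n
      let j : (S : Subgroup f.ker) →* (quatToFour (2 ^ n) h2n).ker :=
        (g.comp (f.ker.subtype.comp (S : Subgroup f.ker).subtype)).codRestrict _ fun x => x.1.2
      refine isCyclic_of_injective j ((injective_iff_map_eq_one j).mpr fun x hx => ?_)
      have hx1 : π ((x : f.ker) : G) = 1 := by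
        have h1 : g ((x : f.ker) : G) = 1 := congrArg Subtype.val hx
        simpa [g] using h1
      have hxO : ((x : f.ker) : G) ∈ Cfsg.pPrimeCore 2 G := (QuotientGroup.eq_one_iff _).mp hx1
      obtain ⟨t, ht⟩ := S.2 x
      have h3 : orderOf ((x : f.ker) : G) ∣ 2 ^ t := orderOf_dvd_of_pow_eq_one
        (congrArg (fun y : (S : Subgroup f.ker) => ((y : f.ker) : G)) ht)
      have h4 := Nat.dvd_gcd (Subgroup.orderOf_dvd_natCard _ hxO) h3
      rw [(Cfsg.Lib.Core.pPrimeCore_coprime 2 G).pow_right t, Nat.dvd_one, orderOf_eq_one_iff] at h4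
      exact Subtype.ext (Subtype.ext h4)
    · exact sylow_cyclic_of_ne_two ρ hfpf f.ker hq2 S
  rcases pgroup_cases ρ hfpf T' (P.2.to_le inf_le_left) with hc | ⟨-, k, hk, ⟨eQ⟩⟩
  · haveI : IsCyclic T := isCyclic_of_surjective eT.toMonoidHom eT.surjective
    obtain ⟨c, hcT⟩ := IsPGroup.iff_card.mp hTp
    refine two (hext ?_)
    refine IsPGroup.to_subgroup (IsPGroup.of_card (n := c - 1) ?_) _
    rw [IsCyclic.card_mulAut, hcT]
    rcases c with _ | c
    · rfl
    · rw [Nat.totient_prime_pow_succ Nat.prime_two, Nat.add_sub_cancel]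
      norm_num
  let eTQ : T ≃* QuaternionGroup (2 ^ k) := eT.symm.trans eQ
  by_cases hk2 : 2 ≤ k
  · refine two (hext (IsPGroup.of_card (n := (Nat.card φ.range).primeFactorsList.length)
      (Nat.eq_prime_pow_of_unique_prime_dvd Nat.card_pos.ne' fun {q} hq hqd => ?_)))
    by_contra hq2
    haveI := Fact.mk hq
    obtain ⟨x, hx⟩ := exists_prime_orderOf_dvd_card' (G := φ.range) q hqd
    have h1 : MulAut.congr eTQ (x : MulAut T) = 1 := quat_aut_prime k hk2 _ q hq hq2 (by
      rw [← map_pow, ← SubgroupClass.coe_pow, ← hx, pow_orderOf_eq_one, OneMemClass.coe_one, map_one])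
    rw [← map_one (MulAut.congr eTQ)] at h1
    have h5 : x = 1 := Subtype.ext ((MulAut.congr eTQ).injective h1)
    rw [h5, orderOf_one] at hx
    exact hq.one_lt.ne hx
  obtain rfl : k = 1 := by omega
  obtain ⟨s4⟩ := Cfsg.Agent.S3742.result
  let χ : MulAut T ≃* Equiv.Perm (Fin 4) := (MulAut.congr eTQ).trans s4
  let ψ : (G ⧸ Cfsg.pPrimeCore 2 G) →* Equiv.Perm (Fin 4) := χ.toMonoidHom.comp φ
  have hψk : ψ.ker = Subgroup.centralizer (T : Set (G ⧸ Cfsg.pPrimeCore 2 G)) :=
    (MonoidHom.ker_comp_of_injective _ _ χ.injective).trans hker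
  have hc2 : Nat.card (Subgroup.center T) = 2 := by
    rw [Nat.card_congr (Subgroup.centerCongr eTQ).toEquiv, Nat.card_eq_fintype_card]
    decide +kernel
  have hkc : (ψ.comp T.subtype).ker = Subgroup.center T := by
    ext y
    rw [← MonoidHom.comap_ker, hψk, Subgroup.mem_comap, Subgroup.mem_centralizer_iff, Subgroup.mem_center_iff]
    exact ⟨fun h z => Subtype.ext (h z z.2), fun h z hz => congrArg Subtype.val (h ⟨z, hz⟩)⟩
  have hker2 : Nat.card ψ.ker = 2 := by
    rw [hψk]
    refine Eq.trans ?_ hc2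
    rw [← hkc, ← MonoidHom.comap_ker, hψk]
    exact (Nat.card_congr (Subgroup.subgroupOfEquivOfLe hCT).toEquiv).symm
  have hT8 : Nat.card T = 8 := by
    rw [Nat.card_congr eTQ.toEquiv, Nat.card_eq_fintype_card, QuaternionGroup.card]
    norm_num
  have h4 : 4 ∣ Nat.card ψ.range := by
    have h1 := (ψ.comp T.subtype).ker.card_mul_index
    rw [Subgroup.index_ker, MonoidHom.range_comp, Subgroup.range_subtype, hkc, hc2, hT8] at h1
    have h2 : Nat.card (T.map ψ) = 4 := by omega
    exact (dvd_of_eq h2.symm).trans (Subgroup.card_dvd_of_le (Subgroup.map_le_range ψ T))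
  have h24 : Nat.card ψ.range ∣ 24 := by
    have h1 := Subgroup.card_subgroup_dvd_card ψ.range
    rwa [Nat.card_perm, Nat.card_fin] at h1
  have hcases : Nat.card ψ.range = 4 ∨ Nat.card ψ.range = 8 ∨ Nat.card ψ.range = 12 ∨ Nat.card ψ.range = 24 := by
    obtain ⟨t, ht⟩ := h4
    rw [ht] at h24 ⊢
    have := Nat.le_of_dvd (by norm_num) h24
    rcases t with _ | _ | _ | _ | _ | _ | _ | t <;> omega
  have big : ∀ (T₄ : Type) [Group T₄] (j : ψ.range ≃* T₄),
      ∃ f : G →* T₄, Function.Surjective f ∧ f.ker = (ψ.comp π).ker ∧ IsZGroup f.ker := by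
    intro T₄ _ j
    have hk4 : ((j.toMonoidHom.comp ψ.rangeRestrict).comp π).ker = (ψ.comp π).ker := by
      refine (MonoidHom.comap_ker _ _).symm.trans ?_
      rw [MonoidHom.ker_comp_of_injective ψ.rangeRestrict j.toMonoidHom j.injective, MonoidHom.ker_rangeRestrict,
        MonoidHom.comap_ker]
    refine ⟨(j.toMonoidHom.comp ψ.rangeRestrict).comp π,
      (j.surjective.comp ψ.rangeRestrict_surjective).comp hπs, hk4, hk4 ▸ zgroup_of_not_eight ρ hfpf _ ?_⟩
    rw [← MonoidHom.comap_ker, Cfsg.Lib.Core.card_comap_eq π hπs, hker2, QuotientGroup.ker_mk']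
    rintro ⟨t, ht⟩
    exact (Cfsg.Lib.Core.coprime_iff_not_dvd'.mp (Cfsg.Lib.Core.pPrimeCore_coprime 2 G)) (by omega)
  have htwo : Nat.card ψ.range = 4 ∨ Nat.card ψ.range = 8 → IsPGroup 2 φ.range := by
    intro h
    have h1 : Nat.card φ.range = Nat.card ψ.range := by
      show _ = Nat.card (χ.toMonoidHom.comp φ).range
      rw [MonoidHom.range_comp, Subgroup.card_map_of_injective χ.injective]
    rcases h with h | h
    · exact IsPGroup.of_card (n := 2) (h1.trans h)
    · exact IsPGroup.of_card (n := 3) (h1.trans h)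
  rcases hcases with h | h | h | h
  · exact two (hext (htwo (Or.inl h)))
  · exact two (hext (htwo (Or.inr h)))
  · have hr : ψ.range = alternatingGroup (Fin 4) := by
      refine Equiv.Perm.eq_alternatingGroup_of_index_eq_two ?_
      have h1 := ψ.range.card_mul_index
      rw [h, Nat.card_perm, Nat.card_fin] at h1
      have h4 : (Nat.factorial 4) = 24 := rfl
      omega
    obtain ⟨f, hf, -, hz⟩ := big _ (MulEquiv.subgroupCongr hr)
    exact ⟨f.ker, inferInstance, hz, Or.inr (Or.inr (Or.inl ⟨f, hf, rfl⟩))⟩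
  · have hr : ψ.range = ⊤ := Subgroup.eq_top_of_card_eq _ (by
      rw [h, Nat.card_perm, Nat.card_fin]; rfl)
    obtain ⟨f, hf, -, hz⟩ := big _ ((MulEquiv.subgroupCongr hr).trans Subgroup.topEquiv)
    exact ⟨f.ker, inferInstance, hz, Or.inr (Or.inr (Or.inr (Or.inl ⟨f, hf, rfl⟩)))⟩

/-- **The six types.** -/
theorem target_exists : ∃ N : Subgroup G, N.Normal ∧ IsZGroup N ∧ IsTarget N := by
  by_cases hs : Group.IsSolvable G
  · haveI := Fact.mk Nat.prime_two
    obtain ⟨P⟩ : Nonempty (Sylow 2 G) := inferInstance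
    rcases pgroup_cases ρ hfpf _ P.2 with hc | ⟨-, n, hn, ⟨e⟩⟩
    · refine ⟨⊤, inferInstance, ⟨fun q hq Q => ?_⟩, Or.inl rfl⟩
      haveI := Fact.mk hq
      by_cases hq2 : q = 2
      · subst hq2
        have hQ : IsPGroup 2 ((Q : Subgroup (⊤ : Subgroup G)).map (⊤ : Subgroup G).subtype) := Q.2.map _
        obtain ⟨S, hS⟩ := hQ.exists_le_sylow
        obtain ⟨g, hg⟩ := MulAction.exists_smul_eq G P S
        haveI := hc
        haveI : IsCyclic (S : Subgroup G) := by
          rw [← hg]
          exact isCyclic_of_surjective (P.equivSMul g).toMonoidHom (P.equivSMul g).surjective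
        exact isCyclic_of_injective ((Subgroup.inclusion hS).comp
          ((Q : Subgroup (⊤ : Subgroup G)).equivMapOfInjective _ (Subgroup.subtype_injective _)).toMonoidHom)
          ((Subgroup.inclusion_injective hS).comp (MulEquiv.injective _))
      · exact sylow_cyclic_of_ne_two ρ hfpf ⊤ hq2 Q
    · exact target_quaternion ρ hfpf P hn e
  · exact target_nonsolvable ρ hfpf hs

end Cfsg.Lib.Perm.Zas25
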