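import Cfsg.Agent.Lib.Perm.Zas25.Span

/-!
# The quaternion algebra containing `P`
-/

set_option autoImplicit false
set_option linter.unusedSectionVars false

namespace Cfsg.Lib.Perm.Zas25

variable {K : Type*} [Field K] {R : Type*} [Ring R] [Algebra K R] {P : Set R} {i j k : R}

/-- The two shapes of a pair of nonzero coordinates. -/
def Shape {A : Type*} [Ring A] (a b : A) : Prop :=
  ((a + b = 1 ∨ a + b = -1) ∧ (a - b) * (a - b) = 5) ∨ ((a - b = 1 ∨ a - b = -1) ∧ (a + b) * (a + b) = 5)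

/-- The commutative classification. -/
theorem comm_classify {A : Type*} [CommRing A] [Algebra K A] [Nontrivial A] (h2 : (2 : K) ≠ 0) {v₁ v₂ v₃ : A}
    (hS : v₁ * v₁ + v₂ * v₂ + v₃ * v₃ = 3)
    (hr : v₁ + v₂ + v₃ = 1 ∨ v₁ + v₂ + v₃ = -1 ∨ (v₁ + v₂ + v₃) * (v₁ + v₂ + v₃) = 5)
    (hs : v₁ - v₂ - v₃ = 1 ∨ v₁ - v₂ - v₃ = -1 ∨ (v₁ - v₂ - v₃) * (v₁ - v₂ - v₃) = 5)
    (ht : -v₁ + v₂ - v₃ = 1 ∨ -v₁ + v₂ - v₃ = -1 ∨ (-v₁ + v₂ - v₃) * (-v₁ + v₂ - v₃) = 5)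
    (hu : -v₁ - v₂ + v₃ = 1 ∨ -v₁ - v₂ + v₃ = -1 ∨ (-v₁ - v₂ + v₃) * (-v₁ - v₂ + v₃) = 5) :
    (v₁ = 0 ∧ Shape v₂ v₃) ∨ (v₂ = 0 ∧ Shape v₃ v₁) ∨ (v₃ = 0 ∧ Shape v₁ v₂) := by
  have c2 : ∀ x : A, 2 * x = 0 → x = 0 := fun x hx => by
    refine smul_cancel h2 ((?_ : (2 : K) • x = 0).trans (smul_zero _).symm)
    rw [Algebra.smul_def, map_ofNat, hx]
  have n4 : (4 : A) ≠ 0 := fun h => one_ne_zero (c2 1 (c2 (2 * 1) (by linear_combination h)))
  have n8 : (8 : A) ≠ 0 := fun h => n4 (c2 4 (by linear_combination h))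
  have opp : ∀ a b c d : A, a = b → a * a = 1 → c * c = 5 → d * d = 5 → a + b + c + d = 0 → False := by
    intro a b c d hab ha hc hd hsum
    subst hab
    have h1 : c = -a := by
      have e : 4 * (1 + a * c) = 0 := by
        linear_combination hd - hc - (4 : A) * ha + (c + 2 * a - d) * hsum
      have e' : 1 + a * c = 0 := c2 _ (c2 _ (by linear_combination e))
      linear_combination a * e' - c * ha
    exact n4 (by linear_combination -hc + (c - a) * h1 + ha)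
  have cl : ∀ σ : A, (σ = 1 ∨ σ = -1 ∨ σ * σ = 5) → ((σ = 1 ∨ σ = -1) ∧ σ * σ = 1) ∨ σ * σ = 5 := by
    rintro σ (rfl | rfl | h)
    · exact Or.inl ⟨Or.inl rfl, one_mul 1⟩
    · exact Or.inl ⟨Or.inr rfl, by rw [neg_mul_neg, one_mul]⟩
    · exact Or.inr h
  have pm : ∀ a b : A, (a = 1 ∨ a = -1) → (b = 1 ∨ b = -1) → a = b ∨ a + b = 0 := by
    rintro a b (rfl | rfl) (rfl | rfl)
    · exact Or.inl rfl
    · exact Or.inr (by ring)
    · exact Or.inr (by ring)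
    · exact Or.inl rfl
  rcases cl _ hr with ⟨r, r2⟩ | r2 <;> rcases cl _ hs with ⟨s, s2⟩ | s2 <;> rcases cl _ ht with ⟨t, t2⟩ | t2 <;>
    rcases cl _ hu with ⟨u, u2⟩ | u2
  · exact absurd (by linear_combination (-4 : A) * hS + r2 + s2 + t2 + u2) n8
  · exact absurd (by linear_combination (-4 : A) * hS + r2 + s2 + t2 + u2) n4
  · exact absurd (by linear_combination (-4 : A) * hS + r2 + s2 + t2 + u2) n4
  · rcases pm _ _ r s with h | h
    · exact (opp _ _ _ _ h r2 t2 u2 (by ring)).elim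
    · refine Or.inl ⟨c2 _ (by linear_combination h), Or.inl ⟨?_, ?_⟩⟩
      · rw [show v₂ + v₃ = v₁ + v₂ + v₃ by linear_combination -(c2 v₁ (by linear_combination h))]
        exact r
      · rw [show v₂ - v₃ = -v₁ + v₂ - v₃ by linear_combination (c2 v₁ (by linear_combination h))]
        exact t2
  · exact absurd (by linear_combination (-4 : A) * hS + r2 + s2 + t2 + u2) n4
  · rcases pm _ _ r t with h | h
    · exact (opp _ _ _ _ h r2 s2 u2 (by ring)).elim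
    · have h0 : v₂ = 0 := c2 _ (by linear_combination h)
      refine Or.inr (Or.inl ⟨h0, Or.inl ⟨?_, ?_⟩⟩)
      · rw [show v₃ + v₁ = v₁ + v₂ + v₃ by linear_combination -h0]
        exact r
      · rw [show v₃ - v₁ = -v₁ - v₂ + v₃ by linear_combination h0]
        exact u2
  · rcases pm _ _ r u with h | h
    · exact (opp _ _ _ _ h r2 s2 t2 (by ring)).elim
    · have h0 : v₃ = 0 := c2 _ (by linear_combination h)
      refine Or.inr (Or.inr ⟨h0, Or.inl ⟨?_, ?_⟩⟩)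
      · rw [show v₁ + v₂ = v₁ + v₂ + v₃ by linear_combination -h0]
        exact r
      · rw [show v₁ - v₂ = v₁ - v₂ - v₃ by linear_combination h0]
        exact s2
  · exact absurd (by linear_combination (4 : A) * hS - r2 - s2 - t2 - u2) n4
  · exact absurd (by linear_combination (-4 : A) * hS + r2 + s2 + t2 + u2) n4
  · rcases pm _ _ s t with h | h
    · exact (opp _ _ _ _ h s2 r2 u2 (by ring)).elim
    · have h0 : v₃ = 0 := c2 _ (by linear_combination -h)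
      refine Or.inr (Or.inr ⟨h0, Or.inr ⟨?_, ?_⟩⟩)
      · rw [show v₁ - v₂ = v₁ - v₂ - v₃ by linear_combination h0]
        exact s
      · rw [show v₁ + v₂ = v₁ + v₂ + v₃ by linear_combination -h0]
        exact r2
  · rcases pm _ _ s u with h | h
    · exact (opp _ _ _ _ h s2 r2 t2 (by ring)).elim
    · have h0 : v₂ = 0 := c2 _ (by linear_combination -h)
      refine Or.inr (Or.inl ⟨h0, Or.inr ⟨?_, ?_⟩⟩)
      · rw [show v₃ - v₁ = -v₁ - v₂ + v₃ by linear_combination h0]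
        exact u
      · rw [show v₃ + v₁ = v₁ + v₂ + v₃ by linear_combination -h0]
        exact r2
  · exact absurd (by linear_combination (4 : A) * hS - r2 - s2 - t2 - u2) n4
  · rcases pm _ _ t u with h | h
    · exact (opp _ _ _ _ h t2 r2 s2 (by ring)).elim
    · have h0 : v₁ = 0 := c2 _ (by linear_combination -h)
      refine Or.inl ⟨h0, Or.inr ⟨?_, ?_⟩⟩
      · rw [show v₂ - v₃ = -v₁ + v₂ - v₃ by linear_combination h0]
        exact t
      · rw [show v₂ + v₃ = v₁ + v₂ + v₃ by linear_combination -h0]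
        exact r2
  · exact absurd (by linear_combination (4 : A) * hS - r2 - s2 - t2 - u2) n4
  · exact absurd (by linear_combination (4 : A) * hS - r2 - s2 - t2 - u2) n4
  · exact absurd (by linear_combination (4 : A) * hS - r2 - s2 - t2 - u2) n8

variable (K) in
/-- The normal form with parameter `e`. -/
def nf (i j k e : R) : R := qv i j k 0 0 ((2 : K)⁻¹ • (e - 1)) ((2 : K)⁻¹ • (-e - 1))

variable (hP : PSet K P) (h2 : (2 : K) ≠ 0) (h3 : (3 : K) ≠ 0)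
include hP h2 h3

/-- The coordinates commute. -/
theorem vec_comm (h : IsFrame i j k) {v₁ v₂ v₃ : R} (h1 : Cen i j v₁) (h2' : Cen i j v₂) (h3' : Cen i j v₃)
    (hp : qv i j k 0 v₁ v₂ v₃ ∈ P) :
    v₁ * v₂ = v₂ * v₁ ∧ v₁ * v₃ = v₃ * v₁ ∧ v₂ * v₃ = v₃ * v₂ ∧
      v₁ * v₁ + v₂ * v₂ + v₃ * v₃ = (3 : K) • (1 : R) := by
  obtain ⟨s0, s1, s2, s3⟩ := sq_coords hP h2 h3 h Cen.zero h1 h2' h3' hp
  simp only [zero_mul, mul_zero, zero_sub, zero_add, add_zero] at s0 s1 s2 s3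
  exact ⟨sub_eq_zero.mp s3, (neg_add_eq_zero.mp s2), sub_eq_zero.mp s1,
    by linear_combination (norm := module) (-1 : K) • s0⟩

set_option maxHeartbeats 1000000 in
/-- Bringing to normal form. -/
theorem axis_normal (h : Base P i j k) {a b : R} (ha : Cen i j a) (hb : Cen i j b) (hp : qv i j k 0 0 a b ∈ P)
    (hab : Shape a b) :
    ∃ e, Cen i j e ∧ e * e = (5 : K) • (1 : R) ∧ nf K i j k e ∈ P ∧
      a ∈ Algebra.adjoin K ({e} : Set R) ∧ b ∈ Algebra.adjoin K ({e} : Set R) := by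
  have five : (5 : R) = (5 : K) • (1 : R) := by rw [Algebra.smul_def, map_ofNat, mul_one]
  have main : ∀ a b : R, Cen i j a → Cen i j b → qv i j k 0 0 a b ∈ P → a + b = -1 →
      (a - b) * (a - b) = (5 : R) →
      ∃ e, Cen i j e ∧ e * e = (5 : K) • (1 : R) ∧ nf K i j k e ∈ P ∧
        a ∈ Algebra.adjoin K ({e} : Set R) ∧ b ∈ Algebra.adjoin K ({e} : Set R) := by
    intro a b ha hb hp hsum hsq
    have ea : (2 : K)⁻¹ • (a - b - 1) = a := by
      rw [inv_smul_eq_iff₀ h2]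
      linear_combination (norm := module) (-1 : K) • hsum
    have eb : (2 : K)⁻¹ • (-(a - b) - 1) = b := by
      rw [inv_smul_eq_iff₀ h2]
      linear_combination (norm := module) (-1 : K) • hsum
    refine ⟨a - b, ha.sub hb, hsq.trans five, by unfold nf; rwa [ea, eb], ?_, ?_⟩
    · have hm : ((2 : K)⁻¹ • (a - b - 1) : R) ∈ Algebra.adjoin K ({a - b} : Set R) :=
        Subalgebra.smul_mem _ (sub_mem (Algebra.subset_adjoin (Set.mem_singleton _)) (one_mem _)) _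
      rwa [ea] at hm
    · have hm : ((2 : K)⁻¹ • (-(a - b) - 1) : R) ∈ Algebra.adjoin K ({a - b} : Set R) :=
        Subalgebra.smul_mem _ (sub_mem (neg_mem (Algebra.subset_adjoin (Set.mem_singleton _))) (one_mem _)) _
      rwa [eb] at hm
  have hneg : ∀ a b : R, Cen i j a → Cen i j b → qv i j k 0 0 a b ∈ P → (a + b = 1 ∨ a + b = -1) →
      (a - b) * (a - b) = (5 : R) →
      ∃ e, Cen i j e ∧ e * e = (5 : K) • (1 : R) ∧ nf K i j k e ∈ P ∧
        a ∈ Algebra.adjoin K ({e} : Set R) ∧ b ∈ Algebra.adjoin K ({e} : Set R) := by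
    intro a b ha hb hp hsum hsq
    rcases hsum with hsum | hsum
    · obtain ⟨e, c1, c2, c3, c4, c5⟩ := main (-a) (-b) ha.neg hb.neg
        (by have := hP.neg _ hp; rwa [qv_neg, neg_zero] at this) (by rw [← neg_add, hsum])
        (by rw [show -a - -b = -(a - b) by abel, neg_mul_neg, hsq])
      exact ⟨e, c1, c2, c3, neg_mem_iff.mp c4, neg_mem_iff.mp c5⟩
    · exact main a b ha hb hp hsum hsq
  rcases hab with ⟨hs, hq⟩ | ⟨hs, hq⟩
  · exact hneg a b ha hb hp hs hq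
  · have hf := conj_flip hP h2 h3 h Cen.zero Cen.zero ha hb hp
    rw [neg_zero] at hf
    obtain ⟨e, c1, c2, c3, c4, c5⟩ := hneg (-a) b ha.neg hb hf
      (by rcases hs with hs | hs
          · exact Or.inr (by rw [← hs]; abel)
          · exact Or.inl (by rw [← neg_eq_iff_eq_neg.mpr hs]; abel))
      (by rw [show -a - b = -(a + b) by abel, neg_mul_neg, hq])
    exact ⟨e, c1, c2, c3, neg_mem_iff.mp c4, c5⟩

/-- Every element outside the diagonals has a parameter. -/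
theorem exists_param (hR : (1 : R) ≠ 0) (h : Base P i j k) {z : R} (hz : z ∈ P) :
    (∃ c₁ c₂ c₃ : K, z = qv i j k 0 (c₁ • 1) (c₂ • 1) (c₃ • 1)) ∨
      ∃ e, Cen i j e ∧ e * e = (5 : K) • (1 : R) ∧ nf K i j k e ∈ P ∧ ∃ v₁ ∈ Algebra.adjoin K ({e} : Set R),
        ∃ v₂ ∈ Algebra.adjoin K ({e} : Set R), ∃ v₃ ∈ Algebra.adjoin K ({e} : Set R), z = qv i j k 0 v₁ v₂ v₃ := by
  obtain ⟨a₀, v₁, v₂, v₃, g0, g1, g2, g3, rfl⟩ := exists_qv h2 h.frame z
  obtain rfl := p0_zero hP h2 h3 hR h g0 g1 g2 g3 hz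
  have five : (5 : R) = (5 : K) • (1 : R) := by rw [Algebra.smul_def, map_ofNat, mul_one]
  have quad : ∀ c₁ c₂ c₃ : K, v₁ = c₁ • 1 → v₂ = c₂ • 1 → v₃ = c₃ • 1 →
      ∃ c₁ c₂ c₃ : K, qv i j k (0 : R) v₁ v₂ v₃ = qv i j k 0 (c₁ • 1) (c₂ • 1) (c₃ • 1) :=
    fun c₁ c₂ c₃ a b c => ⟨c₁, c₂, c₃, by rw [a, b, c]⟩
  have one' : (1 : R) = (1 : K) • 1 := (one_smul _ _).symm
  have mone' : (-1 : R) = (-1 : K) • 1 := by rw [neg_smul, one_smul]
  have opt : ∀ e₁ e₂ e₃ : R, ∀ d₁ d₂ d₃ : K, e₁ = d₁ • 1 → e₂ = d₂ • 1 → e₃ = d₃ • 1 → (e₁ = 1 ∨ e₁ = -1) →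
      (e₂ = 1 ∨ e₂ = -1) → (e₃ = 1 ∨ e₃ = -1) → qv i j k 0 e₁ e₂ e₃ ∈ P →
      (∃ c₁ c₂ c₃ : K, qv i j k (0 : R) v₁ v₂ v₃ = qv i j k 0 (c₁ • 1) (c₂ • 1) (c₃ • 1)) ∨
        (e₁ * v₁ + e₂ * v₂ + e₃ * v₃ = 1 ∨ e₁ * v₁ + e₂ * v₂ + e₃ * v₃ = -1 ∨
          (e₁ * v₁ + e₂ * v₂ + e₃ * v₃) * (e₁ * v₁ + e₂ * v₂ + e₃ * v₃) = (5 : R)) := by
    intro e₁ e₂ e₃ d₁ d₂ d₃ x1 x2 x3 he₁ he₂ he₃ he
    rcases diag_cases hP h2 h3 h.frame g0 g1 g2 g3 he₁ he₂ he₃ hz he with e | e | e | e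
    · exact Or.inl (quad d₁ d₂ d₃ (e.2.1.trans x1) (e.2.2.1.trans x2) (e.2.2.2.trans x3))
    · exact Or.inl (quad (-d₁) (-d₂) (-d₃) (by rw [e.2.1, x1, neg_smul]) (by rw [e.2.2.1, x2, neg_smul])
        (by rw [e.2.2.2, x3, neg_smul]))
    · exact Or.inr (e.2.imp_right Or.inl)
    · have e2 := e.2
      rw [mul_zero, smul_zero, sub_zero] at e2
      exact Or.inr (Or.inr (Or.inr (e2.trans five.symm)))
  rcases opt 1 1 1 1 1 1 one' one' one' (Or.inl rfl) (Or.inl rfl) (Or.inl rfl) h.r_mem with q | hr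
  · exact Or.inl q
  rcases opt 1 (-1) (-1) 1 (-1) (-1) one' mone' mone' (Or.inl rfl) (Or.inr rfl) (Or.inr rfl) h.s_mem with q | hs
  · exact Or.inl q
  rcases opt (-1) 1 (-1) (-1) 1 (-1) mone' one' mone' (Or.inr rfl) (Or.inl rfl) (Or.inr rfl) h.t_mem with q | ht
  · exact Or.inl q
  rcases opt (-1) (-1) 1 (-1) (-1) 1 mone' mone' one' (Or.inr rfl) (Or.inr rfl) (Or.inl rfl) h.u_mem with q | hu
  · exact Or.inl q
  simp only [one_mul, neg_one_mul, ← sub_eq_add_neg] at hr hs ht hu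
  obtain ⟨c12, c13, c23, hS⟩ := vec_comm hP h2 h3 h.frame g1 g2 g3 hz
  let A := Algebra.adjoin K ({v₁, v₂, v₃} : Set R)
  letI : CommRing A := Algebra.adjoinCommRingOfComm K (by
    rintro a (rfl | rfl | rfl) b (rfl | rfl | rfl)
    all_goals first | rfl | assumption | exact c12.symm | exact c13.symm | exact c23.symm)
  haveI : Nontrivial A := ⟨⟨1, 0, fun e => hR (congrArg Subtype.val e)⟩⟩
  let w₁ : A := ⟨v₁, Algebra.subset_adjoin (by simp)⟩
  let w₂ : A := ⟨v₂, Algebra.subset_adjoin (by simp)⟩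
  let w₃ : A := ⟨v₃, Algebra.subset_adjoin (by simp)⟩
  have five' : ((5 : A) : R) = (5 : R) := by norm_cast
  have lift : ∀ x : A, ((x : R) = 1 ∨ (x : R) = -1 ∨ (x : R) * x = (5 : R)) → (x = 1 ∨ x = -1 ∨ x * x = 5) := fun x hx =>
    hx.imp (fun e => Subtype.ext e) (Or.imp (fun e => Subtype.ext e) fun e => Subtype.ext (e.trans five'.symm))
  have hcl := comm_classify (K := K) h2 (v₁ := w₁) (v₂ := w₂) (v₃ := w₃)
    (Subtype.ext (hS.trans (by
      rw [Algebra.smul_def, map_ofNat, mul_one]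
      norm_cast)))
    (lift _ hr) (lift _ hs) (lift _ ht) (lift _ hu)
  have low : ∀ a b : A, Shape a b → Shape (a : R) (b : R) := fun a b hab =>
    hab.imp (fun h => ⟨h.1.imp (congrArg Subtype.val) (congrArg Subtype.val), (congrArg Subtype.val h.2).trans five'⟩)
      (fun h => ⟨h.1.imp (congrArg Subtype.val) (congrArg Subtype.val), (congrArg Subtype.val h.2).trans five'⟩)
  right
  rcases hcl with ⟨e0, hsh⟩ | ⟨e0, hsh⟩ | ⟨e0, hsh⟩
  · have e0' : v₁ = 0 := congrArg Subtype.val e0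
    obtain ⟨e, c1, c2, c3, c4, c5⟩ := axis_normal hP h2 h3 h g2 g3 (by have := hz; rwa [e0'] at this) (low _ _ hsh)
    exact ⟨e, c1, c2, c3, v₁, e0' ▸ zero_mem _, v₂, c4, v₃, c5, rfl⟩
  · have e0' : v₂ = 0 := congrArg Subtype.val e0
    have hr' := conj_rot hP h2 h3 h g0 g1 g2 g3 hz
    rw [e0'] at hr'
    obtain ⟨e, c1, c2, c3, c4, c5⟩ := axis_normal hP h2 h3 h g3 g1 hr' (low _ _ hsh)
    exact ⟨e, c1, c2, c3, v₁, c5, v₂, e0' ▸ zero_mem _, v₃, c4, rfl⟩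
  · have e0' : v₃ = 0 := congrArg Subtype.val e0
    have hr' := conj_rot hP h2 h3 h g0 g2 g3 g1 (conj_rot hP h2 h3 h g0 g1 g2 g3 hz)
    rw [e0'] at hr'
    obtain ⟨e, c1, c2, c3, c4, c5⟩ := axis_normal hP h2 h3 h g1 g2 hr' (low _ _ hsh)
    exact ⟨e, c1, c2, c3, v₁, c4, v₂, c5, v₃, e0' ▸ zero_mem _, rfl⟩

end Cfsg.Lib.Perm.Zas25
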