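import Cfsg.Agent.S0813
import Cfsg.Agent.Lib.Dickson.Orders
import Cfsg.Agent.Lib.Linear.SLBasic
import Cfsg.Agent.Lib.Recog.Icosahedral

/-!
# The automorphism group of `SL(2, 5)` and perfect terms of derived series
-/

set_option autoImplicit false
set_option linter.style.haveILetI false

namespace Cfsg.Lib.Perm.Zas25

open scoped MatrixGroups commutatorElement

universe u

/-- A finite non-solvable group has a normal perfect subgroup other than `⊥`. -/
theorem exists_perfect_normal {G : Type u} [Group G] [Finite G] (hns : ¬ Group.IsSolvable G) :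
    ∃ P : Subgroup G, P.Normal ∧ P ≠ ⊥ ∧ commutator P = ⊤ := by
  obtain ⟨a, b, hab, heq⟩ := Finite.exists_ne_map_eq_of_infinite (fun n => derivedSeries G n)
  wlog hlt : a < b generalizing a b
  · exact this b a hab.symm heq.symm (by omega)
  have h1 : derivedSeries G (a + 1) = derivedSeries G a :=
    le_antisymm (derivedSeries_antitone G (Nat.le_succ a))
      (heq.le.trans (derivedSeries_antitone G hlt))
  refine ⟨derivedSeries G a, inferInstance, fun h => hns ⟨⟨a, h⟩⟩, ?_⟩
  apply Subgroup.map_injective (Subgroup.subtype_injective (derivedSeries G a))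
  rw [Subgroup.map_subtype_commutator, ← MonoidHom.range_eq_map, Subgroup.range_subtype]
  exact h1

/-- An automorphism of a perfect group is determined by its action on the central quotient. -/
theorem aut_eq_one_of_quot {X : Type u} [Group X] (hperf : commutator X = ⊤) (φ : MulAut X)
    (h : ∀ x, x⁻¹ * φ x ∈ Subgroup.center X) : φ = 1 := by
  let c : X →* Subgroup.center X := MonoidHom.mk' (fun x => ⟨x⁻¹ * φ x, h x⟩) fun x y => Subtype.ext (by
    show (x * y)⁻¹ * φ (x * y) = (x⁻¹ * φ x) * (y⁻¹ * φ y)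
    rw [map_mul, mul_inv_rev]
    have h1 : y⁻¹ * (x⁻¹ * φ x) = (x⁻¹ * φ x) * y⁻¹ := Subgroup.mem_center_iff.mp (h x) y⁻¹
    calc y⁻¹ * x⁻¹ * (φ x * φ y) = y⁻¹ * (x⁻¹ * φ x) * φ y := by group
    _ = x⁻¹ * φ x * (y⁻¹ * φ y) := by rw [h1]; group)
  have hc : commutator X ≤ c.ker := by
    rw [commutator_def, Subgroup.commutator_le]
    intro a _ b _
    rw [MonoidHom.mem_ker, map_commutatorElement, commutatorElement_eq_one_iff_mul_comm]
    exact Subtype.ext (Subgroup.mem_center_iff.mp (c b).2 (c a : X))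
  rw [hperf] at hc
  refine MulEquiv.ext fun x => ?_
  have : (x⁻¹ * φ x) = 1 := congrArg Subtype.val (c.mem_ker.mp (hc (Subgroup.mem_top x)))
  rw [MulAut.one_apply]
  exact (inv_mul_eq_one.mp this).symm

theorem perfect_of_mulEquiv {X Y : Type*} [Group X] [Group Y] (e : X ≃* Y) (h : commutator X = ⊤) :
    commutator Y = ⊤ := by
  have := Subgroup.map_commutator (⊤ : Subgroup X) ⊤ e.toMonoidHom
  rw [← commutator_def, h, Subgroup.map_top_of_surjective e.toMonoidHom e.surjective, ← commutator_def] at this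
  exact this.symm

/-- A perfect group isomorphic to `SL(2, 5)` has at most `120` automorphisms. -/
theorem card_mulAut_le {X : Type u} [Group X] [Finite X] (hperf : commutator X = ⊤)
    (e : X ≃* Matrix.SpecialLinearGroup (Fin 2) (ZMod 5)) : Nat.card (MulAut X) ≤ 120 := by
  haveI := Fact.mk (show Nat.Prime 5 by norm_num)
  have h120 : Nat.card (MulAut (Matrix.ProjectiveSpecialLinearGroup (Fin 2) (ZMod 5))) = 120 := by
    rw [Cfsg.Agent.S0813.result 5 1 le_rfl (by rw [ZMod.card, pow_one]) 2 le_rfl (by norm_num),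
      Cfsg.Lib.Dickson.card_PGL_two_eq, ZMod.card, if_pos rfl]
    norm_num
  have hperf' := perfect_of_mulEquiv e hperf
  rw [Nat.card_congr (MulAut.congr e).toEquiv, ← h120]
  haveI : Finite (MulAut (Matrix.ProjectiveSpecialLinearGroup (Fin 2) (ZMod 5))) :=
    Finite.of_injective _ DFunLike.coe_injective
  let Z := Subgroup.center (Matrix.SpecialLinearGroup (Fin 2) (ZMod 5))
  have hmap : ∀ φ : MulAut (Matrix.SpecialLinearGroup (Fin 2) (ZMod 5)), Z.map φ.toMonoidHom = Z := fun φ =>
    Subgroup.characteristic_iff_map_eq.mp inferInstance φ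
  let F : MulAut (Matrix.SpecialLinearGroup (Fin 2) (ZMod 5)) →*
      MulAut (Matrix.ProjectiveSpecialLinearGroup (Fin 2) (ZMod 5)) :=
    { toFun := fun φ => QuotientGroup.congr Z Z φ (hmap φ)
      map_one' := MulEquiv.ext fun x => QuotientGroup.induction_on x fun _ => rfl
      map_mul' := fun _ _ => MulEquiv.ext fun x => QuotientGroup.induction_on x fun _ => rfl }
  refine Nat.card_le_card_of_injective F ((injective_iff_map_eq_one F).mpr fun φ hφ => ?_)
  refine aut_eq_one_of_quot hperf' φ fun x => ?_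
  have : ((φ x : Matrix.SpecialLinearGroup (Fin 2) (ZMod 5)) : _ ⧸ Z) = (x : _ ⧸ Z) :=
    DFunLike.congr_fun hφ (x : _ ⧸ Z)
  exact QuotientGroup.eq.mp this.symm

theorem card_center_eq_two {X : Type u} [Group X] (e : X ≃* Matrix.SpecialLinearGroup (Fin 2) (ZMod 5)) :
    Nat.card (Subgroup.center X) = 2 := by
  haveI := Fact.mk (show Nat.Prime 5 by norm_num)
  rw [Nat.card_congr (Subgroup.centerCongr e).toEquiv, Cfsg.Lib.Linear.card_center_SL, Fintype.card_fin, ZMod.card]
  norm_num

theorem card_eq_120 {X : Type u} [Group X] (e : X ≃* Matrix.SpecialLinearGroup (Fin 2) (ZMod 5)) :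
    Nat.card X = 120 := by
  rw [Nat.card_congr e.toEquiv]
  exact Cfsg.Lib.Recog.Icosa.card_sl_two_five

theorem exists_order_four {X : Type u} [Group X] (e : X ≃* Matrix.SpecialLinearGroup (Fin 2) (ZMod 5)) :
    ∃ x : X, x * x ≠ 1 ∧ (x * x) * (x * x) = 1 := by
  let s : Matrix.SpecialLinearGroup (Fin 2) (ZMod 5) := ⟨!![0, -1; 1, 0], by decide⟩
  refine ⟨e.symm s, fun h => ?_, ?_⟩
  · have := congrArg e h
    rw [map_mul, MulEquiv.apply_symm_apply, map_one] at this
    revert this; decide
  · apply e.injective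
    simp only [map_mul, MulEquiv.apply_symm_apply, map_one]
    decide

end Cfsg.Lib.Perm.Zas25
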