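import Cfsg.Agent.Lib.Perm.Zas25.Main
import Cfsg.Agent.S0033

/-!
# Fixed-point-free groups of automorphisms act fixed-point-freely on an elementary abelian group
-/

set_option autoImplicit false
set_option linter.style.haveILetI false

namespace Cfsg.Lib.Perm.Zas25

universe u v

variable {l : ℕ} [Fact l.Prime] {V : Type v} [AddCommGroup V] [Module (ZMod l) V] [Finite V] [Nontrivial V]
  {G : Type u} [Group G] [Finite G] (ρ : G →* Module.End (ZMod l) V)
  (hfpf : ∀ g : G, g ≠ 1 → ∀ v : V, ρ g v = v → v = 0)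
include hfpf

theorem natCast_ne_zero {q : ℕ} (hq : q.Prime) (h : q ∣ Nat.card G) : (q : ZMod l) ≠ 0 := fun e => by
  have h1 := (ZMod.natCast_eq_zero_iff q l).mp e
  rw [← (Nat.prime_dvd_prime_iff_eq Fact.out hq).mp h1] at h
  exact not_dvd_card ρ hfpf h

theorem two_three_ne_zero [Nontrivial G] (hperf : commutator G = ⊤) : (2 : ZMod l) ≠ 0 ∧ (3 : ZMod l) ≠ 0 := by
  obtain ⟨a, b⟩ := three_dvd_of_perfect ρ hfpf hperf
  exact ⟨by exact_mod_cast natCast_ne_zero ρ hfpf Nat.prime_two a,
    by exact_mod_cast natCast_ne_zero ρ hfpf Nat.prime_three b⟩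

/-- **Zassenhaus**, without hypotheses on the characteristic. -/
theorem perfect_iso [Nontrivial G] (hperf : commutator G = ⊤) :
    Nonempty (G ≃* Matrix.SpecialLinearGroup (Fin 2) (ZMod 5)) :=
  perfect_iso_sl25 ρ hfpf (two_three_ne_zero ρ hfpf hperf).1 (two_three_ne_zero ρ hfpf hperf).2 hperf

omit [Fact l.Prime] [AddCommGroup V] [Module (ZMod l) V] [Finite V] [Nontrivial V] [Finite G] hfpf in
/-- Additive endomorphisms of a vector space over a prime field are linear. -/
def endOfAdd (n : ℕ) {A : Type*} [AddCommGroup A] [Module (ZMod n) A] (f : G → A →+ A)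
    (h1 : ∀ x, f 1 x = x) (h2 : ∀ a b x, f (a * b) x = f a (f b x)) : G →* Module.End (ZMod n) A where
  toFun g := (f g).toZModLinearMap n
  map_one' := LinearMap.ext h1
  map_mul' a b := LinearMap.ext (h2 a b)

omit [Fact l.Prime] [AddCommGroup V] [Module (ZMod l) V] [Finite V] [Nontrivial V] hfpf in
/-- A fixed-point-free action on a group gives one on a vector space. -/
theorem exists_rep {K : Type v} [Group K] [Finite K] [Nontrivial G] (θ : G →* MulAut K)
    (hθ : Function.Injective θ) (h : ∀ g : G, g ≠ 1 → ∀ k : K, θ g k = k → k = 1) :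
    ∃ (l : ℕ) (_ : Fact l.Prime) (W : Type v) (_ : AddCommGroup W) (_ : Module (ZMod l) W) (_ : Finite W)
      (_ : Nontrivial W) (σ : G →* Module.End (ZMod l) W), ∀ g : G, g ≠ 1 → ∀ w : W, σ g w = w → w = 0 := by
  classical
  haveI hKnt : Nontrivial K := by
    by_contra hK
    rw [not_nontrivial_iff_subsingleton] at hK
    obtain ⟨g, hg⟩ := exists_ne (1 : G)
    exact hg (hθ (by rw [map_one]; exact MulEquiv.ext fun k => Subsingleton.elim _ _))
  obtain ⟨q, hq, hdvd⟩ := Nat.exists_prime_and_dvd (n := Nat.card G) (Finite.one_lt_card).ne'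
  haveI := Fact.mk hq
  obtain ⟨g, hg⟩ := exists_prime_orderOf_dvd_card' (G := G) q hdvd
  have hgne : g ≠ 1 := fun e => by rw [e, orderOf_one] at hg; exact hq.one_lt.ne hg
  haveI : Group.IsNilpotent K := Cfsg.Agent.S0033.result (θ g)
    (fun k hk => h g hgne k hk) q hq (by rw [orderOf_injective θ hθ, hg])
  haveI : Nontrivial (Subgroup.center K) := (Subgroup.nontrivial_iff_ne_bot _).mpr (Group.IsNilpotent.center_ne_bot K)
  obtain ⟨l, hl, hldvd⟩ := Nat.exists_prime_and_dvd (n := Nat.card (Subgroup.center K)) (Finite.one_lt_card).ne'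
  haveI := Fact.mk hl
  obtain ⟨z, hz⟩ := exists_prime_orderOf_dvd_card' (G := Subgroup.center K) l hldvd
  let M : Subgroup K :=
    { carrier := {x | x ∈ Subgroup.center K ∧ x ^ l = 1}
      one_mem' := ⟨one_mem _, one_pow l⟩
      mul_mem' := fun {a b} ha hb => ⟨mul_mem ha.1 hb.1, by
        rw [(show Commute a b from (Subgroup.mem_center_iff.mp hb.1 a)).mul_pow, ha.2, hb.2, one_mul]⟩
      inv_mem' := fun {a} ha => ⟨inv_mem ha.1, by rw [inv_pow, ha.2, inv_one]⟩ }
  letI : CommGroup M := { (inferInstance : Group M) with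
    mul_comm := fun a b => Subtype.ext (Subgroup.mem_center_iff.mp b.2.1 a) }
  have hM : ∀ (g : G) (x : K), x ∈ M → θ g x ∈ M := fun g x hx => ⟨Subgroup.mem_center_iff.mpr fun y => by
      obtain ⟨y, rfl⟩ := (θ g).surjective y
      rw [← map_mul, ← map_mul, Subgroup.mem_center_iff.mp hx.1 y],
    by rw [← map_pow, hx.2, map_one]⟩
  letI : Module (ZMod l) (Additive M) := AddCommGroup.zmodModule (fun x => by
    apply Additive.toMul.injective
    rw [toMul_nsmul, toMul_zero]
    exact Subtype.ext (by rw [SubgroupClass.coe_pow]; exact x.toMul.2.2))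
  haveI : Nontrivial (Additive M) := by
    have hzl : (z : K) ^ l = 1 := by
      have := pow_orderOf_eq_one z
      rw [hz] at this
      exact congrArg Subtype.val this
    refine nontrivial_of_ne (Additive.ofMul (⟨z, z.2, hzl⟩ : M)) 0 fun e => ?_
    have h1 : (z : K) = 1 := congrArg (fun w : Additive M => ((Additive.toMul w : M) : K)) e
    have : z = 1 := Subtype.ext h1
    rw [this, orderOf_one] at hz
    exact hl.one_lt.ne hz
  let f : G → (Additive M →+ Additive M) := fun g =>
    MonoidHom.toAdditive (((θ g).toMonoidHom.comp M.subtype).codRestrict M fun x => hM g x x.2)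
  have hf1 : ∀ x, f 1 x = x := fun x => Additive.toMul.injective (Subtype.ext (by
    show θ 1 ((Additive.toMul x : M) : K) = ((Additive.toMul x : M) : K)
    rw [map_one, MulAut.one_apply]))
  have hf2 : ∀ a b x, f (a * b) x = f a (f b x) := fun a b x => Additive.toMul.injective (Subtype.ext (by
    show θ (a * b) ((Additive.toMul x : M) : K) = θ a (θ b ((Additive.toMul x : M) : K))
    rw [map_mul, MulAut.mul_apply]))
  let σ := endOfAdd l f hf1 hf2
  refine ⟨l, inferInstance, Additive M, inferInstance, inferInstance, inferInstance, inferInstance, σ,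
    fun g hg w hw => ?_⟩
  apply Additive.toMul.injective
  exact Subtype.ext (h g hg _ (congrArg (fun w : Additive M => ((Additive.toMul w : M) : K)) hw))

end Cfsg.Lib.Perm.Zas25
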