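import Cfsg.Agent.Lib.Perm.Zas25.Automorph
import Cfsg.Agent.Lib.Perm.Zas25.AutSL

/-!
# Non-solvable groups of fixed-point-free linear maps
-/

set_option autoImplicit false
set_option linter.style.haveILetI false

namespace Cfsg.Lib.Perm.Zas25

universe u v

variable {l : ℕ} [Fact l.Prime] {V : Type v} [AddCommGroup V] [Module (ZMod l) V] [Finite V] [Nontrivial V]
  {G : Type u} [Group G] [Finite G] (ρ : G →* Module.End (ZMod l) V)
  (hfpf : ∀ g : G, g ≠ 1 → ∀ v : V, ρ g v = v → v = 0)
include hfpf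

theorem sq_cases {z y : G} (hz : z * z = 1) (hz1 : z ≠ 1) (hy : y * y = 1) : y = 1 ∨ y = z := by
  by_cases hy1 : y = 1
  · exact Or.inl hy1
  · exact Or.inr (rep_injective ρ hfpf
      ((neg_one_of_involution ρ hfpf hy hy1).trans (neg_one_of_involution ρ hfpf hz hz1).symm))

/-- **Structure of a non-solvable group of fixed-point-free linear maps.** -/
theorem nonsolvable_structure (hns : ¬ Group.IsSolvable G) :
    ∃ G₀ : Subgroup G, G₀.Normal ∧ (G₀.index = 1 ∨ G₀.index = 2) ∧
      ∃ S M : Subgroup G, S.Normal ∧ S ⊔ M = G₀ ∧ S ⊓ M = ⊥ ∧ (∀ s ∈ S, ∀ x ∈ M, s * x = x * s) ∧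
        Nonempty (S ≃* Matrix.SpecialLinearGroup (Fin 2) (ZMod 5)) ∧
        (∀ (p : ℕ) [Fact p.Prime] (P : Sylow p M), IsCyclic P) ∧ (Nat.card M).Coprime 30 := by
  classical
  obtain ⟨P, hPn, hPne, hPperf⟩ := exists_perfect_normal hns
  haveI := hPn
  haveI : Nontrivial P := (Subgroup.nontrivial_iff_ne_bot P).mpr hPne
  obtain ⟨e⟩ := perfect_iso (ρ.comp P.subtype)
    (fun g hg v hv => hfpf g (fun h => hg (Subtype.ext h)) v hv) hPperf
  obtain ⟨x, hx1, hx2⟩ := exists_order_four e
  set z : G := (x : G) * x with hzdef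
  have hzP : z ∈ P := mul_mem x.2 x.2
  have hz : z * z = 1 := congrArg Subtype.val hx2
  have hz1 : z ≠ 1 := fun h => hx1 (Subtype.ext h)
  have hzo : orderOf z = 2 := orderOf_eq_prime (p := 2) (by rw [pow_two]; exact hz) hz1
  set C : Subgroup G := Subgroup.centralizer (P : Set G) with hC
  haveI hCn : C.Normal := by rw [hC]; infer_instance
  -- elements of `P` centralising `P`
  have hcen : ∀ c ∈ C, c ∈ P → c * c = 1 := by
    intro c hcC hcP
    have hmem : (⟨c, hcP⟩ : P) ∈ Subgroup.center P :=
      Subgroup.mem_center_iff.mpr fun y => Subtype.ext (hcC y y.2)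
    have h2 : orderOf (⟨⟨c, hcP⟩, hmem⟩ : Subgroup.center P) ∣ 2 := card_center_eq_two e ▸ orderOf_dvd_natCard _
    rw [orderOf_dvd_iff_pow_eq_one, pow_two] at h2
    exact congrArg Subtype.val (congrArg Subtype.val h2)
  have hzC : z ∈ C := by
    intro y hy
    -- the conjugate of the involution by `y` is again the involution
    rcases sq_cases ρ hfpf hz hz1 (y := y * z * y⁻¹) (by
        rw [conj_mul, hz, mul_one, mul_inv_cancel]) with h | h
    · exact absurd (conj_eq_one_iff.mp h) hz1
    · exact mul_inv_eq_iff_eq_mul.mp h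
  -- `C` has no element of order four
  have hno4 : ∀ c ∈ C, (c * c) * (c * c) = 1 → c * c = 1 := by
    intro c hc h4
    rcases sq_cases ρ hfpf hz hz1 h4 with h | h
    · exact h
    refine hcen c hc ?_
    have hcx : (x : G) * c = c * x := hc x x.2
    have hsq : (c * x) * (c * x) = 1 := by
      rw [mul_assoc, ← mul_assoc (x : G) c, hcx, mul_assoc c (x : G), ← mul_assoc, ← hzdef, h, hz]
    rcases sq_cases ρ hfpf hz hz1 hsq with h | h
    · rw [mul_eq_one_iff_eq_inv.mp h]; exact inv_mem x.2
    · rw [eq_mul_inv_of_mul_eq h]; exact mul_mem hzP (inv_mem x.2)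
  haveI := Fact.mk Nat.prime_two
  have hC2 : 2 ∣ Nat.card C := by
    rw [← hzo, ← Subgroup.orderOf_mk z hzC]; exact orderOf_dvd_natCard _
  have hC4 : ¬ 2 ^ 2 ∣ Nat.card C := by
    intro h
    obtain ⟨K, hK⟩ := Sylow.exists_subgroup_card_pow_prime 2 h
    have hK2 : ∀ k : K, ((k : C) : G) = 1 ∨ ((k : C) : G) = z := by
      intro k
      have hk : k ^ 4 = 1 := by
        rw [show (4 : ℕ) = Nat.card K by rw [hK]; norm_num]; exact pow_card_eq_one'
      have hk4 : (((k : C) : G) * (k : C)) * (((k : C) : G) * (k : C)) = 1 := by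
        have := congrArg (fun k : K => ((k : C) : G)) hk
        simpa [pow_succ, mul_assoc] using this
      exact sq_cases ρ hfpf hz hz1 (hno4 _ (k : C).2 hk4)
    have : Nat.card K ≤ Nat.card Bool := by
      refine Nat.card_le_card_of_injective (fun k => decide (((k : C) : G) = 1)) fun a b hab => ?_
      have hab' : ((a : C) : G) = 1 ↔ ((b : C) : G) = 1 := by simpa using hab
      apply Subtype.ext; apply Subtype.ext
      rcases hK2 a with ha | ha <;> rcases hK2 b with hb | hb
      · rw [ha, hb]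
      · exact absurd ((hab'.mp ha).symm.trans hb).symm hz1
      · exact absurd ((hab'.mpr hb).symm.trans ha).symm hz1
      · rw [ha, hb]
    rw [hK, Nat.card_eq_fintype_card, Fintype.card_bool] at this
    omega
  obtain ⟨m, hm⟩ := hC2
  have hmodd : ¬ 2 ∣ m := fun ⟨r, hr⟩ => hC4 ⟨r, by rw [hm, hr]; ring⟩
  let N : Subgroup C := Subgroup.zpowers ⟨z, hzC⟩
  have hNcard : Nat.card N = 2 := by
    show Nat.card (Subgroup.zpowers (⟨z, hzC⟩ : C)) = 2
    rw [Nat.card_zpowers, Subgroup.orderOf_mk, hzo]
  haveI : N.Normal := by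
    refine ⟨fun n hn g => ?_⟩
    obtain ⟨k, rfl⟩ := Subgroup.mem_zpowers_iff.mp hn
    have hcz : g * ⟨z, hzC⟩ = (⟨z, hzC⟩ : C) * g := Subtype.ext ((g.2 z hzP).symm)
    rw [(Commute.zpow_right (show Commute g ⟨z, hzC⟩ from hcz) k).eq, mul_inv_cancel_right]
    exact hn
  have hNi : N.index = m := by
    have := N.card_mul_index
    rw [hNcard, hm] at this
    omega
  obtain ⟨M₀, hM₀⟩ := Subgroup.exists_right_complement'_of_coprime (N := N)
    (by rw [hNcard, hNi]; exact (Nat.Prime.coprime_iff_not_dvd Nat.prime_two).mpr hmodd)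
  have hM₀card : Nat.card M₀ = m := by
    have := hM₀.card_mul
    rw [hNcard, hm] at this
    omega
  let M : Subgroup G := M₀.map C.subtype
  have hMcard : Nat.card M = m := (Subgroup.card_map_of_injective C.subtype_injective).trans hM₀card
  have hMC : M ≤ C := Subgroup.map_subtype_le M₀
  -- an element of `M` whose square is trivial
  have hMsq : ∀ y ∈ M, y * y = 1 → y = 1 := by
    intro y hy h
    by_contra hy1
    have h1 : orderOf (⟨y, hy⟩ : M) = 2 :=
      orderOf_eq_prime (by rw [pow_two]; exact Subtype.ext h) fun e => hy1 (congrArg Subtype.val e)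
    exact hmodd (hMcard ▸ h1 ▸ orderOf_dvd_natCard _)
  have hPM : P ⊓ M = ⊥ := (Subgroup.eq_bot_iff_forall _).mpr fun y ⟨hyP, hyM⟩ =>
    hMsq y hyM (hcen y (hMC hyM) hyP)
  have hPCM : P ⊔ M = P ⊔ C := by
    refine le_antisymm (sup_le_sup_left hMC P) (sup_le le_sup_left fun c hc => ?_)
    have htop : N ⊔ M₀ = ⊤ := hM₀.sup_eq_top
    have : c ∈ (N ⊔ M₀).map C.subtype := by
      rw [htop, ← MonoidHom.range_eq_map, Subgroup.range_subtype]; exact hc
    rw [Subgroup.map_sup] at this
    refine (sup_le ?_ le_sup_right : N.map C.subtype ⊔ M₀.map C.subtype ≤ P ⊔ M) this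
    rw [MonoidHom.map_zpowers]
    exact le_trans (Subgroup.zpowers_le.mpr hzP) le_sup_left
  refine ⟨P ⊔ C, Subgroup.sup_normal P C, ?_, P, M, hPn, hPCM, hPM, fun s hs y hy => hMC hy s hs, ⟨e⟩, ?_, ?_⟩
  · let φ : G →* MulAut P := MulAut.conjNormal
    have hker : φ.ker = C := by
      ext g
      rw [MonoidHom.mem_ker, Subgroup.mem_centralizer_iff]
      constructor
      · intro h y hy
        have h2 : g * y * g⁻¹ = y := by
          have := congrArg (fun f : MulAut P => ((f ⟨y, hy⟩ : P) : G)) h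
          simpa [φ] using this
        exact (mul_inv_eq_iff_eq_mul.mp h2).symm
      · intro h
        refine MulEquiv.ext fun y => Subtype.ext ?_
        rw [MulAut.conjNormal_apply, MulAut.one_apply, ← h y y.2, mul_inv_cancel_right]
    haveI : Finite (MulAut P) := Finite.of_injective _ DFunLike.coe_injective
    have h120 := card_mulAut_le hPperf e
    have hindex := Subgroup.index_map P φ
    rw [hker] at hindex
    have hle : (P.map φ).index ≤ 2 := by
      have h1 := (P.map φ).card_mul_index
      have hcP : Nat.card (P.map φ) * 2 = 120 := by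
        rw [← card_eq_120 e, ← card_center_eq_two e]
        have h3 := (φ.comp P.subtype).ker.card_mul_index
        rw [Subgroup.index_ker, MonoidHom.range_comp, Subgroup.range_subtype] at h3
        have h4 : (φ.comp P.subtype).ker = Subgroup.center P := by
          ext y
          rw [← MonoidHom.comap_ker, hker, Subgroup.mem_comap, Subgroup.coe_subtype,
            Subgroup.mem_centralizer_iff, Subgroup.mem_center_iff]
          exact ⟨fun h k => Subtype.ext (h k k.2), fun h k hk => congrArg Subtype.val (h ⟨k, hk⟩)⟩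
        rw [h4] at h3
        rw [mul_comm]; exact h3
      have h2 : Nat.card (P.map φ) = 60 := by omega
      rw [h2] at h1
      omega
    have hpos : 0 < φ.range.index := Nat.pos_of_ne_zero Subgroup.index_ne_zero_of_finite
    have hpos2 : 0 < (P ⊔ C).index := Nat.pos_of_ne_zero Subgroup.index_ne_zero_of_finite
    have : (P ⊔ C).index ≤ (P ⊔ C).index * φ.range.index := Nat.le_mul_of_pos_right _ hpos
    omega
  · intro p _ Q
    rcases pgroup_cases ρ hfpf _ (Q.2.map M.subtype) with hc | ⟨rfl, n, hn, ⟨e'⟩⟩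
    · exact isCyclic_of_surjective ((Q : Subgroup M).equivMapOfInjective M.subtype M.subtype_injective).symm.toMonoidHom
        ((Q : Subgroup M).equivMapOfInjective M.subtype M.subtype_injective).symm.surjective
    · exfalso
      have h1 : Nat.card ((Q : Subgroup M).map M.subtype) = 4 * 2 ^ n := by
        rw [Nat.card_congr e'.toEquiv, Nat.card_eq_fintype_card, QuaternionGroup.card]
      rw [Subgroup.card_map_of_injective M.subtype_injective] at h1
      refine hmodd (hMcard ▸ dvd_trans ⟨2 * 2 ^ n, ?_⟩ (Subgroup.card_subgroup_dvd_card (Q : Subgroup M)))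
      rw [h1]; ring
  · have hq : ∀ q, q.Prime → q ∣ 120 → q ≠ 2 → ¬ q ∣ Nat.card M := by
      intro q hqp h120 hq2 hd
      haveI := Fact.mk hqp
      obtain ⟨a, ha⟩ := exists_prime_orderOf_dvd_card' (G := M) q hd
      obtain ⟨b, hb⟩ := exists_prime_orderOf_dvd_card' (G := P) q (card_eq_120 e ▸ h120)
      have hab : (a : G) ∈ Subgroup.zpowers (b : G) := mem_zpowers_of_comm ρ hfpf (q := q)
        (by rw [Subgroup.orderOf_coe]; exact hb) (by rw [Subgroup.orderOf_coe]; exact ha) (hMC a.2 b b.2)
      have haP : (a : G) ∈ P := Subgroup.zpowers_le.mpr b.2 hab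
      have : (a : G) = 1 := hMsq a a.2 (hcen a (hMC a.2) haP)
      rw [← Subgroup.orderOf_coe, this, orderOf_one] at ha
      exact hqp.one_lt.ne ha
    rw [show (30 : ℕ) = 2 * (3 * 5) by norm_num]
    exact Nat.Coprime.mul_right ((Nat.Prime.coprime_iff_not_dvd Nat.prime_two).mpr (hMcard ▸ hmodd)).symm
      (Nat.Coprime.mul_right
        ((Nat.Prime.coprime_iff_not_dvd Nat.prime_three).mpr (hq 3 Nat.prime_three (by norm_num) (by norm_num))).symm
        ((Nat.Prime.coprime_iff_not_dvd (by norm_num : Nat.Prime 5)).mpr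
          (hq 5 (by norm_num) (by norm_num) (by norm_num))).symm)

end Cfsg.Lib.Perm.Zas25
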