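import Mathlib

/-!
# Fixed-point-free groups inside an algebra of rank four

A group of fixed-point-free linear maps generated by elements of order three that lie in an algebra spanned by
`1, a, b, ab` over a commutative ring, `a ^ 2`, `b ^ 2` and `a b + b a` lying in that ring, embeds into `SL(2, E)`.
-/

set_option autoImplicit false
set_option linter.style.haveILetI false

namespace Cfsg.Lib.Perm.Zas25

open Matrix
open scoped MatrixGroups

universe u v

/-- An irreducible pair of quadratic maps with central anticommutator has degree at most two. -/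
theorem finrank_le_two {E W : Type*} [Field E] [Fintype E] [AddCommGroup W] [Module E W] [Nontrivial W]
    (hE : Fintype.card E % 2 = 1) (a b : Module.End E W) (A B D : E) (ha : ∀ v, a (a v) = A • v)
    (hb : ∀ v, b (b v) = B • v) (hab : ∀ v, a (b v) + b (a v) = D • v)
    (hmin : ∀ U : Submodule E W, (∀ v ∈ U, a v ∈ U) → (∀ v ∈ U, b v ∈ U) → U = ⊥ ∨ U = ⊤) :
    Module.finrank E W ≤ 2 := by
  classical
  have core : ∀ (a' b' : Module.End E W) (μ B' D' : E), (∀ v, a' (a' v) = (μ * μ) • v) →
      (∀ v, b' (b' v) = B' • v) → (∀ v, a' (b' v) + b' (a' v) = D' • v) →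
      (∀ U : Submodule E W, (∀ v ∈ U, a' v ∈ U) → (∀ v ∈ U, b' v ∈ U) → U = ⊥ ∨ U = ⊤) →
      Module.finrank E W ≤ 2 := by
    intro a' b' μ B' D' ha' hb' hab' hmin'
    obtain ⟨v, hv⟩ := exists_ne (0 : W)
    obtain ⟨w, ν, hw, hwν⟩ : ∃ (w : W) (ν : E), w ≠ 0 ∧ a' w = ν • w := by
      by_cases hu : a' v + μ • v = 0
      · exact ⟨v, -μ, hv, by rw [neg_smul]; exact eq_neg_of_add_eq_zero_left hu⟩
      · refine ⟨_, μ, hu, ?_⟩
        rw [map_add, map_smul, ha', smul_add, smul_smul, add_comm]
    let U : Submodule E W := Submodule.span E (Set.range ![w, b' w])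
    have hwU : w ∈ U := Submodule.subset_span ⟨0, rfl⟩
    have hbwU : b' w ∈ U := Submodule.subset_span ⟨1, rfl⟩
    have hUa : U ≤ U.comap a' := Submodule.span_le.mpr <| by
      rintro _ ⟨i, rfl⟩
      fin_cases i
      · show a' w ∈ U
        rw [hwν]; exact U.smul_mem _ hwU
      · show a' (b' w) ∈ U
        rw [eq_sub_of_add_eq (hab' w), hwν, map_smul]
        exact U.sub_mem (U.smul_mem _ hwU) (U.smul_mem _ hbwU)
    have hUb : U ≤ U.comap b' := Submodule.span_le.mpr <| by
      rintro _ ⟨i, rfl⟩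
      fin_cases i
      · exact hbwU
      · show b' (b' w) ∈ U
        rw [hb']; exact U.smul_mem _ hwU
    rcases hmin' U (fun v h => hUa h) (fun v h => hUb h) with h | h
    · rw [h, Submodule.mem_bot] at hwU
      exact absurd hwU hw
    · have := finrank_range_le_card (R := E) ![w, b' w]
      rw [Set.finrank, show Submodule.span E (Set.range ![w, b' w]) = ⊤ from h, finrank_top] at this
      simpa using this
  by_cases hsq : ∃ z : E, z * z = A
  · obtain ⟨z, rfl⟩ := hsq
    exact core a b z B D ha hb hab hmin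
  push Not at hsq
  have hA0 : A ≠ 0 := fun e => hsq 0 (by rw [e, mul_zero])
  obtain ⟨x, y, hxy⟩ := FiniteField.exists_root_sum_quadratic (R := E)
    (f := Polynomial.C A * Polynomial.X ^ 2 + Polynomial.C D * Polynomial.X + Polynomial.C B)
    (g := -Polynomial.X ^ 2) (Polynomial.degree_quadratic hA0)
    (by rw [Polynomial.degree_neg, Polynomial.degree_X_pow]; rfl) hE
  simp only [Polynomial.eval_add, Polynomial.eval_mul, Polynomial.eval_C, Polynomial.eval_pow, Polynomial.eval_X,
    Polynomial.eval_neg] at hxy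
  refine core (x • a + b) a y A (2 * x * A + D) (fun v => ?_) ha (fun v => ?_) (fun U h1 h2 => ?_)
  · simp only [LinearMap.add_apply, LinearMap.smul_apply, map_add, map_smul, ha, hb, smul_smul]
    rw [show y * y = x * x * A + x * D + B by linear_combination -hxy, add_smul, add_smul, mul_smul x D, ← hab v,
      smul_add, smul_add, smul_smul, mul_assoc]
    abel
  · simp only [LinearMap.add_apply, LinearMap.smul_apply, map_add, map_smul, ha]
    rw [add_smul, ← hab v, show 2 * x * A = x * A + x * A by ring, add_smul, smul_smul]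
    abel
  · refine hmin U h2 fun v hv => ?_
    have := U.sub_mem (h1 v hv) (U.smul_mem x (h2 v hv))
    simpa using this

/-- A two-dimensional representation by maps with `x ^ 2 + x + 1 = 0` is special linear. -/
theorem sl_of_end {E W H : Type*} [Field E] [AddCommGroup W] [Module E W] [Nontrivial W] [Module.Finite E W]
    [Group H] (h2le : Module.finrank E W ≤ 2) (ψ : H →* Module.End E W) (hψ : Function.Injective ψ) (T : Set H)
    (hT : Subgroup.closure T = ⊤) (hrel : ∀ x ∈ T, ψ x * ψ x + ψ x + 1 = 0)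
    (hTc : ∀ x ∈ T, ∃ y, x * y ≠ y * x) (hne : T.Nonempty) :
    ∃ f : H →* SL(2, E), Function.Injective f := by
  classical
  have h2 : Module.finrank E W = 2 := by
    rcases Nat.lt_or_ge (Module.finrank E W) 2 with hlt | hge
    · exfalso
      have h1 : Module.finrank E W = 1 := by
        have := Module.finrank_pos (R := E) (M := W)
        omega
      obtain ⟨w, hw⟩ := exists_ne (0 : W)
      obtain ⟨x, hx⟩ := hne
      obtain ⟨y, hxy⟩ := hTc x hx
      refine hxy (hψ ?_)
      rw [map_mul, map_mul]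
      refine LinearMap.ext fun v => ?_
      obtain ⟨r, hr⟩ := exists_smul_eq_of_finrank_eq_one h1 hw v
      obtain ⟨s, hs⟩ := exists_smul_eq_of_finrank_eq_one h1 hw (ψ x w)
      obtain ⟨t, ht⟩ := exists_smul_eq_of_finrank_eq_one h1 hw (ψ y w)
      simp only [Module.End.mul_apply, ← hr, map_smul, ← hs, ← ht, smul_smul]
      rw [mul_comm t s]
    · omega
  let bs := Module.finBasisOfFinrankEq E W h2
  let M : H →* Matrix (Fin 2) (Fin 2) E :=
    { toFun := fun g => LinearMap.toMatrixAlgEquiv bs (ψ g)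
      map_one' := by rw [map_one, map_one]
      map_mul' := fun g h => by rw [map_mul, map_mul] }
  have hM : Function.Injective M := (LinearMap.toMatrixAlgEquiv bs).injective.comp hψ
  let D : H →* E :=
    { toFun := fun g => (M g).det
      map_one' := by rw [map_one, Matrix.det_one]
      map_mul' := fun g h => by rw [map_mul, Matrix.det_mul] }
  have hdetT : ∀ x ∈ T, D x = 1 := by
    intro x hx
    obtain ⟨y, hxy⟩ := hTc x hx
    have hrel' : M x * M x + M x + 1 = 0 := by
      have := congrArg (LinearMap.toMatrixAlgEquiv bs) (hrel x hx)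
      rw [map_add, map_add, map_mul, map_one, map_zero] at this
      exact this
    show (M x).det = 1
    obtain ⟨p, q, r, t, hX⟩ : ∃ p q r t, M x = !![p, q; r, t] := ⟨_, _, _, _, Matrix.eta_fin_two (M x)⟩
    have hns : ¬ (q = 0 ∧ r = 0 ∧ p = t) := by
      rintro ⟨rfl, rfl, rfl⟩
      refine hxy (hM ?_)
      rw [map_mul, map_mul, hX]
      ext i j
      fin_cases i <;> fin_cases j <;> simp [Matrix.mul_apply, Fin.sum_univ_two, mul_comm]
    rw [hX] at hrel' ⊢
    rw [Matrix.mul_fin_two, Matrix.one_fin_two] at hrel'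
    have e00 := congrFun (congrFun hrel' 0) 0
    have e01 := congrFun (congrFun hrel' 0) 1
    have e10 := congrFun (congrFun hrel' 1) 0
    have e11 := congrFun (congrFun hrel' 1) 1
    simp at e00 e01 e10 e11
    have ht : p + t + 1 = 0 := by
      by_contra h
      refine hns ⟨(mul_eq_zero.mp (show q * (p + t + 1) = 0 by linear_combination e01)).resolve_right h,
        (mul_eq_zero.mp (show r * (p + t + 1) = 0 by linear_combination e10)).resolve_right h,
        sub_eq_zero.mp ((mul_eq_zero.mp (show (p - t) * (p + t + 1) = 0 by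
          linear_combination e00 - e11)).resolve_right h)⟩
    rw [Matrix.det_fin_two_of]
    linear_combination p * ht - e00
  have hdet : ∀ g : H, (M g).det = 1 := by
    intro g
    have hg : g ∈ Subgroup.closure T := by rw [hT]; exact Subgroup.mem_top g
    show D g = 1
    induction hg using Subgroup.closure_induction with
    | mem x hx => exact hdetT x hx
    | one => exact map_one D
    | mul x y _ _ ex ey => rw [map_mul, ex, ey, one_mul]
    | inv x _ ex =>
      have h := map_mul D x⁻¹ x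
      rw [inv_mul_cancel, map_one, ex, mul_one] at h
      exact h.symm
  exact ⟨{ toFun := fun g => ⟨M g, hdet g⟩
           map_one' := Subtype.ext (map_one M)
           map_mul' := fun g h => Subtype.ext (map_mul M g h) }, fun g h e => hM (congrArg Subtype.val e)⟩

variable {l : ℕ} [Fact l.Prime] {V : Type v} [AddCommGroup V] [Module (ZMod l) V] [Finite V]
  {G : Type u} [Group G] [Finite G]

set_option maxHeartbeats 4000000 in
/-- The embedding into `SL(2, E)`. -/
theorem exists_sl_embedding [Nontrivial V] (hl : l ≠ 2) (ρ : G →* Module.End (ZMod l) V)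
    (hfpf : ∀ g : G, g ≠ 1 → ∀ v : V, ρ g v = v → v = 0) (S : Set G) (hne : S.Nonempty)
    (hS3 : ∀ x ∈ S, x ^ 3 = 1) (hSc : ∀ x ∈ S, ∃ y ∈ S, x * y ≠ y * x)
    (C : Subring (Module.End (ZMod l) V)) (hCc : ∀ c ∈ C, ∀ d ∈ C, c * d = d * c)
    (a b : Module.End (ZMod l) V) (ha : ∀ c ∈ C, a * c = c * a) (hb : ∀ c ∈ C, b * c = c * b)
    (haa : a * a ∈ C) (hbb : b * b ∈ C) (hab : a * b + b * a ∈ C)
    (hspan : ∀ x ∈ S, ∃ c₀ ∈ C, ∃ c₁ ∈ C, ∃ c₂ ∈ C, ∃ c₃ ∈ C, ρ x = c₀ + c₁ * a + c₂ * b + c₃ * (a * b)) :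
    ∃ (E : Type v) (_ : Field E) (_ : Fintype E) (_ : CharP E l) (f : Subgroup.closure S →* SL(2, E)),
      Function.Injective f := by
  classical
  obtain ⟨W, ⟨hW0, hWC, hWa, hWb⟩, hWmin⟩ := Set.Finite.exists_minimal
    (Set.toFinite {W : Submodule (ZMod l) V | W ≠ ⊥ ∧ (∀ c ∈ C, ∀ v ∈ W, c v ∈ W) ∧ (∀ v ∈ W, a v ∈ W) ∧
      ∀ v ∈ W, b v ∈ W}) ⟨⊤, top_ne_bot, fun _ _ _ _ => trivial, fun _ _ => trivial, fun _ _ => trivial⟩
  haveI : Nontrivial W := Submodule.nontrivial_iff_ne_bot.mpr hW0
  let φ : C →+* Module.End (ZMod l) W :=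
    { toFun := fun c => (c : Module.End (ZMod l) V).restrict (hWC c c.2)
      map_one' := rfl
      map_mul' := fun _ _ => rfl
      map_zero' := rfl
      map_add' := fun _ _ => rfl }
  let K := φ.range
  letI : CommRing K :=
    { (inferInstance : Ring K) with
      mul_comm := by
        rintro ⟨_, c, rfl⟩ ⟨_, d, rfl⟩
        refine Subtype.ext ?_
        show φ c * φ d = φ d * φ c
        rw [← map_mul, ← map_mul, show c * d = d * c from Subtype.ext (hCc c c.2 d d.2)] }
  -- kernels of elements of the ring are invariant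
  have hker : ∀ e : K, e ≠ 0 → ∀ v : W, (e : Module.End (ZMod l) W) v = 0 → v = 0 := by
    rintro ⟨_, c, rfl⟩ he v hv
    by_contra hv0
    let U : Submodule (ZMod l) V :=
      { carrier := {v | v ∈ W ∧ (c : Module.End (ZMod l) V) v = 0}
        zero_mem' := ⟨W.zero_mem, map_zero _⟩
        add_mem' := fun {x y} hx hy => ⟨W.add_mem hx.1 hy.1, by rw [map_add, hx.2, hy.2, add_zero]⟩
        smul_mem' := fun r x hx => ⟨W.smul_mem r hx.1, by rw [map_smul, hx.2, smul_zero]⟩ }
    have hcomm : ∀ T : Module.End (ZMod l) V, T * c = c * T → (∀ v ∈ W, T v ∈ W) → ∀ v ∈ U, T v ∈ U :=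
      fun T hT hTW v hv => ⟨hTW v hv.1, by
        rw [← Module.End.mul_apply, ← hT, Module.End.mul_apply, hv.2, map_zero]⟩
    have hU : U = W := le_antisymm (fun x hx => hx.1) (hWmin (y := U)
      ⟨fun e => hv0 (Subtype.ext ((Submodule.eq_bot_iff U).mp e v
          ⟨v.2, congrArg Subtype.val (show φ c v = 0 from hv)⟩)),
        fun d hd => hcomm d (hCc d hd c c.2) (hWC d hd), hcomm a (ha c c.2) hWa, hcomm b (hb c c.2) hWb⟩
      fun x hx => hx.1)
    refine he (Subtype.ext (LinearMap.ext fun x => Subtype.ext ?_))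
    exact (hU.symm ▸ x.2 : (x : V) ∈ U).2
  haveI : Finite (Module.End (ZMod l) W) := Finite.of_injective _ DFunLike.coe_injective
  haveI : Finite K := Finite.of_injective (fun e : K => (e : Module.End (ZMod l) W)) Subtype.val_injective
  haveI : Nontrivial K := ⟨⟨1, 0, fun e => by
    obtain ⟨v, hv⟩ := exists_ne (0 : W)
    exact hv (LinearMap.congr_fun (congrArg Subtype.val e) v)⟩⟩
  haveI : NoZeroDivisors K := ⟨fun {e f} h => by
    by_contra hh
    push Not at hh
    refine hh.2 (Subtype.ext (LinearMap.ext fun v => hker e hh.1 _ ?_))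
    exact LinearMap.congr_fun (congrArg Subtype.val h) v⟩
  haveI : IsDomain K := NoZeroDivisors.to_isDomain K
  letI : Field K := (Finite.isDomain_to_isField K).toField
  haveI : Fintype K := Fintype.ofFinite K
  haveI hchar : CharP K l := by
    refine (CharP.charP_iff_prime_eq_zero Fact.out).mpr (Subtype.ext (LinearMap.ext fun v => ?_))
    show ((l : Module.End (ZMod l) W)) v = 0
    simp [← Nat.cast_smul_eq_nsmul (R := ZMod l)]
  have hodd : Fintype.card K % 2 = 1 := FiniteField.odd_card_of_char_ne_two (by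
    rw [ringChar.eq K l]; exact hl)
  -- semilinear structure
  let mk : ∀ T : Module.End (ZMod l) V, (∀ v ∈ W, T v ∈ W) → (∀ c ∈ C, T * c = c * T) → Module.End K W :=
    fun T hT hTc =>
      { toFun := fun v => ⟨T v, hT v v.2⟩
        map_add' := fun x y => Subtype.ext (map_add T _ _)
        map_smul' := by
          rintro ⟨_, c, rfl⟩ v
          exact Subtype.ext (LinearMap.congr_fun (hTc c c.2) (v : V)) }
  let aK := mk a hWa ha
  let bK := mk b hWb hb
  have hmin : ∀ U : Submodule K W, (∀ v ∈ U, aK v ∈ U) → (∀ v ∈ U, bK v ∈ U) → U = ⊥ ∨ U = ⊤ := by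
    intro U h1 h2
    by_cases h0 : U = ⊥
    · exact Or.inl h0
    right
    let U' : Submodule (ZMod l) V :=
      { carrier := {v | ∃ hv : v ∈ W, (⟨v, hv⟩ : W) ∈ U}
        zero_mem' := ⟨W.zero_mem, U.zero_mem⟩
        add_mem' := by
          rintro x y ⟨hx, hx'⟩ ⟨hy, hy'⟩
          exact ⟨W.add_mem hx hy, U.add_mem hx' hy'⟩
        smul_mem' := by
          rintro r x ⟨hx, hx'⟩
          refine ⟨W.smul_mem r hx, ?_⟩
          have : (⟨r • x, W.smul_mem r hx⟩ : W) = r.val • (⟨x, hx⟩ : W) := Subtype.ext (by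
            rw [SetLike.val_smul_of_tower, ← Nat.cast_smul_eq_nsmul (R := ZMod l), ZMod.natCast_zmod_val])
          rw [this]
          exact U.toAddSubmonoid.nsmul_mem hx' _ }
    have hU' : W ≤ U' := hWmin (y := U') ⟨fun e => h0 ((Submodule.eq_bot_iff U).mpr fun v hv =>
        Subtype.ext ((Submodule.eq_bot_iff U').mp e v ⟨v.2, hv⟩)),
      fun c hc v hv => hv.elim fun hv hv' => ⟨hWC c hc v hv, U.smul_mem (⟨φ ⟨c, hc⟩, ⟨c, hc⟩, rfl⟩ : K) hv'⟩,
      fun v hv => hv.elim fun hv hv' => ⟨hWa v hv, h1 _ hv'⟩,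
      fun v hv => hv.elim fun hv hv' => ⟨hWb v hv, h2 _ hv'⟩⟩ (fun v hv => hv.elim fun hv _ => hv)
    exact eq_top_iff.mpr fun v _ => (hU' v.2).2
  have h2le := finrank_le_two hodd aK bK ⟨φ ⟨_, haa⟩, ⟨_, haa⟩, rfl⟩ ⟨φ ⟨_, hbb⟩, ⟨_, hbb⟩, rfl⟩
    ⟨φ ⟨_, hab⟩, ⟨_, hab⟩, rfl⟩ (fun _ => rfl) (fun _ => rfl) (fun _ => rfl) hmin
  -- the group acts on `W` by `K`-linear maps
  let N : Subgroup G :=
    { carrier := {g | (∀ v ∈ W, ρ g v ∈ W) ∧ ∀ c ∈ C, ρ g * c = c * ρ g}
      one_mem' := ⟨fun v hv => by rw [map_one]; exact hv, fun c _ => by rw [map_one, one_mul, mul_one]⟩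
      mul_mem' := fun {g h} hg hh => ⟨fun v hv => by rw [map_mul]; exact hg.1 _ (hh.1 v hv), fun c hc => by
        rw [map_mul, mul_assoc, hh.2 c hc, ← mul_assoc, hg.2 c hc, mul_assoc]⟩
      inv_mem' := fun {g} hg => ⟨fun v hv => by
          have hinj : Function.Injective fun u : W => (⟨ρ g u, hg.1 u u.2⟩ : W) := fun x y e => Subtype.ext <| by
            have := congrArg (ρ g⁻¹) (congrArg Subtype.val e)
            simpa [← Module.End.mul_apply, ← map_mul] using this
          obtain ⟨u, hu⟩ := (Finite.injective_iff_surjective.mp hinj) ⟨v, hv⟩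
          rw [show v = ρ g u from (congrArg Subtype.val hu).symm, ← Module.End.mul_apply, ← map_mul,
            inv_mul_cancel, map_one]
          exact u.2,
        fun c hc => by
          calc ρ g⁻¹ * c = ρ g⁻¹ * (c * ρ g) * ρ g⁻¹ := by
                rw [mul_assoc, mul_assoc, ← map_mul, mul_inv_cancel, map_one, mul_one]
            _ = ρ g⁻¹ * (ρ g * c) * ρ g⁻¹ := by rw [hg.2 c hc]
            _ = c * ρ g⁻¹ := by rw [← mul_assoc, ← map_mul, inv_mul_cancel, map_one, one_mul]⟩ }
  have hSN : Subgroup.closure S ≤ N := by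
    rw [Subgroup.closure_le]
    intro x hx
    obtain ⟨c₀, h₀, c₁, h₁, c₂, h₂, c₃, h₃, e⟩ := hspan x hx
    refine ⟨fun v hv => ?_, fun c hc => ?_⟩
    · rw [e]
      simp only [LinearMap.add_apply, Module.End.mul_apply]
      exact W.add_mem (W.add_mem (W.add_mem (hWC _ h₀ v hv) (hWC _ h₁ _ (hWa v hv))) (hWC _ h₂ _ (hWb v hv)))
        (hWC _ h₃ _ (hWa _ (hWb v hv)))
    · have ea : Commute a c := ha c hc
      have eb : Commute b c := hb c hc
      have ec : ∀ d ∈ C, Commute d c := fun d hd => hCc d hd c hc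
      rw [e]
      exact ((((ec _ h₀).add_left ((ec _ h₁).mul_left ea)).add_left ((ec _ h₂).mul_left eb)).add_left
        ((ec _ h₃).mul_left (ea.mul_left eb))).eq
  let ψ : Subgroup.closure S →* Module.End K W :=
    { toFun := fun g => mk (ρ g) (hSN g.2).1 (hSN g.2).2
      map_one' := LinearMap.ext fun v => Subtype.ext (by show ρ 1 (v : V) = v; rw [map_one]; rfl)
      map_mul' := fun g h => LinearMap.ext fun v => Subtype.ext (by
        show ρ ((g : G) * h) (v : V) = ρ g (ρ h v); rw [map_mul]; rfl) }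
  have hψ : Function.Injective ψ := by
    rw [injective_iff_map_eq_one]
    intro g hg
    by_contra hg1
    obtain ⟨v, hv⟩ := exists_ne (0 : W)
    exact hv (Subtype.ext (hfpf g (fun e => hg1 (Subtype.ext e)) v
      (congrArg Subtype.val (LinearMap.congr_fun hg v))))
  have hrel : ∀ x (hx : x ∈ S), ψ ⟨x, Subgroup.subset_closure hx⟩ * ψ ⟨x, Subgroup.subset_closure hx⟩ +
      ψ ⟨x, Subgroup.subset_closure hx⟩ + 1 = 0 := by
    intro x hx
    obtain ⟨y, -, hxy⟩ := hSc x hx
    refine LinearMap.ext fun v => Subtype.ext (hfpf x (fun e => hxy (by rw [e, one_mul, mul_one])) _ ?_)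
    show ρ x (ρ x (ρ x (v : V)) + ρ x (v : V) + (v : V)) = ρ x (ρ x (v : V)) + ρ x (v : V) + (v : V)
    have h3 : ρ x (ρ x (ρ x (v : V))) = (v : V) := by
      rw [← Module.End.mul_apply, ← Module.End.mul_apply, ← map_mul, ← map_mul,
        show x * x * x = 1 by rw [← hS3 x hx, pow_three, mul_assoc], map_one, Module.End.one_apply]
    rw [map_add, map_add, h3]
    abel
  haveI : Module.Finite K W := Module.Finite.of_finite
  let T : Set (Subgroup.closure S) := {x | (x : G) ∈ S}
  have hT : Subgroup.closure T = ⊤ := Subgroup.closure_closure_coe_preimage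
  have hrel' : ∀ x ∈ T, ψ x * ψ x + ψ x + 1 = 0 := fun x hx => hrel x hx
  have hTc : ∀ x ∈ T, ∃ y, x * y ≠ y * x := fun x hx => by
    obtain ⟨y, hy, hxy⟩ := hSc x hx
    exact ⟨⟨y, Subgroup.subset_closure hy⟩, fun e => hxy (congrArg Subtype.val e)⟩
  have hTne : T.Nonempty := by
    obtain ⟨x, hx⟩ := hne
    exact ⟨⟨x, Subgroup.subset_closure hx⟩, hx⟩
  obtain ⟨f, hf⟩ := sl_of_end (E := K) (W := W) h2le ψ hψ T hT hrel' hTc hTne
  exact ⟨K, inferInstance, inferInstance, hchar, f, hf⟩

end Cfsg.Lib.Perm.Zas25
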