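import Cfsg.Agent.Lib.Perm.Zas25.Quat

/-!
# Elements squaring to `-3` with restricted anticommutators

All of them lie in one quaternion algebra over a commutative ring.
-/

set_option autoImplicit false
set_option linter.unusedSectionVars false

namespace Cfsg.Lib.Perm.Zas25

variable (K : Type*) [Field K] {R : Type*} [Ring R] [Algebra K R]

/-- The axioms. -/
structure PSet (P : Set R) : Prop where
  sq : ∀ p ∈ P, p * p = (-3 : K) • (1 : R)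
  neg : ∀ p ∈ P, -p ∈ P
  conj : ∀ p ∈ P, ∀ q ∈ P, (4 : K)⁻¹ • ((p - 1) * q * (-p - 1)) ∈ P
  pair : ∀ p ∈ P, ∀ q ∈ P, q = p ∨ q = -p ∨ p * q + q * p = (2 : K) • (1 : R) ∨
    p * q + q * p = (-2 : K) • (1 : R) ∨ (p * q + q * p) * (p * q + q * p) = (20 : K) • (1 : R)

/-- A frame whose four diagonals lie in `P`. -/
structure Base (P : Set R) (i j k : R) : Prop where
  frame : IsFrame i j k
  r_mem : qv i j k 0 1 1 1 ∈ P
  s_mem : qv i j k 0 1 (-1) (-1) ∈ P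
  t_mem : qv i j k 0 (-1) 1 (-1) ∈ P
  u_mem : qv i j k 0 (-1) (-1) 1 ∈ P

variable {K} {P : Set R} {i j k : R}

theorem Base.rot (h : Base P i j k) : Base P j k i := by
  have e : ∀ a b c : R, qv j k i 0 a b c = qv i j k 0 c a b := fun a b c => by simp only [qv]; abel
  exact ⟨h.frame.rot, by rw [e]; exact h.r_mem, by rw [e]; exact h.t_mem, by rw [e]; exact h.u_mem,
    by rw [e]; exact h.s_mem⟩

theorem Base.flip (h : Base P i j k) : Base P i (-j) (-k) := by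
  have e : ∀ a b c : R, qv i (-j) (-k) 0 a b c = qv i j k 0 a (-b) (-c) := fun a b c => by simp only [qv]; simp
  exact ⟨h.frame.flipI, by rw [e]; exact h.s_mem, by rw [e, neg_neg]; exact h.r_mem,
    by rw [e, neg_neg]; exact h.u_mem, by rw [e, neg_neg]; exact h.t_mem⟩

/-- Cancellation of nonzero scalars. -/
theorem smul_cancel {c : K} (hc : c ≠ 0) {x y : R} (h : c • x = c • y) : x = y := by
  have := congrArg (fun z => c⁻¹ • z) h
  simpa [inv_smul_smul₀ hc] using this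

/-- The anticommutator with a diagonal. -/
theorem anti_diag (h : IsFrame i j k) {a₀ a₁ a₂ a₃ e₁ e₂ e₃ : R} (h0 : Cen i j a₀) (h1 : Cen i j a₁)
    (h2 : Cen i j a₂) (h3 : Cen i j a₃) (he₁ : e₁ = 1 ∨ e₁ = -1) (he₂ : e₂ = 1 ∨ e₂ = -1) (he₃ : e₃ = 1 ∨ e₃ = -1) :
    qv i j k a₀ a₁ a₂ a₃ * qv i j k 0 e₁ e₂ e₃ + qv i j k 0 e₁ e₂ e₃ * qv i j k a₀ a₁ a₂ a₃ =
      (2 : K) • qv i j k (-(e₁ * a₁ + e₂ * a₂ + e₃ * a₃)) (e₁ * a₀) (e₂ * a₀) (e₃ * a₀) := by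
  have hc : ∀ {e : R}, (e = 1 ∨ e = -1) → Cen i j e ∧ ∀ x, x * e = e * x := by
    rintro e (rfl | rfl)
    · exact ⟨Cen.one, fun x => by simp⟩
    · exact ⟨Cen.one.neg, fun x => by simp⟩
  rw [qv_mul h h0 h1 h2 h3, qv_mul h Cen.zero (hc he₁).1 (hc he₂).1 (hc he₃).1, qv_add, qv_smul]
  simp only [(hc he₁).2, (hc he₂).2, (hc he₃).2, zero_mul, mul_zero]
  congr 1 <;> module

variable (hP : PSet K P) (h2 : (2 : K) ≠ 0) (h3 : (3 : K) ≠ 0)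
include hP h2 h3

/-- The square of an element of `P` in coordinates. -/
theorem sq_coords (h : IsFrame i j k) {a₀ a₁ a₂ a₃ : R} (h0 : Cen i j a₀) (h1 : Cen i j a₁) (h2' : Cen i j a₂)
    (h3' : Cen i j a₃) (hp : qv i j k a₀ a₁ a₂ a₃ ∈ P) :
    a₀ * a₀ - a₁ * a₁ - a₂ * a₂ - a₃ * a₃ = (-3 : K) • (1 : R) ∧
      a₀ * a₁ + a₁ * a₀ + a₂ * a₃ - a₃ * a₂ = 0 ∧ a₀ * a₂ - a₁ * a₃ + a₂ * a₀ + a₃ * a₁ = 0 ∧
      a₀ * a₃ + a₁ * a₂ - a₂ * a₁ + a₃ * a₀ = 0 := by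
  have h' := hP.sq _ hp
  rw [qv_mul h h0 h1 h2' h3', qv_scalar (i := i) (j := j) (k := k)] at h'
  exact qv_inj h2 h ((((h0.mul h0).sub (h1.mul h1)).sub (h2'.mul h2')).sub (h3'.mul h3'))
    ((((h0.mul h1).add (h1.mul h0)).add (h2'.mul h3')).sub (h3'.mul h2'))
    ((((h0.mul h2').sub (h1.mul h3')).add (h2'.mul h0)).add (h3'.mul h1))
    ((((h0.mul h3').add (h1.mul h2')).sub (h2'.mul h1)).add (h3'.mul h0))
    (Cen.one.smul _) Cen.zero Cen.zero Cen.zero h'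

/-- The four possibilities against a diagonal. -/
theorem diag_cases (h : IsFrame i j k) {a₀ a₁ a₂ a₃ e₁ e₂ e₃ : R} (h0 : Cen i j a₀) (h1 : Cen i j a₁)
    (h2' : Cen i j a₂) (h3' : Cen i j a₃) (he₁ : e₁ = 1 ∨ e₁ = -1) (he₂ : e₂ = 1 ∨ e₂ = -1)
    (he₃ : e₃ = 1 ∨ e₃ = -1) (hp : qv i j k a₀ a₁ a₂ a₃ ∈ P) (he : qv i j k 0 e₁ e₂ e₃ ∈ P) :
    (a₀ = 0 ∧ a₁ = e₁ ∧ a₂ = e₂ ∧ a₃ = e₃) ∨ (a₀ = 0 ∧ a₁ = -e₁ ∧ a₂ = -e₂ ∧ a₃ = -e₃) ∨
      (a₀ = 0 ∧ (e₁ * a₁ + e₂ * a₂ + e₃ * a₃ = 1 ∨ e₁ * a₁ + e₂ * a₂ + e₃ * a₃ = -1)) ∨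
      (a₀ * (e₁ * a₁ + e₂ * a₂ + e₃ * a₃) + (e₁ * a₁ + e₂ * a₂ + e₃ * a₃) * a₀ = 0 ∧
        (e₁ * a₁ + e₂ * a₂ + e₃ * a₃) * (e₁ * a₁ + e₂ * a₂ + e₃ * a₃) - (3 : K) • (a₀ * a₀) = (5 : K) • (1 : R)) := by
  have hc : ∀ {e : R}, (e = 1 ∨ e = -1) → Cen i j e ∧ (∀ x, x * e = e * x) ∧ e * e = 1 := by
    rintro e (rfl | rfl)
    · exact ⟨Cen.one, fun x => by simp, by simp⟩
    · exact ⟨Cen.one.neg, fun x => by simp, by simp⟩
  obtain ⟨c1, d1, q1⟩ := hc he₁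
  obtain ⟨c2, d2, q2⟩ := hc he₂
  obtain ⟨c3, d3, q3⟩ := hc he₃
  set σ := e₁ * a₁ + e₂ * a₂ + e₃ * a₃ with hσ
  have hσc : Cen i j σ := ((c1.mul h1).add (c2.mul h2')).add (c3.mul h3')
  have hanti := anti_diag (K := K) h h0 h1 h2' h3' he₁ he₂ he₃
  rw [← hσ] at hanti
  have hscal : ∀ n : K, qv i j k (-σ) (e₁ * a₀) (e₂ * a₀) (e₃ * a₀) = n • (1 : R) → a₀ = 0 ∧ σ = (-n) • (1 : R) := by
    intro n hn
    rw [qv_scalar (i := i) (j := j) (k := k)] at hn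
    obtain ⟨x0, x1, -, -⟩ := qv_inj h2 h hσc.neg (c1.mul h0) (c2.mul h0) (c3.mul h0) (Cen.one.smul n) Cen.zero
      Cen.zero Cen.zero hn
    refine ⟨?_, by rw [neg_smul, ← x0, neg_neg]⟩
    have := congrArg (fun z => e₁ * z) x1
    simpa [← mul_assoc, q1] using this
  have key : ∀ n : K, qv i j k a₀ a₁ a₂ a₃ * qv i j k 0 e₁ e₂ e₃ + qv i j k 0 e₁ e₂ e₃ * qv i j k a₀ a₁ a₂ a₃ =
      ((2 : K) * n) • (1 : R) → a₀ = 0 ∧ σ = (-n) • (1 : R) := by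
    intro n hn
    rw [hanti, mul_smul] at hn
    exact hscal n (smul_cancel h2 hn)
  rcases hP.pair _ he _ hp with e | e | e | e | e
  · exact Or.inl (qv_inj h2 h h0 h1 h2' h3' Cen.zero c1 c2 c3 e)
  · rw [qv_neg, neg_zero] at e
    exact Or.inr (Or.inl (qv_inj h2 h h0 h1 h2' h3' Cen.zero c1.neg c2.neg c3.neg e))
  · obtain ⟨x, y⟩ := key 1 (by rw [mul_one, add_comm, e])
    exact Or.inr (Or.inr (Or.inl ⟨x, Or.inr (by rw [y, neg_smul, one_smul])⟩))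
  · obtain ⟨x, y⟩ := key (-1) (by rw [mul_neg, mul_one, add_comm, e])
    exact Or.inr (Or.inr (Or.inl ⟨x, Or.inl (by rw [y, neg_neg, one_smul])⟩))
  · refine Or.inr (Or.inr (Or.inr ?_))
    rw [add_comm, hanti, smul_mul_assoc, mul_smul_comm, smul_smul, show (20 : K) = 2 * 2 * 5 by norm_num,
      mul_smul ((2 : K) * 2) 5] at e
    have e' := smul_cancel (mul_ne_zero h2 h2) e
    rw [qv_mul h hσc.neg (c1.mul h0) (c2.mul h0) (c3.mul h0), qv_scalar (i := i) (j := j) (k := k)] at e'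
    obtain ⟨x0, x1, -, -⟩ := qv_inj h2 h
      (((((hσc.neg.mul hσc.neg).sub ((c1.mul h0).mul (c1.mul h0)))).sub ((c2.mul h0).mul (c2.mul h0))).sub
        ((c3.mul h0).mul (c3.mul h0)))
      ((((hσc.neg.mul (c1.mul h0)).add ((c1.mul h0).mul hσc.neg)).add ((c2.mul h0).mul (c3.mul h0))).sub
        ((c3.mul h0).mul (c2.mul h0)))
      ((((hσc.neg.mul (c2.mul h0)).sub ((c1.mul h0).mul (c3.mul h0))).add ((c2.mul h0).mul hσc.neg)).add
        ((c3.mul h0).mul (c1.mul h0)))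
      ((((hσc.neg.mul (c3.mul h0)).add ((c1.mul h0).mul (c2.mul h0))).sub ((c2.mul h0).mul (c1.mul h0))).add
        ((c3.mul h0).mul hσc.neg)) (Cen.one.smul _) Cen.zero Cen.zero Cen.zero e'
    have hee : ∀ {e f : R}, (∀ x, x * e = e * x) → ∀ x y : R, (f * x) * (e * y) = (f * e) * (x * y) := by
      intro e f d x y
      rw [mul_assoc, ← mul_assoc x e, d, ← mul_assoc, ← mul_assoc, ← mul_assoc]
    constructor
    · have h4 : -σ * (e₁ * a₀) + e₁ * a₀ * -σ = 0 := by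
        rw [add_sub_assoc, hee d3, hee d2, show e₂ * e₃ = e₃ * e₂ from d3 e₂, sub_self, add_zero] at x1
        exact x1
      have h5 := congrArg (fun z => e₁ * z) h4
      simp only [neg_mul, mul_neg, mul_add, mul_zero] at h5
      rw [← mul_assoc σ e₁, d1 σ, ← mul_assoc e₁ (e₁ * σ), ← mul_assoc e₁ e₁, q1, one_mul, ← mul_assoc e₁ (e₁ * a₀),
        ← mul_assoc e₁ e₁, q1, one_mul, ← neg_add, neg_eq_zero, add_comm] at h5
      exact h5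
    · rw [hee d1, hee d2, hee d3, q1, q2, q3, neg_mul_neg, one_mul] at x0
      rw [← x0]
      module

/-- An element with two equal scalar anticommutators is the third or fourth diagonal. -/
theorem two_scalar (h : Base P i j k) {v₁ v₂ v₃ : R} (h1 : Cen i j v₁) (h2' : Cen i j v₂) (h3' : Cen i j v₃)
    (hR : (1 : R) ≠ 0) (hp : qv i j k 0 v₁ v₂ v₃ ∈ P) (hr : v₁ + v₂ + v₃ = -1) (hs : v₁ - v₂ - v₃ = -1) :
    v₁ = -1 ∧ ((v₂ = 1 ∧ v₃ = -1) ∨ (v₂ = -1 ∧ v₃ = 1)) := by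
  have hv1 : v₁ = -1 := smul_cancel h2 (show (2 : K) • v₁ = (2 : K) • (-1 : R) by
    rw [two_smul, two_smul]
    calc v₁ + v₁ = (v₁ + v₂ + v₃) + (v₁ - v₂ - v₃) := by abel
      _ = _ := by rw [hr, hs])
  have hv3 : v₃ = -v₂ := by rw [hv1] at hr; rw [← sub_eq_zero] at hr; rw [eq_neg_iff_add_eq_zero, ← hr]; abel
  have hsq := (sq_coords hP h2 h3 h.frame Cen.zero h1 h2' h3' hp).1
  rw [hv1, hv3, zero_mul, neg_mul_neg, neg_mul_neg, one_mul] at hsq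
  have h22 : v₂ * v₂ = 1 := smul_cancel h2 (show (2 : K) • (v₂ * v₂) = (2 : K) • (1 : R) by
    rw [← sub_eq_zero] at hsq ⊢
    rw [← neg_eq_zero, ← hsq]
    module)
  refine ⟨hv1, ?_⟩
  rcases diag_cases hP h2 h3 h.frame Cen.zero h1 h2' h3' (Or.inr rfl) (Or.inl rfl) (Or.inr rfl) hp h.t_mem with
    ⟨-, -, e, -⟩ | ⟨-, e, -, -⟩ | ⟨-, e | e⟩ | ⟨-, e⟩
  · exact Or.inl ⟨e, by rw [hv3, e]⟩
  · exfalso
    rw [hv1, neg_neg] at e
    have h10 : (1 : R) = 0 := smul_cancel h2 (show (2 : K) • (1 : R) = (2 : K) • 0 by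
      rw [smul_zero, two_smul]; exact add_eq_zero_iff_eq_neg.mpr e.symm)
    exact hR h10
  · rw [hv1, hv3] at e
    have hv : v₂ = 0 := smul_cancel h2 (show (2 : K) • v₂ = (2 : K) • 0 by
      rw [smul_zero, two_smul, ← sub_eq_zero.mpr e]; simp; abel)
    rw [hv, zero_mul] at h22
    exact Or.inl ⟨by rw [hv]; exact h22, by rw [hv3, hv, neg_zero]; exact h22.trans (by rw [← h22, neg_zero])⟩
  · rw [hv1, hv3] at e
    have hv : v₂ = -1 := smul_cancel h2 (show (2 : K) • v₂ = (2 : K) • (-1 : R) by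
      rw [two_smul, two_smul, ← sub_eq_zero, ← sub_eq_zero.mpr e]; simp; abel)
    exact Or.inr ⟨hv, by rw [hv3, hv, neg_neg]⟩
  · rw [hv1, hv3, neg_mul_neg, one_mul, one_mul, neg_mul_neg, one_mul, mul_zero, smul_zero, sub_zero] at e
    simp only [add_mul, mul_add, one_mul, mul_one, h22] at e
    have hv : v₂ = 0 := smul_cancel (mul_ne_zero h2 h2) (show ((2 : K) * 2) • v₂ = ((2 : K) * 2) • 0 by
      rw [smul_zero, ← sub_eq_zero.mpr e]; module)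
    rw [hv, zero_mul] at h22
    exact Or.inl ⟨by rw [hv]; exact h22, by rw [hv3, hv, neg_zero]; exact h22.trans (by rw [← h22, neg_zero])⟩

end Cfsg.Lib.Perm.Zas25
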