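import Cfsg.Agent.Lib.Perm.Zas25.Rep
import Cfsg.Agent.Lib.Dickson.Solvable
import Cfsg.Agent.S0016
import Cfsg.Agent.S0106
import Cfsg.Agent.S3378
import Cfsg.Agent.S3742

/-!
# Perfect groups of fixed-point-free linear maps are `SL(2, 5)`
-/

set_option autoImplicit false
set_option linter.style.haveILetI false

namespace Cfsg.Lib.Perm.Zas25

open scoped commutatorElement

universe u v

variable {l : ℕ} [Fact l.Prime] {V : Type v} [AddCommGroup V] [Module (ZMod l) V] [Finite V] [Nontrivial V]
  {G : Type u} [Group G] [Finite G] (ρ : G →* Module.End (ZMod l) V)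
  (hfpf : ∀ g : G, g ≠ 1 → ∀ v : V, ρ g v = v → v = 0)
include hfpf

theorem geom_zero {g : G} {n : ℕ} (hn : g ^ n = 1) (hg : g ≠ 1) : ∑ i ∈ Finset.range n, ρ g ^ i = 0 := by
  refine cancel ρ hfpf hg ?_
  rw [mul_geom_sum, ← map_pow, hn, map_one, sub_self]

/-- Two commuting elements of the same prime order generate the same subgroup. -/
theorem mem_zpowers_of_comm {q : ℕ} [Fact q.Prime] {x y : G} (hx : orderOf x = q) (hy : orderOf y = q)
    (h : x * y = y * x) : y ∈ Subgroup.zpowers x := by
  by_contra hyx
  have hq := (Fact.out : q.Prime)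
  have hx1 : x ^ q = 1 := by rw [← hx]; exact pow_orderOf_eq_one x
  have hy1 : y ^ q = 1 := by rw [← hy]; exact pow_orderOf_eq_one y
  have hxy : Commute x y := h
  -- the sum over the group generated by both
  have h1 : ∀ i ∈ Finset.range q, ∑ j ∈ Finset.range q, ρ (x ^ i * y) ^ j = 0 := by
    intro i _
    refine geom_zero ρ hfpf ?_ fun e => hyx ?_
    · rw [(hxy.pow_left i).mul_pow, ← pow_mul, pow_mul', hx1, one_pow, hy1, one_mul]
    · rw [eq_inv_of_mul_eq_one_right e]
      exact inv_mem (pow_mem (Subgroup.mem_zpowers x) i)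
  have h2 : ∀ j ∈ Finset.range q, j ≠ 0 → ∑ i ∈ Finset.range q, ρ (x ^ i * y) ^ j = 0 := by
    intro j hj hj0
    have e : ∀ i : ℕ, ρ (x ^ i * y) ^ j = ρ (x ^ j) ^ i * ρ (y ^ j) := fun i => by
      rw [← map_pow, ← map_pow, ← map_mul, (hxy.pow_left i).mul_pow, ← pow_mul, ← pow_mul, mul_comm i j]
    simp only [e]
    rw [← Finset.sum_mul, geom_zero ρ hfpf (by rw [← pow_mul, pow_mul', hx1, one_pow]) (fun e => hj0 ?_), zero_mul]
    have := orderOf_dvd_of_pow_eq_one e
    rw [hx] at this
    exact Nat.eq_zero_of_dvd_of_lt this (Finset.mem_range.mp hj)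
  have h0 := Finset.sum_eq_zero h1
  rw [Finset.sum_comm, Finset.sum_eq_single 0 h2 (fun h => absurd (Finset.mem_range.mpr hq.pos) h)] at h0
  simp only [pow_zero, Finset.sum_const, Finset.card_range] at h0
  have hdvd : l ∣ q := by
    obtain ⟨v, hv⟩ := exists_ne (0 : V)
    have h3 : ((q : ZMod l)) • v = 0 := by
      rw [Nat.cast_smul_eq_nsmul]
      simpa using LinearMap.congr_fun h0 v
    rcases smul_eq_zero.mp h3 with e | e
    · exact (ZMod.natCast_eq_zero_iff q l).mp e
    · exact absurd e hv
  refine not_dvd_card ρ hfpf ?_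
  rw [(Nat.prime_dvd_prime_iff_eq Fact.out hq).mp hdvd, ← hx]
  exact orderOf_dvd_natCard x

/-- Subgroups of prime power order are cyclic or generalized quaternion. -/
theorem pgroup_cases {q : ℕ} [Fact q.Prime] (S : Subgroup G) (hS : IsPGroup q S) :
    IsCyclic S ∨ (q = 2 ∧ ∃ n : ℕ, 1 ≤ n ∧ Nonempty (S ≃* QuaternionGroup (2 ^ n))) := by
  have hq := (Fact.out : q.Prime)
  have huniq : ∀ B B' : Subgroup S, Nat.card B = q → Nat.card B' = q → B = B' := by
    rcases subsingleton_or_nontrivial S with h | h
    · intro B B' hB hB'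
      have := Nat.card_of_subsingleton (1 : B)
      have := hq.two_le
      omega
    haveI := hS.center_nontrivial
    obtain ⟨z, hz⟩ := exists_prime_orderOf_dvd_card' (G := Subgroup.center S) q (by
      obtain ⟨j, hj⟩ := IsPGroup.iff_card.mp (hS.to_subgroup (Subgroup.center S))
      rw [hj]
      refine dvd_pow_self q fun e => ?_
      rw [e, pow_zero] at hj
      exact absurd hj (Finite.one_lt_card).ne')
    have hzG : orderOf ((z : S) : G) = q := by rw [Subgroup.orderOf_coe, Subgroup.orderOf_coe]; exact hz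
    have key : ∀ B : Subgroup S, Nat.card B = q → B = Subgroup.zpowers (z : S) := by
      intro B hB
      refine Subgroup.eq_of_le_of_card_ge (fun y hy => ?_) (le_of_eq ?_)
      · by_cases hy1 : y = 1
        · rw [hy1]; exact one_mem _
        have hyo : orderOf y = q := by
          have h1 : orderOf (⟨y, hy⟩ : B) ∣ q := hB ▸ orderOf_dvd_natCard _
          rw [Subgroup.orderOf_mk] at h1
          rcases (Nat.dvd_prime hq).mp h1 with h | h
          · exact absurd (orderOf_eq_one_iff.mp h) hy1
          · exact h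
        obtain ⟨k, hk⟩ := Subgroup.mem_zpowers_iff.mp (mem_zpowers_of_comm ρ hfpf hzG
          (by rw [Subgroup.orderOf_coe]; exact hyo)
          (congrArg Subtype.val (Subgroup.mem_center_iff.mp z.2 y).symm))
        exact Subgroup.mem_zpowers_iff.mpr ⟨k, Subtype.ext (by rw [Subgroup.coe_zpow]; exact hk)⟩
      · rw [Nat.card_zpowers, Subgroup.orderOf_coe, hz, hB]
    intro B B' hB hB'
    rw [key B hB, key B' hB']
  rcases Cfsg.Agent.S0016.result q hS huniq with h | ⟨hq2, n, ⟨e⟩⟩
  · exact Or.inl h
  rcases Nat.eq_zero_or_pos n with rfl | hn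
  · left
    haveI : IsCyclic (QuaternionGroup (2 ^ 0)) := isCyclic_of_orderOf_eq_card (QuaternionGroup.xa 0) (by
      rw [QuaternionGroup.orderOf_xa, Nat.card_eq_fintype_card, QuaternionGroup.card, pow_zero, mul_one])
    exact isCyclic_of_surjective e.symm.toMonoidHom e.symm.surjective
  · exact Or.inr ⟨hq2, n, hn, ⟨e⟩⟩

omit hfpf [Fact l.Prime] [AddCommGroup V] [Module (ZMod l) V] [Finite V] [Nontrivial V] [Finite G] in
theorem not_solvable_of_perfect [Nontrivial G] (hperf : commutator G = ⊤) : ¬ Group.IsSolvable G := fun h => by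
  haveI := h
  exact (IsSolvable.commutator_lt_top_of_nontrivial G).ne hperf

/-- A group whose `2`-subgroups are all cyclic is soluble. -/
theorem solvable_of_no_four (K : Subgroup G) (h : ∀ (S : Subgroup G), S ≤ K → IsPGroup 2 S → IsCyclic S) :
    Group.IsSolvable K := by
  haveI : IsZGroup K := by
    refine ⟨fun q hq Q => ?_⟩
    haveI := Fact.mk hq
    have hmap : IsPGroup q ((Q : Subgroup K).map K.subtype) := Q.2.map K.subtype
    have hc : IsCyclic ((Q : Subgroup K).map K.subtype) := by
      rcases pgroup_cases ρ hfpf _ hmap with hc | ⟨rfl, -⟩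
      · exact hc
      · exact h _ (Subgroup.map_subtype_le _) hmap
    haveI := hc
    exact isCyclic_of_surjective ((Q : Subgroup K).equivMapOfInjective K.subtype K.subtype_injective).symm.toMonoidHom
      ((Q : Subgroup K).equivMapOfInjective K.subtype K.subtype_injective).symm.surjective
  infer_instance

/-- A non-solvable group has a quaternion Sylow `2`-subgroup and order divisible by three when it is perfect. -/
theorem three_dvd_of_perfect [Nontrivial G] (hperf : commutator G = ⊤) : 2 ∣ Nat.card G ∧ 3 ∣ Nat.card G := by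
  haveI := Fact.mk Nat.prime_two
  have hns := not_solvable_of_perfect hperf
  obtain ⟨P⟩ : Nonempty (Sylow 2 G) := inferInstance
  have h2 : 2 ∣ Nat.card G := by
    by_contra h2
    refine hns ?_
    haveI : Group.IsSolvable (⊤ : Subgroup G) := solvable_of_no_four ρ hfpf ⊤ fun S _ hS => by
      obtain ⟨n, hn⟩ := IsPGroup.iff_card.mp hS
      rcases Nat.eq_zero_or_pos n with rfl | hpos
      · haveI : Subsingleton S := (Nat.card_eq_one_iff_unique.mp (by simpa using hn)).1
        infer_instance
      · exact absurd ((dvd_pow_self 2 hpos.ne').trans (hn ▸ S.card_subgroup_dvd_card)) h2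
    exact Group.isSolvable_of_surjective (f := (⊤ : Subgroup G).subtype) fun g => ⟨⟨g, trivial⟩, rfl⟩
  refine ⟨h2, ?_⟩
  have hnoc : ∀ N : Subgroup G, N.Normal → N.IsComplement' (P : Subgroup G) → False := by
    intro N hN hc
    haveI := hN
    haveI : Group.IsSolvable (G ⧸ N) := by
      haveI : Group.IsNilpotent (P : Subgroup G) := P.2.isNilpotent
      exact Group.isSolvable_of_surjective (f := (QuotientGroup.mk' N).comp (P : Subgroup G).subtype) fun x => by
        obtain ⟨g, rfl⟩ := QuotientGroup.mk'_surjective N x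
        obtain ⟨⟨n, p⟩, rfl⟩ := hc.2 g
        exact ⟨p, by simp [(QuotientGroup.eq_one_iff (n : G)).mpr n.2]⟩
    rcases subsingleton_or_nontrivial (G ⧸ N) with hs | hnt
    · have hN' : N = ⊤ := QuotientGroup.subgroup_eq_top_of_subsingleton N hs
      subst hN'
      have h1 := hc.card_mul_card
      rw [Subgroup.card_top] at h1
      have hP : Nat.card (P : Subgroup G) = 1 := Nat.eq_of_mul_eq_mul_left Nat.card_pos (h1.trans (mul_one _).symm)
      have := P.dvd_card_of_dvd_card h2
      rw [hP] at this
      omega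
    · refine not_solvable_of_perfect (G := G ⧸ N) ?_ inferInstance
      rw [commutator_def, ← Subgroup.map_top_of_surjective _ (QuotientGroup.mk'_surjective N),
        ← Subgroup.map_commutator, ← commutator_def, hperf]
  rcases pgroup_cases ρ hfpf (P : Subgroup G) P.2 with hc | ⟨-, n, hn, he⟩
  · exfalso
    have hmin : (Nat.card G).minFac = 2 := Nat.minFac_eq_two_iff _ |>.mpr h2
    exact hnoc _ inferInstance (IsCyclic.isComplement' hmin hc)
  · rcases Cfsg.Agent.S0106.result P n hn he with ⟨P', N, hN, hc⟩ | ⟨H, K, hK, ⟨e⟩⟩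
    · exfalso
      obtain ⟨g, hg⟩ := MulAction.exists_smul_eq G P' P
      refine hnoc N hN (Subgroup.isComplement'_of_card_mul_and_disjoint ?_ ?_)
      · rw [Sylow.card_eq_multiplicity, ← Sylow.card_eq_multiplicity P']
        exact hc.card_mul_card
      · rw [disjoint_iff, Subgroup.eq_bot_iff_forall]
        intro x hx
        obtain ⟨hxN, hxP⟩ := hx
        rw [← hg] at hxP
        have hy : g⁻¹ * x * g ∈ (P' : Subgroup G) := by
          obtain ⟨y, hy, hy'⟩ := hxP
          have hy'' : g * y * g⁻¹ = x := hy'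
          rw [← hy'', show g⁻¹ * (g * y * g⁻¹) * g = y by group]
          exact hy
        have h0 : g⁻¹ * x * g = 1 := Subgroup.disjoint_def.mp hc.disjoint (hN.conj_mem' x hxN g) hy
        exact conj_eq_one_iff.mp (show g⁻¹ * x * g⁻¹⁻¹ = 1 by rw [inv_inv]; exact h0)
    · haveI := hK
      have h24 : Nat.card (Matrix.SpecialLinearGroup (Fin 2) (ZMod 3)) = 24 := by
        rw [Nat.card_eq_fintype_card]; decide +kernel
      refine dvd_trans ?_ (H.card_subgroup_dvd_card)
      refine dvd_trans ?_ ((K.subgroupOf H).card_quotient_dvd_card)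
      rw [Nat.card_congr e.toEquiv, h24]
      norm_num

/-- A non-solvable subgroup of order `120` has quaternion Sylow `2`-subgroups. -/
theorem sylow_two_q8 (N : Subgroup G) (h120 : Nat.card N = 120) (hns : ¬ Group.IsSolvable N) (P : Sylow 2 N) :
    Nonempty ((P : Subgroup N) ≃* QuaternionGroup 2) := by
  haveI := Fact.mk Nat.prime_two
  have hPc : Nat.card (P : Subgroup N) = 8 := by
    rw [Sylow.card_eq_multiplicity, h120, show (120 : ℕ) = 2 ^ 3 * (3 * 5) by norm_num,
      Nat.factorization_mul (by norm_num) (by norm_num), Nat.factorization_mul (by norm_num) (by norm_num),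
      Nat.Prime.factorization_pow Nat.prime_two, Nat.Prime.factorization Nat.prime_three,
      Nat.Prime.factorization (show Nat.Prime 5 by norm_num)]
    simp
  rcases pgroup_cases (ρ.comp N.subtype) (fun g hg => hfpf _ fun e => hg (Subtype.ext e)) (P : Subgroup N) P.2 with
    hc | ⟨-, n, -, ⟨e⟩⟩
  · exfalso
    have hmin : (Nat.card N).minFac = 2 := Nat.minFac_eq_two_iff _ |>.mpr (by rw [h120]; norm_num)
    have hcomp := IsCyclic.isComplement' hmin hc
    set K := (MonoidHom.transferSylow P (hc.normalizer_le_centralizer hmin)).ker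
    refine hns ?_
    have hK15 : Nat.card K = 15 := by
      have := hcomp.card_mul_card
      rw [hPc, h120] at this
      omega
    have h15 : Squarefree (3 * 5 : ℕ) := (Nat.squarefree_mul (by norm_num)).mpr
      ⟨(Nat.prime_three).squarefree, (show Nat.Prime 5 by norm_num).squarefree⟩
    haveI : IsZGroup K := IsZGroup.of_squarefree (by rw [hK15]; exact h15)
    haveI : Group.IsNilpotent (P : Subgroup N) := P.2.isNilpotent
    exact Group.isSolvable_of_ker_le_range K.subtype (MonoidHom.transferSylow P (hc.normalizer_le_centralizer hmin))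
      (by rw [Subgroup.range_subtype])
  · have h1 := Nat.card_congr e.toEquiv
    rw [hPc, Nat.card_eq_fintype_card, QuaternionGroup.card] at h1
    obtain rfl : n = 1 := Nat.pow_right_injective le_rfl (show 2 ^ n = 2 ^ 1 by omega)
    exact ⟨e⟩

variable (h2 : (2 : ZMod l) ≠ 0) (h3 : (3 : ZMod l) ≠ 0)
include h2 h3

/-- A perfect group contains `SL(2, 5)` as a normal subgroup. -/
theorem exists_normal_sl25 [Nontrivial G] (hperf : commutator G = ⊤) :
    ∃ N : Subgroup G, N.Normal ∧ Nonempty (N ≃* Matrix.SpecialLinearGroup (Fin 2) (ZMod 5)) := by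
  haveI := Fact.mk Nat.prime_three
  set D : Set G := {x | x ^ 3 = 1 ∧ x ≠ 1} with hD
  obtain ⟨x₀, hx₀⟩ := exists_prime_orderOf_dvd_card' (G := G) 3 (three_dvd_of_perfect ρ hfpf hperf).2
  have hx₀D : x₀ ∈ D := ⟨by rw [← hx₀]; exact pow_orderOf_eq_one x₀, fun e => by rw [e, orderOf_one] at hx₀; omega⟩
  have hconjD : ∀ g : G, ∀ x ∈ D, g * x * g⁻¹ ∈ D := fun g x hx =>
    ⟨by rw [conj_pow, hx.1, mul_one, mul_inv_cancel], fun e => hx.2 (conj_eq_one_iff.mp e)⟩
  have hN : (Subgroup.closure D).Normal := ⟨fun n hn g => by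
    have hle : Subgroup.closure D ≤ (Subgroup.closure D).comap (MulAut.conj g).toMonoidHom :=
      (Subgroup.closure_le _).mpr fun x hx => Subgroup.subset_closure (hconjD g x hx)
    exact hle hn⟩
  haveI := hN
  by_cases hnc : ∃ x ∈ D, ∃ y ∈ D, x * y ≠ y * x
  swap
  · exfalso
    push Not at hnc
    -- a central subgroup of order three
    have hmem : ∀ g : G, g * x₀ * g⁻¹ = x₀ ∨ g * x₀ * g⁻¹ = x₀ ^ 2 := fun g =>
      eq_of_comm ρ hfpf hx₀D.1 hx₀D.2 (hconjD g x₀ hx₀D).1 (hconjD g x₀ hx₀D).2 (hnc _ hx₀D _ (hconjD g x₀ hx₀D))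
    have hc : ∀ g : G, g * x₀ = x₀ * g := by
      let Z := Subgroup.zpowers x₀
      haveI : Z.Normal := ⟨fun y hy g => by
        obtain ⟨k, rfl⟩ := Subgroup.mem_zpowers_iff.mp hy
        rw [← conj_zpow]
        refine Subgroup.zpow_mem _ ?_ k
        rcases hmem g with e | e <;> rw [e]
        · exact Subgroup.mem_zpowers _
        · exact pow_mem (Subgroup.mem_zpowers _) 2⟩
      let φ : G →* MulAut Z := MulAut.conjNormal (H := Z)
      have hab : ∀ a b : MulAut Z, a * b = b * a := fun a b => by
        obtain ⟨g₀, hg₀⟩ : ∃ g : Z, ∀ y : Z, y ∈ Subgroup.zpowers g := IsCyclic.exists_generator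
        obtain ⟨m, hm⟩ := Subgroup.mem_zpowers_iff.mp (hg₀ (a g₀))
        obtain ⟨n, hn⟩ := Subgroup.mem_zpowers_iff.mp (hg₀ (b g₀))
        refine MulEquiv.ext fun y => ?_
        obtain ⟨k, rfl⟩ := Subgroup.mem_zpowers_iff.mp (hg₀ y)
        simp only [MulAut.mul_apply, map_zpow]
        rw [← hn, ← hm, map_zpow, map_zpow, ← hn, ← hm]
        simp only [← zpow_mul]
        congr 1
        ring
      have hker : commutator G ≤ φ.ker := by
        rw [commutator_def, Subgroup.commutator_le]
        intro a _ b _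
        rw [MonoidHom.mem_ker, map_commutatorElement, commutatorElement_eq_one_iff_mul_comm]
        exact hab _ _
      intro g
      have hg : φ g = 1 := MonoidHom.mem_ker.mp (hker (by rw [hperf]; trivial))
      have := congrArg Subtype.val (DFunLike.congr_fun hg ⟨x₀, Subgroup.mem_zpowers x₀⟩)
      exact mul_inv_eq_iff_eq_mul.mp (show g * x₀ * g⁻¹ = x₀ from this)
    obtain ⟨P, hP⟩ := IsPGroup.exists_le_sylow (p := 3) (P := Subgroup.zpowers x₀)
      (IsPGroup.iff_card.mpr ⟨1, by rw [Nat.card_zpowers, hx₀, pow_one]⟩)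
    have hPc : IsCyclic (P : Subgroup G) := by
      rcases pgroup_cases ρ hfpf (P : Subgroup G) P.2 with h | ⟨h, -⟩
      · exact h
      · omega
    haveI := hPc
    letI : CommGroup (P : Subgroup G) := IsCyclic.commGroup
    let τ := MonoidHom.transfer (MonoidHom.id (P : Subgroup G))
    have hτ : τ x₀ = 1 := MonoidHom.mem_ker.mp (Abelianization.commutator_subset_ker τ (by rw [hperf]; trivial))
    rw [MonoidHom.transfer_eq_pow (MonoidHom.id (P : Subgroup G)) x₀ (fun k g₀ _ => by
      rw [mul_assoc, ← ((show Commute g₀ x₀ from hc g₀).pow_right k).eq, inv_mul_cancel_left])] at hτ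
    have h1 : x₀ ^ (P : Subgroup G).index = 1 := congrArg Subtype.val hτ
    have h3' := orderOf_dvd_of_pow_eq_one h1
    rw [hx₀] at h3'
    exact P.not_dvd_index h3'
  rcases closure_order_three ρ hfpf h2 h3 D hD hnc with ⟨h24, hsol⟩ | ⟨h120, hns⟩
  · -- the soluble case is impossible
    exfalso
    set N := Subgroup.closure D
    haveI := hsol
    let φ : G →* Equiv.Perm (Sylow 3 N) := (MulAction.toPermHom (MulAut N) (Sylow 3 N)).comp MulAut.conjNormal
    have hcard : Nat.card (Sylow 3 N) ≤ 4 := by
      obtain ⟨P⟩ : Nonempty (Sylow 3 N) := inferInstance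
      have h1 := card_sylow_modEq_one 3 N
      have h2' := P.card_dvd_index
      have hPc : Nat.card (P : Subgroup N) = 3 := by
        rw [Sylow.card_eq_multiplicity, h24, show (24 : ℕ) = 2 ^ 3 * 3 by norm_num,
          Nat.factorization_mul (by norm_num) (by norm_num), Nat.Prime.factorization_pow Nat.prime_two,
          Nat.Prime.factorization Nat.prime_three]
        simp
      have h3' := (P : Subgroup N).card_mul_index
      rw [hPc, h24] at h3'
      have h8 : (P : Subgroup N).index = 8 := by omega
      rw [h8] at h2'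
      have := Nat.le_of_dvd (by norm_num) h2'
      unfold Nat.ModEq at h1
      interval_cases h : Nat.card (Sylow 3 N) <;> omega
    haveI : Group.IsSolvable (Equiv.Perm (Sylow 3 N)) := by
      haveI := Cfsg.Lib.Dickson.isSolvable_perm_four
      haveI := Fintype.ofFinite (Sylow 3 N)
      obtain ⟨e⟩ : Nonempty (Sylow 3 N ↪ Fin 4) :=
        Function.Embedding.nonempty_of_card_le (by
          rw [← Nat.card_eq_fintype_card, Fintype.card_fin]; exact hcard)
      exact Group.isSolvable_of_isSolvable_injective (f := Equiv.Perm.viaEmbeddingHom e)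
        (Equiv.Perm.viaEmbeddingHom_injective e)
    have hker : φ.ker = ⊤ := by
      haveI : Group.IsSolvable φ.range := inferInstance
      rcases subsingleton_or_nontrivial φ.range with h | h
      · refine eq_top_iff.mpr fun g _ => ?_
        have := Subsingleton.elim (φ.rangeRestrict g) 1
        exact congrArg Subtype.val this
      · refine absurd (inferInstanceAs (Group.IsSolvable φ.range)) (not_solvable_of_perfect (G := φ.range) ?_)
        rw [commutator_def, ← Subgroup.map_top_of_surjective _ φ.rangeRestrict_surjective,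
          ← Subgroup.map_commutator, ← commutator_def, hperf]
    obtain ⟨x, hx, y, hy, hxy⟩ := hnc
    let X : N := ⟨x, Subgroup.subset_closure hx⟩
    obtain ⟨P, hP⟩ := IsPGroup.exists_le_sylow (p := 3) (P := Subgroup.zpowers X)
      (IsPGroup.iff_card.mpr ⟨1, by
        rw [Nat.card_zpowers, pow_one, ← Subgroup.orderOf_coe]
        exact orderOf_eq_prime hx.1 hx.2⟩)
    have hnorm : ∀ g : G, (MulAut.conjNormal g : MulAut N) • P = P := fun g => by
      have : g ∈ φ.ker := by rw [hker]; trivial
      exact congrFun (congrArg DFunLike.coe (MonoidHom.mem_ker.mp this)) P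
    have hPn : (P : Subgroup N).Normal := by
      rw [← Subgroup.normalizer_eq_top_iff, eq_top_iff]
      intro n _
      refine Sylow.smul_eq_iff_mem_normalizer.mp ?_
      have hconj : (MulAut.conjNormal (n : G) : MulAut N) = MulAut.conj n := MulEquiv.ext fun x => Subtype.ext rfl
      show MulAut.conj n • P = P
      rw [← hconj]
      exact hnorm (n : G)
    haveI : Subsingleton (Sylow 3 N) := by
      haveI := Sylow.unique_of_normal P hPn
      infer_instance
    obtain ⟨Q, hQ⟩ := IsPGroup.exists_le_sylow (p := 3) (P := Subgroup.zpowers (⟨y, Subgroup.subset_closure hy⟩ : N))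
      (IsPGroup.iff_card.mpr ⟨1, by
        rw [Nat.card_zpowers, pow_one, ← Subgroup.orderOf_coe]
        exact orderOf_eq_prime hy.1 hy.2⟩)
    have hPc : IsCyclic (P : Subgroup N) := by
      rcases pgroup_cases ρ hfpf ((P : Subgroup N).map N.subtype) (P.2.map N.subtype) with h | ⟨h, -⟩
      · haveI := h
        exact isCyclic_of_surjective ((P : Subgroup N).equivMapOfInjective N.subtype N.subtype_injective).symm.toMonoidHom
          ((P : Subgroup N).equivMapOfInjective N.subtype N.subtype_injective).symm.surjective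
      · omega
    haveI := hPc
    letI : CommGroup (P : Subgroup N) := IsCyclic.commGroup
    rw [Subsingleton.elim Q P] at hQ
    exact hxy (congrArg (fun z : (P : Subgroup N) => ((z : N) : G))
      (mul_comm (⟨X, hP (Subgroup.mem_zpowers X)⟩ : (P : Subgroup N)) ⟨_, hQ (Subgroup.mem_zpowers _)⟩))
  · exact ⟨Subgroup.closure D, hN, Cfsg.Agent.S3378.result.1 _ h120 hns (sylow_two_q8 ρ hfpf _ h120 hns)⟩

omit h2 h3 in
/-- The quotient by a normal `SL(2, 5)` is soluble. -/
theorem quot_solvable (N : Subgroup G) [N.Normal]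
    (hN : Nonempty (N ≃* Matrix.SpecialLinearGroup (Fin 2) (ZMod 5))) : Group.IsSolvable (G ⧸ N) := by
  classical
  obtain ⟨e⟩ := hN
  haveI := Fact.mk Nat.prime_two
  obtain ⟨P⟩ : Nonempty (Sylow 2 N) := inferInstance
  have hns : ¬ Group.IsSolvable N := fun h => by
    haveI := h
    haveI : Group.IsSolvable (Matrix.SpecialLinearGroup (Fin 2) (ZMod 5)) :=
      Group.isSolvable_of_surjective (f := e.toMonoidHom) e.surjective
    exact Cfsg.Lib.Dickson.not_isSolvable_psl (K := ZMod 5) (by simp)
      (Group.isSolvable_of_surjective (f := QuotientGroup.mk' (Subgroup.center _)) (QuotientGroup.mk'_surjective _))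
  have h120 : Nat.card N = 120 := by rw [Nat.card_congr e.toEquiv, Nat.card_eq_fintype_card]; decide +kernel
  obtain ⟨eP⟩ := sylow_two_q8 ρ hfpf N h120 hns P
  set Q : Subgroup G := (P : Subgroup N).map N.subtype with hQ
  let eQ : QuaternionGroup 2 ≃* Q := eP.symm.trans ((P : Subgroup N).equivMapOfInjective N.subtype N.subtype_injective)
  have hgen : N ⊔ Subgroup.normalizer (Q : Set G) = ⊤ := by rw [sup_comm]; exact Sylow.normalizer_sup_eq_top P
  set M := Subgroup.normalizer (Q : Set G) with hM
  haveI hMs : Group.IsSolvable M := by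
    let φ : M →* MulAut Q := Subgroup.normalizerMonoidHom Q
    haveI : Group.IsSolvable φ.ker := by
      have hk : Group.IsSolvable (φ.ker.map M.subtype) := by
        refine solvable_of_no_four ρ hfpf _ fun S hS hSp => ?_
        rcases pgroup_cases ρ hfpf S hSp with h | ⟨-, n, hn, ⟨eS⟩⟩
        · exact h
        exfalso
        -- an element of order four centralises `Q`
        haveI : NeZero (2 ^ n) := ⟨pow_ne_zero _ two_ne_zero⟩
        set a := eS.symm (QuaternionGroup.xa 0) with ha
        have ha4 : orderOf (a : G) = 4 := by rw [Subgroup.orderOf_coe, ha, MulEquiv.orderOf_eq, QuaternionGroup.orderOf_xa]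
        obtain ⟨m, hm, hma⟩ := hS a.2
        have hcomm : ∀ b ∈ Q, (a : G) * b = b * a := fun b hb => by
          have h := congrArg Subtype.val (DFunLike.congr_fun (MonoidHom.mem_ker.mp hm) (⟨b, hb⟩ : Q))
          rw [← hma]
          exact mul_inv_eq_iff_eq_mul.mp h
        have hsq : ∀ b : G, orderOf b = 4 → ρ (b * b) = -1 := fun b hb => by
          refine neg_one_of_involution ρ hfpf ?_ ?_
          · rw [← pow_two, ← pow_two, ← pow_mul, show 2 * 2 = 4 by rfl, ← hb]; exact pow_orderOf_eq_one b
          · intro h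
            have := orderOf_dvd_of_pow_eq_one (show b ^ 2 = 1 by rw [pow_two]; exact h)
            rw [hb] at this
            norm_num at this
        have key : ∀ b ∈ Q, orderOf b = 4 → b = a ∨ b = (a : G)⁻¹ := by
          intro b hb hb4
          have hc := hcomm b hb
          have e2 : ((a : G) * b) * ((a : G) * b) = 1 := by
            refine rep_injective ρ hfpf ?_
            rw [show (a : G) * b * (a * b) = (a * a) * (b * b) by
              rw [mul_assoc, ← mul_assoc b, ← hc, mul_assoc, ← mul_assoc (a : G) a], map_mul, hsq _ ha4, hsq _ hb4,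
              map_one, neg_mul_neg, one_mul]
          by_cases h1 : (a : G) * b = 1
          · exact Or.inr (eq_inv_of_mul_eq_one_right h1)
          · left
            refine rep_injective ρ hfpf ?_
            have h2 := neg_one_of_involution ρ hfpf e2 h1
            have h3 : ρ ((a : G) * b) = ρ (a * a) := h2.trans (hsq _ ha4).symm
            exact congrArg ρ (mul_left_cancel (rep_injective ρ hfpf h3))
        haveI : NeZero 2 := ⟨two_ne_zero⟩
        have hu : orderOf (eQ (QuaternionGroup.a 1) : G) = 4 := by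
          rw [Subgroup.orderOf_coe, MulEquiv.orderOf_eq, QuaternionGroup.orderOf_a_one]
        have hv : orderOf (eQ (QuaternionGroup.xa 0) : G) = 4 := by
          rw [Subgroup.orderOf_coe, MulEquiv.orderOf_eq, QuaternionGroup.orderOf_xa]
        have hmem : ∀ b ∈ Q, orderOf b = 4 → b ∈ Subgroup.zpowers (a : G) := fun b hb hb4 => by
          rcases key b hb hb4 with e | e <;> rw [e]
          · exact Subgroup.mem_zpowers _
          · exact inv_mem (Subgroup.mem_zpowers _)
        obtain ⟨i, hi⟩ := Subgroup.mem_zpowers_iff.mp (hmem _ (eQ _).2 hu)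
        obtain ⟨j, hj⟩ := Subgroup.mem_zpowers_iff.mp (hmem _ (eQ _).2 hv)
        have hne : (QuaternionGroup.a 1 : QuaternionGroup 2) * QuaternionGroup.xa 0 ≠
            QuaternionGroup.xa 0 * QuaternionGroup.a 1 := by decide
        refine hne (eQ.injective (Subtype.ext ?_))
        rw [map_mul, map_mul, Subgroup.coe_mul, Subgroup.coe_mul, ← hi, ← hj, ← zpow_add, ← zpow_add, add_comm]
      exact Group.isSolvable_of_isSolvable_injective (f := (φ.ker.equivMapOfInjective M.subtype M.subtype_injective).toMonoidHom)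
        (φ.ker.equivMapOfInjective M.subtype M.subtype_injective).injective
    haveI : Group.IsSolvable (MulAut Q) := by
      obtain ⟨e4⟩ := Cfsg.Agent.S3742.result
      exact Cfsg.Lib.Dickson.isSolvable_congr ((MulAut.congr eQ.symm).trans e4) Cfsg.Lib.Dickson.isSolvable_perm_four
    exact Group.isSolvable_of_ker_le_range φ.ker.subtype φ (by rw [Subgroup.range_subtype])
  exact Group.isSolvable_of_surjective (f := (QuotientGroup.mk' N).comp M.subtype) fun x => by
    obtain ⟨g, rfl⟩ := QuotientGroup.mk'_surjective N x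
    have hg : g ∈ ((N ⊔ M : Subgroup G) : Set G) := by rw [hgen]; trivial
    rw [Subgroup.normal_mul] at hg
    obtain ⟨n, hn, m, hm, rfl⟩ := hg
    exact ⟨⟨m, hm⟩, by simp [(QuotientGroup.eq_one_iff n).mpr hn]⟩

/-- **Zassenhaus.** A perfect group of fixed-point-free linear maps is `SL(2, 5)`. -/
theorem perfect_iso_sl25 [Nontrivial G] (hperf : commutator G = ⊤) :
    Nonempty (G ≃* Matrix.SpecialLinearGroup (Fin 2) (ZMod 5)) := by
  obtain ⟨N, hN, ⟨e⟩⟩ := exists_normal_sl25 ρ hfpf h2 h3 hperf
  haveI := hN
  haveI := quot_solvable ρ hfpf N ⟨e⟩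
  rcases subsingleton_or_nontrivial (G ⧸ N) with h | h
  · rw [QuotientGroup.subgroup_eq_top_of_subsingleton N h] at e
    exact ⟨Subgroup.topEquiv.symm.trans e⟩
  · refine absurd (inferInstanceAs (Group.IsSolvable (G ⧸ N))) (not_solvable_of_perfect (G := G ⧸ N) ?_)
    rw [commutator_def, ← Subgroup.map_top_of_surjective _ (QuotientGroup.mk'_surjective N),
      ← Subgroup.map_commutator, ← commutator_def, hperf]

end Cfsg.Lib.Perm.Zas25
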