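import Cfsg.Agent.Lib.Perm.Zas25.Main

/-!
# Metacyclic presentations of `Z`-groups acting fixed-point-freely
-/

set_option autoImplicit false
set_option linter.style.haveILetI false

namespace Cfsg.Lib.Perm.Zas25

universe u v

/-- A coprime metacyclic presentation. -/
theorem meta_presented_iso {N : Type u} [Group N] [Finite N] (x y : N) (n m r : ℕ)
    (hgen : Subgroup.closure {x, y} = ⊤) (hn : orderOf x = n) (hm : orderOf y = m)
    (hrel : x⁻¹ * y * x = y ^ r) (hnm : Nat.Coprime n m) :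
    Nonempty (N ≃* PresentedGroup
      ({FreeGroup.of (0 : Fin 2) ^ n, FreeGroup.of (1 : Fin 2) ^ m,
        (FreeGroup.of (0 : Fin 2))⁻¹ * FreeGroup.of 1 * FreeGroup.of 0 * (FreeGroup.of (1 : Fin 2) ^ r)⁻¹} :
        Set (FreeGroup (Fin 2)))) := by
  classical
  set rels : Set (FreeGroup (Fin 2)) := {FreeGroup.of (0 : Fin 2) ^ n, FreeGroup.of (1 : Fin 2) ^ m,
    (FreeGroup.of (0 : Fin 2))⁻¹ * FreeGroup.of 1 * FreeGroup.of 0 * (FreeGroup.of (1 : Fin 2) ^ r)⁻¹} with hrels
  have hn0 : 0 < n := hn ▸ orderOf_pos x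
  have hm0 : 0 < m := hm ▸ orderOf_pos y
  have hrel0 : ∀ s ∈ rels, FreeGroup.lift ![x, y] s = 1 := by
    rintro s (rfl | rfl | rfl)
    · simp [← hn, pow_orderOf_eq_one]
    · simp [← hm, pow_orderOf_eq_one]
    · simp [hrel]
  let φ : PresentedGroup rels →* N := PresentedGroup.toGroup hrel0
  have hφs : Function.Surjective φ := by
    rw [← MonoidHom.range_eq_top, eq_top_iff, ← hgen, Subgroup.closure_le]
    rintro s (rfl | rfl)
    · exact ⟨PresentedGroup.of 0, PresentedGroup.toGroup.of hrel0⟩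
    · exact ⟨PresentedGroup.of 1, PresentedGroup.toGroup.of hrel0⟩
  set a : PresentedGroup rels := PresentedGroup.of 0 with ha
  set b : PresentedGroup rels := PresentedGroup.of 1 with hb
  have han : a ^ n = 1 := by
    rw [ha]; show PresentedGroup.mk rels (FreeGroup.of (0 : Fin 2)) ^ n = 1
    rw [← map_pow]; exact PresentedGroup.one_of_mem (Or.inl rfl)
  have hbm : b ^ m = 1 := by
    rw [hb]; show PresentedGroup.mk rels (FreeGroup.of (1 : Fin 2)) ^ m = 1
    rw [← map_pow]; exact PresentedGroup.one_of_mem (Or.inr (Or.inl rfl))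
  have hab : a⁻¹ * b * a = b ^ r := by
    rw [← mul_inv_eq_one, ha, hb]
    show (PresentedGroup.mk rels (FreeGroup.of (0 : Fin 2)))⁻¹ * PresentedGroup.mk rels (FreeGroup.of (1 : Fin 2)) *
      PresentedGroup.mk rels (FreeGroup.of (0 : Fin 2)) * (PresentedGroup.mk rels (FreeGroup.of (1 : Fin 2)) ^ r)⁻¹ = 1
    rw [← map_inv, ← map_mul, ← map_mul, ← map_pow, ← map_inv, ← map_mul]
    exact PresentedGroup.one_of_mem (Or.inr (Or.inr rfl))
  have hba : ∀ j : ℕ, b ^ j * a = a * b ^ (r * j) := by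
    intro j
    have h1 := conj_pow (a := a⁻¹) (b := b) (i := j)
    rw [inv_inv, hab, ← pow_mul] at h1
    rw [h1, ← mul_assoc, ← mul_assoc, mul_inv_cancel, one_mul]
  have hstep : ∀ (t i j : ℕ), ∃ i' j', a ^ i * b ^ j * a ^ t = a ^ i' * b ^ j' := by
    intro t
    induction t with
    | zero => exact fun i j => ⟨i, j, by rw [pow_zero, mul_one]⟩
    | succ t ih =>
      intro i j
      obtain ⟨i', j', h⟩ := ih (i + 1) (r * j)
      exact ⟨i', j', by rw [← h, pow_succ' a t, ← mul_assoc, mul_assoc (a ^ i), hba, ← mul_assoc, ← pow_succ]⟩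
  have hinv : a⁻¹ = a ^ (n - 1) := inv_eq_of_mul_eq_one_right (by
    rw [← pow_succ', Nat.sub_add_cancel hn0, han])
  have hinvb : b⁻¹ = b ^ (m - 1) := inv_eq_of_mul_eq_one_right (by
    rw [← pow_succ', Nat.sub_add_cancel hm0, hbm])
  have hall : ∀ g : PresentedGroup rels, ∃ i j : ℕ, g = a ^ i * b ^ j := by
    intro g
    have hg : g ∈ Subgroup.closure (Set.range (PresentedGroup.of (rels := rels))) := by
      rw [PresentedGroup.closure_range_of]; exact Subgroup.mem_top g
    induction hg using Subgroup.closure_induction_right with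
    | one => exact ⟨0, 0, by simp⟩
    | mul_right g _ s hs ih =>
      obtain ⟨i, j, rfl⟩ := ih
      obtain ⟨k, rfl⟩ := hs
      fin_cases k
      · obtain ⟨i', j', h⟩ := hstep 1 i j
        exact ⟨i', j', by rw [← h, pow_one]; rfl⟩
      · exact ⟨i, j + 1, by rw [pow_succ, ← mul_assoc]; rfl⟩
    | mul_inv_cancel g _ s hs ih =>
      obtain ⟨i, j, rfl⟩ := ih
      obtain ⟨k, rfl⟩ := hs
      fin_cases k
      · obtain ⟨i', j', h⟩ := hstep (n - 1) i j
        exact ⟨i', j', by rw [← h, ← hinv]; rfl⟩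
      · exact ⟨i, j + (m - 1), by rw [pow_add, ← mul_assoc, ← hinvb]; rfl⟩
  have hsurj : Function.Surjective (fun p : Fin n × Fin m => a ^ (p.1 : ℕ) * b ^ (p.2 : ℕ)) := by
    intro g
    obtain ⟨i, j, rfl⟩ := hall g
    refine ⟨⟨⟨i % n, Nat.mod_lt _ hn0⟩, ⟨j % m, Nat.mod_lt _ hm0⟩⟩, ?_⟩
    show a ^ (i % n) * b ^ (j % m) = a ^ i * b ^ j
    rw [← pow_eq_pow_mod i han, ← pow_eq_pow_mod j hbm]
  haveI : Finite (PresentedGroup rels) := Finite.of_surjective _ hsurj
  have hle : Nat.card (PresentedGroup rels) ≤ Nat.card N := by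
    refine le_trans (Nat.card_le_card_of_surjective _ hsurj) (Nat.le_of_dvd Nat.card_pos ?_)
    rw [Nat.card_prod, Nat.card_fin, Nat.card_fin]
    exact hnm.mul_dvd_of_dvd_of_dvd (hn ▸ orderOf_dvd_natCard x) (hm ▸ orderOf_dvd_natCard y)
  exact ⟨(MulEquiv.ofBijective φ ((Nat.bijective_iff_surjective_and_card φ).mpr
    ⟨hφs, le_antisymm hle (Nat.card_le_card_of_surjective φ hφs)⟩)).symm⟩

variable {l : ℕ} [Fact l.Prime] {V : Type v} [AddCommGroup V] [Module (ZMod l) V] [Finite V] [Nontrivial V]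
  {G : Type u} [Group G] [Finite G] (ρ : G →* Module.End (ZMod l) V)
  (hfpf : ∀ g : G, g ≠ 1 → ∀ v : V, ρ g v = v → v = 0)
include hfpf

/-- Subgroups of order `p * q` are cyclic. -/
theorem comm_of_normalize {p q : ℕ} [Fact p.Prime] [Fact q.Prime] {u w : G} (hu : orderOf u = q)
    (hw : orderOf w = p) (hn : ∀ i : ℕ, (u ^ i)⁻¹ * w * u ^ i ∈ Subgroup.zpowers w) : u * w = w * u := by
  by_contra hne
  have hp := (Fact.out : p.Prime)
  have hq := (Fact.out : q.Prime)
  have hu1 : u ≠ 1 := fun h => hne (by rw [h, one_mul, mul_one])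
  have key : ∀ i ∈ Finset.range q, i ≠ 0 → ∑ t ∈ Finset.range p, ρ (w ^ t * u ^ i * (w ^ t)⁻¹) = 0 := by
    intro i hi hi0
    set c := (u ^ i)⁻¹ * w * u ^ i * w⁻¹ with hc
    have hd := hn i
    have hcw : Commute ((u ^ i)⁻¹ * w * u ^ i) w := by
      obtain ⟨k, hk⟩ := Subgroup.mem_zpowers_iff.mp hd
      rw [← hk]; exact (Commute.refl w).zpow_left k
    have ht : ∀ t : ℕ, w ^ t * u ^ i * (w ^ t)⁻¹ = u ^ i * c ^ t := by
      intro t
      rw [hc, hcw.inv_right.mul_pow, show ((u ^ i)⁻¹ * w * u ^ i) ^ t = (u ^ i)⁻¹ * w ^ t * u ^ i by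
        rw [show (u ^ i)⁻¹ * w * u ^ i = (u ^ i)⁻¹ * w * ((u ^ i)⁻¹)⁻¹ by rw [inv_inv], conj_pow, inv_inv],
        inv_pow]
      simp only [← mul_assoc, mul_inv_cancel, one_mul]
    have hc1 : c ≠ 1 := by
      intro h
      rw [hc, mul_inv_eq_one, mul_assoc, inv_mul_eq_iff_eq_mul] at h
      -- `w` commutes with a generator of `zpowers u`
      have hcop : Nat.Coprime i q := by
        have := Finset.mem_range.mp hi
        exact ((Nat.Prime.coprime_iff_not_dvd hq).mpr fun h =>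
          absurd (Nat.le_of_dvd (by omega) h) (by omega)).symm
      obtain ⟨j, hj⟩ := Nat.exists_mul_mod_eq_one_of_coprime hcop hq.one_lt
      have hcomm : Commute w ((u ^ i) ^ j) := (show Commute w (u ^ i) from h).pow_right j
      rw [← pow_mul, pow_eq_pow_mod _ (show u ^ q = 1 by rw [← hu]; exact pow_orderOf_eq_one u), hj.2, pow_one]
        at hcomm
      exact hne hcomm.eq.symm
    have hcp : c ^ p = 1 := by
      obtain ⟨k, hk⟩ := Subgroup.mem_zpowers_iff.mp hd
      have hwp : w ^ p = 1 := by rw [← hw]; exact pow_orderOf_eq_one w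
      rw [hc, hcw.inv_right.mul_pow, ← hk, ← zpow_natCast, ← zpow_mul, mul_comm k, zpow_mul, zpow_natCast, hwp,
        one_zpow, one_mul, inv_pow, hwp, inv_one]
    calc ∑ t ∈ Finset.range p, ρ (w ^ t * u ^ i * (w ^ t)⁻¹) = ∑ t ∈ Finset.range p, ρ (u ^ i) * ρ c ^ t :=
          Finset.sum_congr rfl fun t _ => by rw [ht, map_mul, map_pow, map_pow]
    _ = 0 := by rw [← Finset.mul_sum, geom_zero ρ hfpf hcp hc1, mul_zero]
  have hsum : ∀ t ∈ Finset.range p, ∑ i ∈ Finset.range q, ρ (w ^ t * u ^ i * (w ^ t)⁻¹) = 0 := by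
    intro t _
    calc ∑ i ∈ Finset.range q, ρ (w ^ t * u ^ i * (w ^ t)⁻¹)
        = ρ (w ^ t) * (∑ i ∈ Finset.range q, ρ u ^ i) * ρ (w ^ t)⁻¹ := by
          rw [Finset.mul_sum, Finset.sum_mul]
          exact Finset.sum_congr rfl fun i _ => by rw [map_mul, map_mul, map_pow, map_pow]
    _ = 0 := by rw [geom_zero ρ hfpf (by rw [← hu]; exact pow_orderOf_eq_one u) hu1, mul_zero, zero_mul]
  have h0 := Finset.sum_eq_zero hsum
  rw [Finset.sum_comm, Finset.sum_eq_single_of_mem 0 (Finset.mem_range.mpr hq.pos) key] at h0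
  simp only [pow_zero, mul_one, mul_inv_cancel, map_one, Finset.sum_const, Finset.card_range, nsmul_one] at h0
  have hl : ¬ l ∣ p := fun h => by
    refine not_dvd_card ρ hfpf (h.trans ?_)
    rw [← hw]; exact orderOf_dvd_natCard w
  have hne0 : (p : ZMod l) ≠ 0 := fun h => hl ((ZMod.natCast_eq_zero_iff p l).mp h)
  obtain ⟨v, hv⟩ := exists_ne (0 : V)
  have h2 : (p : ZMod l) • v = 0 := by
    rw [Nat.cast_smul_eq_nsmul]
    simpa using LinearMap.congr_fun h0 v
  exact hv ((smul_eq_zero.mp h2).resolve_left hne0)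

/-- The congruence satisfied by the parameters. -/
theorem meta_congruence (x y : G) (n m r : ℕ) (hn : orderOf x = n) (hm : orderOf y = m)
    (hrel : x⁻¹ * y * x = y ^ r) (hnm : Nat.Coprime n m) :
    r ^ (n / ∏ q ∈ n.primeFactors, q) % m = 1 % m := by
  have hn0 : 0 < n := hn ▸ orderOf_pos x
  have hm0 : 0 < m := hm ▸ orderOf_pos y
  haveI : NeZero m := ⟨hm0.ne'⟩
  have hpow : ∀ (i : ℕ) (j : ℕ), (x ^ i)⁻¹ * y ^ j * x ^ i = y ^ (r ^ i * j) := by
    intro i
    induction i with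
    | zero => intro j; simp
    | succ i ih =>
      intro j
      have h1 := conj_pow (a := x⁻¹) (b := y) (i := r ^ i * j)
      rw [inv_inv, hrel, ← pow_mul] at h1
      rw [pow_succ x i, mul_inv_rev, pow_succ' r i, mul_assoc r, h1, ← ih]
      group
  have hyr : ∀ i : ℕ, Commute (x ^ i) y → (r : ZMod m) ^ i = 1 := by
    intro i h
    have h1 := hpow i 1
    rw [mul_one, pow_one, mul_assoc, ← h.eq, inv_mul_cancel_left] at h1
    have h2 : y ^ (r ^ i) = y ^ 1 := by rw [pow_one]; exact h1.symm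
    rw [pow_eq_pow_iff_modEq, hm, ← ZMod.natCast_eq_natCast_iff] at h2
    simpa using h2
  have hrn : (r : ZMod m) ^ n = 1 := hyr n (by rw [← hn, pow_orderOf_eq_one]; exact Commute.one_left y)
  have hq : ∀ q ∈ n.primeFactors, (r : ZMod m) ^ (n / q) = 1 := by
    intro q hq
    have hqp := Nat.prime_of_mem_primeFactors hq
    have hqn := Nat.dvd_of_mem_primeFactors hq
    haveI := Fact.mk hqp
    set z : ℕ := r ^ (n / q) with hz
    have hzq : (z : ZMod m) ^ q = 1 := by
      rw [hz, Nat.cast_pow, ← pow_mul, Nat.div_mul_cancel hqn, hrn]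
    have hzm : (z : ZMod m) ^ m = 1 := by
      have hdiv : (m : ℤ) ∣ (z : ℤ) ^ m - 1 := by
        rw [Int.natCast_dvd]
        rw [Nat.dvd_iff_prime_pow_dvd_dvd]
        intro p k hp hpk
        rw [← Int.natCast_dvd]
        rcases Nat.eq_zero_or_pos k with rfl | hk
        · simp
        haveI := Fact.mk hp
        have hpm : p ∣ m := (dvd_pow_self p hk.ne').trans hpk
        -- commutation modulo `p`
        have hu : orderOf (x ^ (n / q)) = q := by
          rw [orderOf_pow' x (Nat.div_pos (Nat.le_of_dvd hn0 hqn) hqp.pos).ne', hn,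
            Nat.gcd_eq_right (Nat.div_dvd_of_dvd hqn), Nat.div_div_self hqn hn0.ne']
        have hw : orderOf (y ^ (m / p)) = p := by
          rw [orderOf_pow' y (Nat.div_pos (Nat.le_of_dvd hm0 hpm) hp.pos).ne', hm,
            Nat.gcd_eq_right (Nat.div_dvd_of_dvd hpm), Nat.div_div_self hpm hm0.ne']
        have hc := comm_of_normalize ρ hfpf hu hw fun i => by
          rw [← pow_mul, hpow, mul_comm, pow_mul]
          exact Subgroup.npow_mem_zpowers _ _
        have h1 := hpow (n / q) (m / p)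
        rw [mul_assoc, ← hc, inv_mul_cancel_left, ← hz, mul_comm z, pow_mul] at h1
        have h1' : (y ^ (m / p)) ^ z = (y ^ (m / p)) ^ 1 := by rw [pow_one]; exact h1.symm
        rw [pow_eq_pow_iff_modEq, hw, ← ZMod.natCast_eq_natCast_iff] at h1'
        have hdvd : (p : ℤ) ∣ (z : ℤ) - 1 := by
          rw [← ZMod.intCast_zmod_eq_zero_iff_dvd]
          push_cast
          rw [h1', Nat.cast_one, sub_self]
        obtain ⟨j, rfl⟩ := Nat.exists_eq_succ_of_ne_zero hk.ne'
        have h2 := dvd_sub_pow_of_dvd_sub hdvd j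
        rw [one_pow] at h2
        obtain ⟨t, ht⟩ := (pow_dvd_pow p (Nat.le_succ j)).trans hpk
        refine dvd_trans (by exact_mod_cast h2) ?_
        rw [ht, pow_mul]
        exact sub_one_dvd_pow_sub_one _ _
      have := (ZMod.intCast_zmod_eq_zero_iff_dvd _ m).mpr hdiv
      push_cast at this
      exact sub_eq_zero.mp this
    have hcop : Nat.gcd q m = 1 := Nat.Coprime.coprime_dvd_left hqn hnm
    have h1 : orderOf (z : ZMod m) ∣ 1 := hcop ▸ Nat.dvd_gcd (orderOf_dvd_of_pow_eq_one hzq) (orderOf_dvd_of_pow_eq_one hzm)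
    rw [Nat.dvd_one, orderOf_eq_one_iff, hz, Nat.cast_pow] at h1
    exact h1
  have hd : orderOf (r : ZMod m) * (∏ q ∈ n.primeFactors, q) ∣ n := by
    obtain ⟨t, ht⟩ := orderOf_dvd_of_pow_eq_one hrn
    conv_rhs => rw [ht]
    refine Nat.mul_dvd_mul_left _ (Finset.prod_primes_dvd _ (fun q hq => (Nat.prime_of_mem_primeFactors hq).prime)
      fun q hq' => ?_)
    have hqn := Nat.dvd_of_mem_primeFactors hq'
    have h1 := Nat.mul_dvd_of_dvd_div hqn (orderOf_dvd_of_pow_eq_one (hq q hq'))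
    rw [mul_comm] at h1
    have hd0 : 0 < orderOf (r : ZMod m) := by
      rcases Nat.eq_zero_or_pos (orderOf (r : ZMod m)) with h | h
      · rw [h, zero_mul] at ht; omega
      · exact h
    refine Nat.dvd_of_mul_dvd_mul_left hd0 ?_
    rw [← ht]; exact h1
  have hfin : (r : ZMod m) ^ (n / ∏ q ∈ n.primeFactors, q) = 1 :=
    orderOf_dvd_iff_pow_eq_one.mp (Nat.dvd_div_of_mul_dvd (by rw [mul_comm]; exact hd))
  have h3 : ((r ^ (n / ∏ q ∈ n.primeFactors, q) : ℕ) : ZMod m) = ((1 : ℕ) : ZMod m) := by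
    push_cast; exact hfin
  exact (ZMod.natCast_eq_natCast_iff' _ _ m).mp h3

end Cfsg.Lib.Perm.Zas25
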