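import Cfsg.Agent.Lib.Perm.Zas25.TypeThree

/-!
# A minimal non-abelian normal subgroup of a linear group regular on the non-zero vectors
-/

set_option autoImplicit false
set_option linter.style.haveILetI false

namespace Cfsg.Lib.Perm.Zas25

open scoped commutatorElement

variable {p : ℕ} [Fact p.Prime] {V : Type*} [AddCommGroup V] [Module (ZMod p) V] [Finite V]
  {H : Subgroup (V ≃ₗ[ZMod p] V)}
  (hreg : ∀ v w : V, v ≠ 0 → w ≠ 0 → ∃! h : H, (h : V ≃ₗ[ZMod p] V) v = w)
include hreg

omit hreg in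
theorem nontrivial_of_noncomm {N : Subgroup H} (hNna : ¬ IsMulCommutative N) : Nontrivial V := by
  by_contra hV
  rw [not_nontrivial_iff_subsingleton] at hV
  refine hNna ⟨⟨fun a b => Subtype.ext (Subtype.ext (LinearEquiv.ext fun v => Subsingleton.elim _ _))⟩⟩

/-- A minimal non-abelian normal subgroup centralizing a maximal abelian one is `Q₈` or `SL(2, 5)`. -/
theorem minimal_nonabelian (A : Subgroup H) [A.Normal] (hAc : IsMulCommutative A)
    (hAmax : ∀ B : Subgroup H, B.Normal → IsMulCommutative B → A ≤ B → B = A) (N : Subgroup H) [N.Normal]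
    (hNle : N ≤ Subgroup.centralizer (A : Set H)) (hNna : ¬ IsMulCommutative N)
    (hNmin : ∀ M : Subgroup H, M.Normal → M ≤ N → ¬ IsMulCommutative M → M = N) :
    Nonempty (N ≃* QuaternionGroup 2) ∨ Nonempty (N ≃* Matrix.SpecialLinearGroup (Fin 2) (ZMod 5)) := by
  classical
  haveI : Finite (V ≃ₗ[ZMod p] V) := Finite.of_injective _ DFunLike.coe_injective
  haveI := nontrivial_of_noncomm hNna
  let ρ : H →* Module.End (ZMod p) V :=
    { toFun := fun h => ((h : V ≃ₗ[ZMod p] V) : V →ₗ[ZMod p] V)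
      map_one' := rfl
      map_mul' := fun _ _ => rfl }
  have hfpf : ∀ g : H, g ≠ 1 → ∀ v : V, ρ g v = v → v = 0 := fun g hg v hv => by
    by_contra hv0
    exact hg (Cfsg.Lib.Perm.NearFieldAb.semiregular hreg hv0 hv)
  haveI : Nontrivial N := by
    by_contra h
    rw [not_nontrivial_iff_subsingleton] at h
    exact hNna ⟨⟨fun a b => Subsingleton.elim _ _⟩⟩
  by_cases hperf : commutator N = ⊤
  · exact Or.inr (perfect_iso (ρ.comp N.subtype) (fun g hg v hv => hfpf g (fun h => hg (Subtype.ext h)) v hv) hperf)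
  left
  let D : Subgroup H := (commutator N).map N.subtype
  haveI : D.Normal := ConjAct.normal_of_characteristic_of_normal
  have hDN : D ≤ N := Subgroup.map_subtype_le _
  have hDc : IsMulCommutative D := by
    by_contra h
    refine hperf (Subgroup.map_injective (Subgroup.subtype_injective N) ?_)
    rw [← MonoidHom.range_eq_map, Subgroup.range_subtype]
    exact hNmin D inferInstance hDN h
  have hDA : D ≤ A := by
    have hcomm : ∀ x ∈ D, ∀ y ∈ A, x * y = y * x := fun x hx y hy =>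
      (Subgroup.mem_centralizer_iff.mp (hNle (hDN hx)) y hy).symm
    haveI : IsMulCommutative (D ⊔ A : Subgroup H) := by
      rw [← Subgroup.closure_eq D, ← Subgroup.closure_eq A, ← Subgroup.closure_union]
      refine Subgroup.isMulCommutative_closure ?_
      rintro x (hx | hx) y (hy | hy)
      · exact congrArg Subtype.val (hDc.is_comm.comm (⟨x, hx⟩ : D) ⟨y, hy⟩)
      · exact hcomm x hx y hy
      · exact (hcomm y hy x hx).symm
      · exact congrArg Subtype.val (hAc.is_comm.comm (⟨x, hx⟩ : A) ⟨y, hy⟩)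
    exact le_sup_left.trans (hAmax _ (Subgroup.sup_normal _ _) inferInstance le_sup_right).le
  have hcent : commutator N ≤ Subgroup.center N := fun x hx => Subgroup.mem_center_iff.mpr fun y => Subtype.ext
    (Subgroup.mem_centralizer_iff.mp (hNle y.2) x (hDA ⟨x, hx, rfl⟩)).symm
  haveI : Group.IsNilpotent N := by
    rw [Subgroup.nilpotent_iff_lowerCentralSeries]
    refine ⟨2, (Subgroup.eq_bot_iff_forall _).mpr ?_⟩
    suffices h : (⁅⁅(⊤ : Subgroup N), ⊤⁆, ⊤⁆ : Subgroup N) = ⊥ from fun x hx => by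
      have : x ∈ (⊥ : Subgroup N) := by rw [← h]; exact hx
      exact this
    rw [Subgroup.commutator_eq_bot_iff_le_centralizer]
    intro x hx
    exact Subgroup.mem_centralizer_iff.mpr fun w _ => Subgroup.mem_center_iff.mp (hcent hx) w
  -- some Sylow subgroup is non-abelian
  obtain ⟨q, hq, Q, hQ⟩ : ∃ (q : ℕ) (_ : Fact q.Prime) (Q : Sylow q N), ¬ IsMulCommutative (Q : Subgroup N) := by
    by_contra hh
    push Not at hh
    refine hNna ⟨⟨fun x y => ?_⟩⟩
    obtain ⟨e⟩ := Group.isNilpotent_of_finite_tfae.out 0 4 |>.mp (inferInstance : Group.IsNilpotent N)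
    obtain ⟨x', rfl⟩ := e.surjective x
    obtain ⟨y', rfl⟩ := e.surjective y
    rw [← map_mul, ← map_mul]
    congr 1
    funext i P
    exact (hh i ⟨Nat.prime_of_mem_primeFactors i.2⟩ P).is_comm.comm _ _
  have h03 : Group.IsNilpotent N ↔ ∀ (p : ℕ) (_ : Fact p.Prime) (P : Sylow p N), (P : Subgroup N).Normal :=
    (Group.isNilpotent_of_finite_tfae (G := N)).out 0 3
  haveI : (Q : Subgroup N).Normal := h03.mp inferInstance q hq Q
  haveI : (Q : Subgroup N).Characteristic := Sylow.characteristic_of_normal Q inferInstance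
  haveI : ((Q : Subgroup N).map N.subtype).Normal := ConjAct.normal_of_characteristic_of_normal
  have hQN : (Q : Subgroup N).map N.subtype = N := by
    refine hNmin _ inferInstance (Subgroup.map_subtype_le _) fun h => hQ ⟨⟨fun a b => ?_⟩⟩
    have h1 := h.is_comm.comm (⟨_, a, a.2, rfl⟩ : (Q : Subgroup N).map N.subtype) ⟨_, b, b.2, rfl⟩
    have h5 : (((a : N) : H)) * ((b : N) : H) = ((b : N) : H) * ((a : N) : H) := congrArg Subtype.val h1
    exact Subtype.ext (Subtype.ext h5)
  have hNp : IsPGroup q N := hQN ▸ Q.2.map N.subtype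
  rcases pgroup_cases ρ hfpf N hNp with hc | ⟨-, n, hn, ⟨e⟩⟩
  · exact absurd ⟨⟨(IsCyclic.commGroup (α := N)).mul_comm⟩⟩ hNna
  rcases Nat.lt_or_ge n 2 with h | h
  · obtain rfl : n = 1 := by omega
    exact ⟨e⟩
  · exfalso
    haveI : NeZero (2 ^ n) := ⟨by positivity⟩
    -- the commutator of the two generators is not central
    set a : N := e.symm (QuaternionGroup.a 1)
    set b : N := e.symm (QuaternionGroup.xa 0)
    have h1 : ⁅a, b⁆ ∈ Subgroup.center N := hcent (Subgroup.commutator_mem_commutator (Subgroup.mem_top a) (Subgroup.mem_top b))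
    have h2 := congrArg e (Subgroup.mem_center_iff.mp h1 b)
    simp only [map_mul, map_commutatorElement, a, b, MulEquiv.apply_symm_apply] at h2
    have hc : ⁅(QuaternionGroup.a 1 : QuaternionGroup (2 ^ n)), (QuaternionGroup.xa 0 : QuaternionGroup (2 ^ n))⁆ =
        QuaternionGroup.a 2 := by
      rw [commutatorElement_def, mul_inv_eq_iff_eq_mul, mul_inv_eq_iff_eq_mul, QuaternionGroup.a_mul_xa,
        QuaternionGroup.a_mul_xa, QuaternionGroup.xa_mul_a]
      congr 1
      norm_num
    rw [hc, QuaternionGroup.xa_mul_a, QuaternionGroup.a_mul_xa, QuaternionGroup.xa.injEq] at h2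
    have h3 : ((4 : ℕ) : ZMod (2 * 2 ^ n)) = 0 := by
      push_cast
      linear_combination h2
    rw [ZMod.natCast_eq_zero_iff] at h3
    have h4 := Nat.le_of_dvd (by norm_num) h3
    have : 4 ≤ 2 ^ n := le_trans (by norm_num) (Nat.pow_le_pow_right (by norm_num) h)
    omega

/-- Its centralizer and irreducibility, when the space has dimension two. -/
theorem minimal_nonabelian_irreducible (hV : Nat.card V = p ^ 2) (A : Subgroup H) [A.Normal] (hAc : IsMulCommutative A)
    (hAmax : ∀ B : Subgroup H, B.Normal → IsMulCommutative B → A ≤ B → B = A) (N : Subgroup H) [N.Normal]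
    (hNle : N ≤ Subgroup.centralizer (A : Set H)) (hNna : ¬ IsMulCommutative N) :
    (∀ W : Submodule (ZMod p) V, (∀ n ∈ N, ∀ v ∈ W, ((n : H) : V ≃ₗ[ZMod p] V) v ∈ W) → W = ⊥ ∨ W = ⊤) ∧
      Subgroup.centralizer (N : Set H) = A := by
  classical
  haveI : Finite (V ≃ₗ[ZMod p] V) := Finite.of_injective _ DFunLike.coe_injective
  haveI := nontrivial_of_noncomm hNna
  have hp := (Fact.out : p.Prime)
  have hdim : Module.finrank (ZMod p) V = 2 := by
    rw [Module.natCard_eq_pow_finrank (K := ZMod p) (V := V), Nat.card_zmod] at hV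
    exact Nat.pow_right_injective hp.two_le hV
  have hirr : ∀ W : Submodule (ZMod p) V, (∀ n ∈ N, ∀ v ∈ W, ((n : H) : V ≃ₗ[ZMod p] V) v ∈ W) → W = ⊥ ∨ W = ⊤ := by
    intro W hW
    by_contra hh
    push Not at hh
    have hlt := Submodule.finrank_lt (lt_top_iff_ne_top.mpr hh.2).ne
    have hpos : Module.finrank (ZMod p) W ≠ 0 := fun h => hh.1 (Submodule.finrank_eq_zero.mp h)
    rw [hdim] at hlt
    have hW1 : Module.finrank (ZMod p) W = 1 := by omega
    obtain ⟨⟨w, hw⟩, hw0, hspan⟩ := finrank_eq_one_iff'.mp hW1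
    have hw0' : w ≠ 0 := fun h => hw0 (Subtype.ext h)
    have hscal : ∀ n ∈ N, ∃ c : ZMod p, c • w = ((n : H) : V ≃ₗ[ZMod p] V) w := fun n hn => by
      obtain ⟨c, hc⟩ := hspan ⟨_, hW n hn w hw⟩
      exact ⟨c, congrArg Subtype.val hc⟩
    refine hNna ⟨⟨fun x y => Subtype.ext ?_⟩⟩
    obtain ⟨c, hc⟩ := hscal x x.2
    obtain ⟨d, hd⟩ := hscal y y.2
    have h1 : (((x : H) * y : H) : V ≃ₗ[ZMod p] V) w = (((y : H) * x : H) : V ≃ₗ[ZMod p] V) w := by
      show ((x : H) : V ≃ₗ[ZMod p] V) (((y : H) : V ≃ₗ[ZMod p] V) w) =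
        ((y : H) : V ≃ₗ[ZMod p] V) (((x : H) : V ≃ₗ[ZMod p] V) w)
      rw [← hd, map_smul, ← hc, map_smul, ← hd, smul_comm]
    obtain ⟨g, -, hg⟩ := hreg w ((((y : H) * x : H) : V ≃ₗ[ZMod p] V) w) hw0' (by simpa using hw0')
    exact (hg _ h1).trans (hg _ rfl).symm
  refine ⟨hirr, ?_⟩
  let S : Subring (Module.End (ZMod p) V) :=
    Subring.centralizer ((fun n : N => (((n : H) : V ≃ₗ[ZMod p] V) : V →ₗ[ZMod p] V)) '' Set.univ)
  have hinj : ∀ φ : S, φ ≠ 0 → Function.Injective (φ : Module.End (ZMod p) V) := by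
    intro φ hφ
    rw [← LinearMap.ker_eq_bot]
    refine (hirr _ fun n hn v hv => ?_).resolve_right fun h => hφ (Subtype.ext (LinearMap.ker_eq_top.mp h))
    have h1 := LinearMap.congr_fun (Subring.mem_centralizer_iff.mp φ.2 _ ⟨⟨n, hn⟩, trivial, rfl⟩) v
    rw [LinearMap.mem_ker] at hv ⊢
    simpa [hv] using h1.symm
  haveI : NoZeroDivisors S := ⟨fun {φ ψ} h' => by
    by_contra hh
    push Not at hh
    refine hh.2 (Subtype.ext (LinearMap.ext fun v => hinj φ hh.1 ?_))
    show (φ : Module.End (ZMod p) V) ((ψ : Module.End (ZMod p) V) v) = (φ : Module.End (ZMod p) V) 0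
    rw [map_zero]
    exact LinearMap.congr_fun (congrArg Subtype.val h') v⟩
  haveI : Nontrivial S := by
    obtain ⟨v, hv⟩ := exists_ne (0 : V)
    exact ⟨⟨1, 0, fun e => hv (LinearMap.congr_fun (congrArg Subtype.val e) v)⟩⟩
  haveI : IsDomain S := NoZeroDivisors.to_isDomain S
  haveI : Finite (Module.End (ZMod p) V) := Finite.of_injective _ DFunLike.coe_injective
  have hcommS : ∀ a b : S, a * b = b * a := (Finite.isDomain_to_isField S).mul_comm
  have hmem : ∀ d ∈ Subgroup.centralizer (N : Set H), ((d : V ≃ₗ[ZMod p] V) : V →ₗ[ZMod p] V) ∈ S := by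
    intro d hd
    refine Subring.mem_centralizer_iff.mpr ?_
    rintro _ ⟨n, -, rfl⟩
    exact LinearMap.ext fun v =>
      congrArg (fun e : H => (e : V ≃ₗ[ZMod p] V) v) (Subgroup.mem_centralizer_iff.mp hd n n.2)
  haveI : IsMulCommutative (Subgroup.centralizer (N : Set H)) := ⟨⟨fun a b => by
    have h1 := congrArg Subtype.val (hcommS ⟨_, hmem a a.2⟩ ⟨_, hmem b b.2⟩)
    exact Subtype.ext (Subtype.ext (LinearEquiv.ext fun v => LinearMap.congr_fun h1 v))⟩⟩
  exact hAmax _ inferInstance inferInstance fun a ha => Subgroup.mem_centralizer_iff.mpr fun n hn =>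
    (Subgroup.mem_centralizer_iff.mp (hNle hn) a ha).symm

end Cfsg.Lib.Perm.Zas25
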