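import Cfsg.Agent.S0799
import Cfsg.Agent.Lib.Dickson.Solvable

/-!
# Subgroups of `SL(2, q)` of order prime to `q` generated by elements of order three

Such a subgroup is commutative, or of order `24` and solvable, or of order `120` and not solvable.
-/

set_option autoImplicit false
set_option linter.style.haveILetI false

namespace Cfsg.Lib.Perm.Zas25

open Matrix
open scoped MatrixGroups

/-- A nilpotency criterion for groups generated by elements of order three. -/
theorem commute_of_central_two {K : Type*} [Group K] {x y z : K} (hx : x ^ 3 = 1) (hz : z * z = 1)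
    (hzc : ∀ g, z * g = g * z) (h : x * y = z * (y * x)) : x * y = y * x := by
  have hz3 : z ^ 3 = 1 := by
    have h1 : y⁻¹ * x * y = z * x := by rw [mul_assoc, h, ← mul_assoc, ← hzc, mul_assoc, inv_mul_cancel_left]
    have h2 : (y⁻¹ * x * y) ^ 3 = y⁻¹ * x ^ 3 * y := by
      simp only [pow_succ, pow_zero, one_mul, mul_assoc, mul_inv_cancel_left]
    rw [h1, hx, mul_one, inv_mul_cancel, (show Commute z x from hzc x).mul_pow, hx, mul_one] at h2
    exact h2
  have hz1 : z = 1 := by
    rw [pow_succ, pow_two, hz, one_mul] at hz3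
    exact hz3
  rw [h, hz1, one_mul]

theorem sl_ext {E : Type*} [Field E] (g h : SL(2, E))
    (e : (g : Matrix (Fin 2) (Fin 2) E) = (h : Matrix (Fin 2) (Fin 2) E)) : g = h :=
  Matrix.SpecialLinearGroup.ext g h fun i j => by rw [e]

theorem eq_one_or_neg_one {E : Type*} [Field E] (h2 : (2 : E) ≠ 0) (g : SL(2, E)) (h : g * g = 1) : g = 1 ∨ g = -1 := by
  have hd := g.2
  rw [Matrix.det_fin_two] at hd
  have h' : (g : Matrix (Fin 2) (Fin 2) E) * g = 1 :=
    congrArg (fun z : SL(2, E) => (z : Matrix (Fin 2) (Fin 2) E)) h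
  have e00 := congrFun (congrFun h' 0) 0
  have e01 := congrFun (congrFun h' 0) 1
  have e10 := congrFun (congrFun h' 1) 0
  have e11 := congrFun (congrFun h' 1) 1
  simp [Matrix.mul_apply, Fin.sum_univ_two] at e00 e01 e10 e11
  have t01 : g 0 1 * (g 0 0 + g 1 1) = 0 := by linear_combination e01
  have t10 : g 1 0 * (g 0 0 + g 1 1) = 0 := by linear_combination e10
  have t00 : g 0 0 * (g 0 0 + g 1 1) = 2 := by linear_combination e00 + hd
  have t11 : g 1 1 * (g 0 0 + g 1 1) = 2 := by linear_combination e11 + hd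
  by_cases ht : g 0 0 + g 1 1 = 0
  · rw [ht, mul_zero] at t00
    exact absurd t00.symm h2
  · have hb := (mul_eq_zero.mp t01).resolve_right ht
    have hc := (mul_eq_zero.mp t10).resolve_right ht
    have ha : g 0 0 = g 1 1 := mul_right_cancel₀ ht (t00.trans t11.symm)
    rw [hb, hc, ← ha, mul_zero, sub_zero] at hd
    rcases mul_self_eq_one_iff.mp hd with e | e
    · left; ext i j; fin_cases i <;> fin_cases j <;> simp [hb, hc, ← ha, e]
    · right; ext i j; fin_cases i <;> fin_cases j <;> simp [hb, hc, ← ha, e]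

variable {E : Type*} [Field E] [Fintype E] {l : ℕ} [Fact l.Prime] [CharP E l]

local notation "SLE" => Matrix.SpecialLinearGroup (Fin 2) E
local notation "PSLE" => Matrix.ProjectiveSpecialLinearGroup (Fin 2) E

/-- The commutators of the upper triangular group have `l`-power order. -/
theorem commutator_borel_pow (a b : SLE) (ha : a ∈ Cfsg.Lib.Dickson.borelSL E) (hb : b ∈ Cfsg.Lib.Dickson.borelSL E) :
    (a * b * a⁻¹ * b⁻¹) ^ l = 1 := by
  have ha' := Cfsg.Lib.Dickson.mem_borelSL.mp ha
  have hb' := Cfsg.Lib.Dickson.mem_borelSL.mp hb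
  have hdA := a.2
  have hdB := b.2
  rw [Matrix.det_fin_two, ha', mul_zero, sub_zero] at hdA
  rw [Matrix.det_fin_two, hb', mul_zero, sub_zero] at hdB
  obtain ⟨c, hc⟩ : ∃ c : E, ((a * b * a⁻¹ * b⁻¹ : SLE) : Matrix (Fin 2) (Fin 2) E) = !![1, c; 0, 1] := by
    refine ⟨(a * b * a⁻¹ * b⁻¹ : SLE) 0 1, ?_⟩
    ext i j
    fin_cases i <;> fin_cases j <;>
      simp [SpecialLinearGroup.coe_inv, Matrix.adjugate_fin_two, Matrix.mul_apply, Fin.sum_univ_two, ha', hb']
    · linear_combination (b 0 0 * b 1 1) * hdA + hdB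
    · linear_combination (b 0 0 * b 1 1) * hdA + hdB
  have key : ∀ n : ℕ, !![1, c; 0, 1] ^ n = !![1, (n : E) * c; 0, 1] := by
    intro n
    induction n with
    | zero => simp [Matrix.one_fin_two]
    | succ n ih =>
      rw [pow_succ, ih, Matrix.mul_fin_two]
      ext i j
      fin_cases i <;> fin_cases j <;> simp <;> ring
  have h : ((a * b * a⁻¹ * b⁻¹ : SLE) : Matrix (Fin 2) (Fin 2) E) ^ l = 1 := by
    rw [hc, key, CharP.cast_eq_zero, zero_mul]
    exact Matrix.one_fin_two.symm
  exact sl_ext _ _ ((Matrix.SpecialLinearGroup.coe_pow _ _).trans (h.trans (Matrix.SpecialLinearGroup.coe_one).symm))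

set_option maxHeartbeats 1000000 in
/-- Finite groups of order prime to `l` in `SL(2, E)` generated by elements of order three. -/
theorem polyhedral (hl : l ≠ 2) {K : Type*} [Group K] [Finite K] (f : K →* SLE) (hf : Function.Injective f)
    (hcop : ¬ l ∣ Nat.card K) (S : Set K) (hS : Subgroup.closure S = ⊤) (hS3 : ∀ x ∈ S, x ^ 3 = 1) :
    (∀ a b : K, a * b = b * a) ∨
      (((Nat.card K = 24 ∧ Group.IsSolvable K) ∨ (Nat.card K = 120 ∧ ¬ Group.IsSolvable K)) ∧
        ∀ g : K, g ^ 4 = 1 ∨ g ^ 6 = 1 ∨ g ^ 10 = 1) := by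
  classical
  have h2E : (2 : E) ≠ 0 := fun h => hl (by
    have := (CharP.cast_eq_zero_iff E l 2).mp (by exact_mod_cast h)
    exact (Nat.prime_dvd_prime_iff_eq Fact.out Nat.prime_two).mp this)
  let π : K →* PSLE := (QuotientGroup.mk' (Subgroup.center SLE)).comp f
  have hker : ∀ k : K, π k = 1 ↔ f k = 1 ∨ f k = -1 := by
    intro k
    constructor
    · intro h
      have hc : f k ∈ Subgroup.center SLE := (QuotientGroup.eq_one_iff _).mp h
      obtain ⟨r, hr, hk⟩ := Matrix.SpecialLinearGroup.mem_center_iff.mp hc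
      rw [Fintype.card_fin] at hr
      refine eq_one_or_neg_one h2E (f k) (sl_ext _ _ ?_)
      have h1 : (f k : Matrix (Fin 2) (Fin 2) E) * (f k : Matrix (Fin 2) (Fin 2) E) = 1 := by
        rw [← hk, ← map_mul, ← pow_two, hr, map_one]
      exact (Matrix.SpecialLinearGroup.coe_mul _ _).trans (h1.trans (Matrix.SpecialLinearGroup.coe_one).symm)
    · intro h
      refine (QuotientGroup.eq_one_iff _).mpr ?_
      rw [Subgroup.mem_center_iff]
      rcases h with h | h <;> rw [h] <;> intro g
      · rw [mul_one, one_mul]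
      · exact Subtype.ext (by simp)
  have hkc : ∀ k : K, π k = 1 → k * k = 1 ∧ ∀ g, k * g = g * k := by
    intro k hk
    constructor
    · refine hf ?_
      rcases (hker k).mp hk with h | h <;> rw [map_mul, h, map_one] <;> simp
    · intro g
      refine hf ?_
      rw [map_mul, map_mul]
      exact (Subgroup.mem_center_iff.mp ((QuotientGroup.eq_one_iff _).mp hk) (f g)).symm
  -- a commutative image gives a commutative group
  have hcommH : (∀ x ∈ S, ∀ y ∈ S, π x * π y = π y * π x) → ∀ a b : K, a * b = b * a := by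
    intro h
    have hS' : ∀ x ∈ S, ∀ y ∈ S, x * y = y * x := by
      intro x hx y hy
      have hk : π (x * y * (y * x)⁻¹) = 1 := by
        rw [map_mul, map_inv, map_mul, map_mul, h x hx y hy, mul_inv_cancel]
      exact commute_of_central_two (hS3 x hx) (hkc _ hk).1 (hkc _ hk).2 (by rw [inv_mul_cancel_right])
    intro a b
    have hc := Subgroup.isMulCommutative_closure hS'
    exact congrArg Subtype.val (hc.is_comm.comm (⟨a, hS ▸ Subgroup.mem_top a⟩ : Subgroup.closure S)
      ⟨b, hS ▸ Subgroup.mem_top b⟩)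
  let H := π.range
  have hcopH : Nat.Coprime l (Nat.card H) := (Nat.Prime.coprime_iff_not_dvd Fact.out).mpr fun h =>
    hcop (h.trans (Subgroup.card_range_dvd π))
  have hHgen : ∀ h : H, h ∈ Subgroup.closure (π.rangeRestrict '' S) := by
    intro h
    rw [← MonoidHom.map_closure, hS, Subgroup.map_top_of_surjective _ π.rangeRestrict_surjective]
    exact Subgroup.mem_top h
  -- the order of `K`
  have hcard : 2 ∣ Nat.card H → Nat.card K = 2 * Nat.card H := by
    intro h2
    haveI := Fact.mk Nat.prime_two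
    obtain ⟨k, hk⟩ := exists_prime_orderOf_dvd_card' (G := K) 2 (h2.trans (Subgroup.card_range_dvd π))
    have hk1 : k ≠ 1 := fun e => by rw [e, orderOf_one] at hk; omega
    have hfk : f k = -1 := (eq_one_or_neg_one h2E (f k) (by
      have := pow_orderOf_eq_one k
      rw [hk, pow_two] at this
      rw [← map_mul, this, map_one])).resolve_left fun e => hk1 (hf (by rw [e, map_one]))
    have hK : (π.ker : Set K) = {1, k} := by
      ext x
      simp only [SetLike.mem_coe, MonoidHom.mem_ker, Set.mem_insert_iff, Set.mem_singleton_iff, hker, ← hfk]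
      rw [← map_one f, hf.eq_iff, hf.eq_iff]
    have h := π.ker.card_mul_index
    rw [Subgroup.index_ker, ← SetLike.coe_sort_coe, hK, Nat.card_coe_set_eq, Set.ncard_pair hk1.symm] at h
    exact h.symm
  have hlift : ∀ (g : K) (n : ℕ), π g ^ n = 1 → g ^ (2 * n) = 1 := by
    intro g n h
    rw [two_mul, pow_add]
    exact (hkc _ (by rw [map_pow, h])).1
  rcases Cfsg.Agent.S0799.result rfl l H with ⟨k, -, ⟨hc, -⟩ | ⟨⟨e⟩⟩⟩ | ⟨P, B, hB, ⟨e⟩⟩ | ⟨⟨e⟩⟩ | ⟨⟨e⟩⟩ |
      ⟨⟨e⟩⟩ | ⟨F, _, _, m, hm, hF⟩
  · left
    refine hcommH fun x _ y _ => ?_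
    letI := IsCyclic.commGroup (α := H)
    exact congrArg Subtype.val (mul_comm (π.rangeRestrict x) (π.rangeRestrict y))
  · left
    refine hcommH fun x hx y hy => ?_
    have key : ∀ d : DihedralGroup k, d ^ 3 = 1 → ∃ i, d = DihedralGroup.r i := by
      rintro (i | i) h
      · exact ⟨i, rfl⟩
      · rw [pow_succ, pow_two, DihedralGroup.sr_mul_self, one_mul, DihedralGroup.one_def] at h
        nomatch h
    obtain ⟨i, hi⟩ := key (e (π.rangeRestrict x)) (by rw [← map_pow, ← map_pow, hS3 x hx, map_one, map_one])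
    obtain ⟨j, hj⟩ := key (e (π.rangeRestrict y)) (by rw [← map_pow, ← map_pow, hS3 y hy, map_one, map_one])
    refine congrArg Subtype.val (e.injective (?_ : e (π.rangeRestrict x * π.rangeRestrict y) =
      e (π.rangeRestrict y * π.rangeRestrict x)))
    rw [map_mul, map_mul, hi, hj, DihedralGroup.r_mul_r, DihedralGroup.r_mul_r, add_comm]
  · left
    refine hcommH fun x _ y _ => ?_
    obtain ⟨g, rfl⟩ := MulAction.exists_smul_eq PSLE (Cfsg.Lib.Dickson.stdSylow (F := E) l) P
    have hmem : ∀ h : H, g⁻¹ * (e h : PSLE) * g ∈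
        (Cfsg.Lib.Dickson.borelSL E).map (QuotientGroup.mk' (Subgroup.center SLE)) := by
      intro h
      rw [← Cfsg.Lib.Dickson.normalizer_stdSylow (F := E) l]
      refine Sylow.smul_eq_iff_mem_normalizer.mp ?_
      rw [mul_smul, mul_smul, Sylow.smul_eq_iff_mem_normalizer.mpr (hB (e h).2), inv_smul_smul]
    set c : H := π.rangeRestrict x * π.rangeRestrict y * (π.rangeRestrict x)⁻¹ * (π.rangeRestrict y)⁻¹ with hc
    obtain ⟨a, ha, ha'⟩ := hmem (π.rangeRestrict x)
    obtain ⟨b, hb, hb'⟩ := hmem (π.rangeRestrict y)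
    have hpow : c ^ l = 1 := by
      refine e.injective (Subtype.ext ?_)
      rw [map_pow, map_one, SubgroupClass.coe_pow, OneMemClass.coe_one]
      have h1 : (g⁻¹ * (e c : PSLE) * g) ^ l = 1 := by
        have he : (e c : PSLE) = (e (π.rangeRestrict x) : PSLE) * e (π.rangeRestrict y) *
            (e (π.rangeRestrict x) : PSLE)⁻¹ * (e (π.rangeRestrict y) : PSLE)⁻¹ := by
          rw [hc]; simp only [map_mul, map_inv, Subgroup.coe_mul, Subgroup.coe_inv]
        have : g⁻¹ * (e c : PSLE) * g = QuotientGroup.mk' (Subgroup.center SLE) (a * b * a⁻¹ * b⁻¹) := by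
          rw [map_mul (QuotientGroup.mk' (Subgroup.center SLE)), map_mul (QuotientGroup.mk' (Subgroup.center SLE)),
            map_mul (QuotientGroup.mk' (Subgroup.center SLE)), map_inv, map_inv, ha', hb', he]
          group
        rw [this, ← map_pow, commutator_borel_pow a b ha hb, map_one]
      have h2 := conj_pow (a := g⁻¹) (b := (e c : PSLE)) (i := l)
      rw [inv_inv, h1] at h2
      have h3 := congrArg (fun z => g * z * g⁻¹) h2
      simpa [mul_assoc] using h3.symm
    have hc1 : c = 1 := by
      rw [← orderOf_eq_one_iff]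
      exact Nat.eq_one_of_dvd_coprimes hcopH (orderOf_dvd_of_pow_eq_one hpow) (orderOf_dvd_natCard c)
    rw [hc, mul_inv_eq_one, mul_inv_eq_iff_eq_mul] at hc1
    exact congrArg Subtype.val hc1
  · right
    have hcH : Nat.card H = 12 := by
      rw [Nat.card_congr e.toEquiv, Nat.card_eq_fintype_card]; decide
    haveI : Group.IsSolvable H := Cfsg.Lib.Dickson.isSolvable_congr e Cfsg.Lib.Dickson.isSolvable_alternating_four
    refine ⟨Or.inl ⟨by rw [hcard (by omega)]; omega, ?_⟩, fun g => ?_⟩
    · haveI : Group.IsSolvable π.ker := Group.isSolvable_of_comm fun a b => Subtype.ext ((hkc _ a.2).2 b)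
      exact Group.isSolvable_of_ker_le_range π.ker.subtype π.rangeRestrict (by
        rw [MonoidHom.ker_rangeRestrict, Subgroup.range_subtype])
    · have key : ∀ a : alternatingGroup (Fin 4), a ^ 2 = 1 ∨ a ^ 3 = 1 := by decide
      rcases key (e (π.rangeRestrict g)) with h | h <;> rw [← map_pow, map_eq_one_iff e e.injective, Subtype.ext_iff] at h
      · exact Or.inl (hlift g 2 h)
      · exact Or.inr (Or.inl (hlift g 3 h))
  · exfalso
    have hall : ∀ h : H, Equiv.Perm.sign (e h) = 1 := by
      intro h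
      have hh := hHgen h
      induction hh using Subgroup.closure_induction with
      | mem y hy =>
        obtain ⟨x, hx, rfl⟩ := hy
        have h3 : Equiv.Perm.sign (e (π.rangeRestrict x)) ^ 3 = 1 := by
          rw [← map_pow, ← map_pow, ← map_pow, hS3 x hx, map_one, map_one, map_one]
        rcases Int.units_eq_one_or (Equiv.Perm.sign (e (π.rangeRestrict x))) with h | h
        · exact h
        · rw [h] at h3; exact absurd h3 (by decide)
      | one => rw [map_one, map_one]
      | mul y z _ _ hy hz => rw [map_mul, map_mul, hy, hz, one_mul]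
      | inv y _ hy => rw [map_inv, map_inv, hy, inv_one]
    have := hall (e.symm (Equiv.swap 0 1))
    rw [MulEquiv.apply_symm_apply, Equiv.Perm.sign_swap (by decide)] at this
    exact absurd this (by decide)
  · right
    have hcH : Nat.card H = 60 := by
      rw [Nat.card_congr e.toEquiv, Nat.card_eq_fintype_card]; decide
    refine ⟨Or.inr ⟨by rw [hcard (by omega)]; omega, fun hsol => ?_⟩, fun g => ?_⟩
    · haveI := hsol
      haveI : Group.IsSolvable H := Group.isSolvable_of_surjective π.rangeRestrict_surjective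
      exact Cfsg.Lib.Dickson.not_isSolvable_alternating_five
        (Cfsg.Lib.Dickson.isSolvable_congr e.symm inferInstance)
    · have key : ∀ a : alternatingGroup (Fin 5), a ^ 2 = 1 ∨ a ^ 3 = 1 ∨ a ^ 5 = 1 := by decide +kernel
      rcases key (e (π.rangeRestrict g)) with h | h | h <;> rw [← map_pow, map_eq_one_iff e e.injective, Subtype.ext_iff] at h
      · exact Or.inl (hlift g 2 h)
      · exact Or.inr (Or.inl (hlift g 3 h))
      · exact Or.inr (Or.inr (hlift g 5 h))
  · exfalso
    haveI : CharP F l := by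
      obtain ⟨r, hr⟩ := CharP.exists F
      haveI := hr
      obtain ⟨n, hrp, hn⟩ := FiniteField.card F r
      obtain ⟨d, -, hd⟩ := FiniteField.card E l
      have h1 : r ∣ l ^ (d : ℕ) := by
        rw [← hd, ← hm, hn]
        exact dvd_pow (dvd_pow_self r n.ne_zero) (fun e => by
          rw [e, pow_zero] at hm; exact absurd hm.symm (Fintype.one_lt_card).ne')
      rw [← (Nat.prime_dvd_prime_iff_eq hrp Fact.out).mp (hrp.dvd_of_dvd_pow h1)]
      exact hr
    let t : Matrix.SpecialLinearGroup (Fin 2) F := ⟨!![1, 1; 0, 1], by simp [Matrix.det_fin_two]⟩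
    have ht : t ^ l = 1 := by
      have key : ∀ n : ℕ, (!![1, 1; 0, 1] : Matrix (Fin 2) (Fin 2) F) ^ n = !![1, (n : F); 0, 1] := by
        intro n
        induction n with
        | zero => simp [Matrix.one_fin_two]
        | succ n ih =>
          rw [pow_succ, ih, Matrix.mul_fin_two]
          ext i j
          fin_cases i <;> fin_cases j <;> simp <;> ring
      have h : (!![1, 1; 0, 1] : Matrix (Fin 2) (Fin 2) F) ^ l = 1 := by
        rw [key, CharP.cast_eq_zero]
        exact Matrix.one_fin_two.symm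
      exact sl_ext _ _ ((Matrix.SpecialLinearGroup.coe_pow _ _).trans (h.trans (Matrix.SpecialLinearGroup.coe_one).symm))
    rcases hF with ⟨⟨e⟩⟩ | ⟨⟨e⟩⟩
    · have h1 : (QuotientGroup.mk' (Subgroup.center _) t : Matrix.ProjectiveSpecialLinearGroup (Fin 2) F) ≠ 1 := by
        intro h
        obtain ⟨r, -, hr⟩ := Matrix.SpecialLinearGroup.mem_center_iff.mp ((QuotientGroup.eq_one_iff _).mp h)
        simpa [t] using congrFun (congrFun hr 0) 1
      have h2 : orderOf (e.symm (QuotientGroup.mk' (Subgroup.center _) t)) = 1 :=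
        Nat.eq_one_of_dvd_coprimes hcopH (orderOf_dvd_of_pow_eq_one (by rw [← map_pow, ← map_pow, ht, map_one, map_one]))
          (orderOf_dvd_natCard _)
      rw [orderOf_eq_one_iff, map_eq_one_iff e.symm e.symm.injective] at h2
      exact h1 h2
    · let u : Matrix.GeneralLinearGroup (Fin 2) F := Matrix.SpecialLinearGroup.toGL t
      have h1 : (Matrix.ProjGenLinGroup.mk u : Matrix.ProjGenLinGroup (Fin 2) F) ≠ 1 := by
        intro h
        have hc : u ∈ Subgroup.center _ := (QuotientGroup.eq_one_iff _).mp h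
        obtain ⟨r, hr⟩ := Matrix.GeneralLinearGroup.mem_center_iff_val_eq_scalar.mp hc
        have h01 := congrFun (congrFun hr 0) 1
        have hu : (u : Matrix (Fin 2) (Fin 2) F) 0 1 = 1 := by
          show (t : Matrix (Fin 2) (Fin 2) F) 0 1 = 1
          rfl
        rw [hu] at h01
        simp at h01
      have h2 : orderOf (e.symm (Matrix.ProjGenLinGroup.mk u)) = 1 :=
        Nat.eq_one_of_dvd_coprimes hcopH (orderOf_dvd_of_pow_eq_one (by
          rw [← map_pow, ← map_pow, ← map_pow Matrix.SpecialLinearGroup.toGL, ht, map_one, map_one, map_one]))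
          (orderOf_dvd_natCard _)
      rw [orderOf_eq_one_iff, map_eq_one_iff e.symm e.symm.injective] at h2
      exact h1 h2

end Cfsg.Lib.Perm.Zas25
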