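import Mathlib

/-!
# Quaternion coordinates in an algebra

A frame is a triple `i, j, k` multiplying like the quaternion units; every element is uniquely
`a₀ + i a₁ + j a₂ + k a₃` with coefficients commuting with the frame.
-/

set_option autoImplicit false
set_option linter.unusedSectionVars false

namespace Cfsg.Lib.Perm.Zas25

variable {K : Type*} [Field K] {R : Type*} [Ring R] [Algebra K R]

/-- The multiplication rules of the quaternion units. -/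
structure IsFrame (i j k : R) : Prop where
  ii : i * i = -1
  jj : j * j = -1
  kk : k * k = -1
  ij : i * j = k
  ji : j * i = -k
  jk : j * k = i
  kj : k * j = -i
  ki : k * i = j
  ik : i * k = -j

/-- Commuting with the frame. -/
def Cen (i j a : R) : Prop := a * i = i * a ∧ a * j = j * a

/-- Quaternion coordinates. -/
def qv (i j k a b c d : R) : R := a + i * b + j * c + k * d

variable {i j k : R}

theorem IsFrame.rot (h : IsFrame i j k) : IsFrame j k i :=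
  ⟨h.jj, h.kk, h.ii, h.jk, h.kj, h.ki, h.ik, h.ij, h.ji⟩

theorem IsFrame.flipI (h : IsFrame i j k) : IsFrame i (-j) (-k) :=
  ⟨h.ii, by simp [h.jj], by simp [h.kk], by simp [h.ij], by simp [h.ji], by simp [h.jk], by simp [h.kj],
    by simp [h.ki], by simp [h.ik]⟩

theorem Cen.zero : Cen i j (0 : R) := ⟨by simp, by simp⟩

theorem Cen.one : Cen i j (1 : R) := ⟨by simp, by simp⟩

theorem Cen.smul {a : R} (c : K) (h : Cen i j a) : Cen i j (c • a) :=
  ⟨by rw [smul_mul_assoc, h.1, mul_smul_comm], by rw [smul_mul_assoc, h.2, mul_smul_comm]⟩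

theorem Cen.add {a b : R} (ha : Cen i j a) (hb : Cen i j b) : Cen i j (a + b) :=
  ⟨by rw [add_mul, ha.1, hb.1, mul_add], by rw [add_mul, ha.2, hb.2, mul_add]⟩

theorem Cen.neg {a : R} (ha : Cen i j a) : Cen i j (-a) :=
  ⟨by rw [neg_mul, ha.1, mul_neg], by rw [neg_mul, ha.2, mul_neg]⟩

theorem Cen.sub {a b : R} (ha : Cen i j a) (hb : Cen i j b) : Cen i j (a - b) := by
  rw [sub_eq_add_neg]; exact ha.add hb.neg

theorem Cen.mul {a b : R} (ha : Cen i j a) (hb : Cen i j b) : Cen i j (a * b) :=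
  ⟨by rw [mul_assoc, hb.1, ← mul_assoc, ha.1, mul_assoc], by rw [mul_assoc, hb.2, ← mul_assoc, ha.2, mul_assoc]⟩

theorem Cen.mul_k {a : R} (h : IsFrame i j k) (ha : Cen i j a) : a * k = k * a := by
  rw [← h.ij, ← mul_assoc, ha.1, mul_assoc, ha.2, mul_assoc]

theorem Cen.rot {a : R} (h : IsFrame i j k) (ha : Cen i j a) : Cen j k a := ⟨ha.2, ha.mul_k h⟩

/-- The product in coordinates. -/
theorem qv_mul (h : IsFrame i j k) {a₀ a₁ a₂ a₃ b₀ b₁ b₂ b₃ : R} (h0 : Cen i j a₀) (h1 : Cen i j a₁)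
    (h2 : Cen i j a₂) (h3 : Cen i j a₃) :
    qv i j k a₀ a₁ a₂ a₃ * qv i j k b₀ b₁ b₂ b₃ = qv i j k (a₀ * b₀ - a₁ * b₁ - a₂ * b₂ - a₃ * b₃)
      (a₀ * b₁ + a₁ * b₀ + a₂ * b₃ - a₃ * b₂) (a₀ * b₂ - a₁ * b₃ + a₂ * b₀ + a₃ * b₁)
      (a₀ * b₃ + a₁ * b₂ - a₂ * b₁ + a₃ * b₀) := by
  have hx : ∀ a : R, Cen i j a → ∀ x, a * (i * x) = i * (a * x) ∧ a * (j * x) = j * (a * x) ∧
      a * (k * x) = k * (a * x) := fun a ha x =>
    ⟨by rw [← mul_assoc, ha.1, mul_assoc], by rw [← mul_assoc, ha.2, mul_assoc],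
      by rw [← mul_assoc, ha.mul_k h, mul_assoc]⟩
  have r1 : ∀ x, i * (i * x) = -x := fun x => by rw [← mul_assoc, h.ii, neg_one_mul]
  have r2 : ∀ x, j * (j * x) = -x := fun x => by rw [← mul_assoc, h.jj, neg_one_mul]
  have r3 : ∀ x, k * (k * x) = -x := fun x => by rw [← mul_assoc, h.kk, neg_one_mul]
  have r4 : ∀ x, i * (j * x) = k * x := fun x => by rw [← mul_assoc, h.ij]
  have r5 : ∀ x, j * (i * x) = -(k * x) := fun x => by rw [← mul_assoc, h.ji, neg_mul]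
  have r6 : ∀ x, j * (k * x) = i * x := fun x => by rw [← mul_assoc, h.jk]
  have r7 : ∀ x, k * (j * x) = -(i * x) := fun x => by rw [← mul_assoc, h.kj, neg_mul]
  have r8 : ∀ x, k * (i * x) = j * x := fun x => by rw [← mul_assoc, h.ki]
  have r9 : ∀ x, i * (k * x) = -(j * x) := fun x => by rw [← mul_assoc, h.ik, neg_mul]
  simp only [qv, add_mul, mul_add, mul_sub, mul_assoc, (hx a₀ h0 _).1, (hx a₀ h0 _).2.1, (hx a₀ h0 _).2.2,
    (hx a₁ h1 _).1, (hx a₁ h1 _).2.1, (hx a₁ h1 _).2.2, (hx a₂ h2 _).1, (hx a₂ h2 _).2.1, (hx a₂ h2 _).2.2,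
    (hx a₃ h3 _).1, (hx a₃ h3 _).2.1, (hx a₃ h3 _).2.2, r1, r2, r3, r4, r5, r6, r7, r8, r9]
  abel

theorem qv_add (a₀ a₁ a₂ a₃ b₀ b₁ b₂ b₃ : R) :
    qv i j k a₀ a₁ a₂ a₃ + qv i j k b₀ b₁ b₂ b₃ = qv i j k (a₀ + b₀) (a₁ + b₁) (a₂ + b₂) (a₃ + b₃) := by
  simp only [qv, mul_add]; abel

theorem qv_neg (a₀ a₁ a₂ a₃ : R) : -qv i j k a₀ a₁ a₂ a₃ = qv i j k (-a₀) (-a₁) (-a₂) (-a₃) := by
  simp only [qv, mul_neg]; abel

theorem qv_sub (a₀ a₁ a₂ a₃ b₀ b₁ b₂ b₃ : R) :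
    qv i j k a₀ a₁ a₂ a₃ - qv i j k b₀ b₁ b₂ b₃ = qv i j k (a₀ - b₀) (a₁ - b₁) (a₂ - b₂) (a₃ - b₃) := by
  simp only [qv, mul_sub]; abel

theorem qv_smul (c : K) (a₀ a₁ a₂ a₃ : R) :
    c • qv i j k a₀ a₁ a₂ a₃ = qv i j k (c • a₀) (c • a₁) (c • a₂) (c • a₃) := by
  simp only [qv, smul_add, mul_smul_comm]

theorem qv_scalar (c : K) : c • (1 : R) = qv i j k (c • 1) 0 0 0 := by simp [qv]

theorem qv_zero : (0 : R) = qv i j k 0 0 0 0 := by simp [qv]

/-- The coefficient projection. -/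
def proj (K : Type*) [Field K] {R : Type*} [Ring R] [Algebra K R] (i j k x : R) : R :=
  (4 : K)⁻¹ • (x - i * x * i - j * x * j - k * x * k)

theorem proj_cen (h : IsFrame i j k) (x : R) : Cen i j (proj K i j k x) := by
  have ei : ∀ y, i * (i * y) = -y := fun y => by rw [← mul_assoc, h.ii, neg_one_mul]
  have ej : ∀ y, j * (j * y) = -y := fun y => by rw [← mul_assoc, h.jj, neg_one_mul]
  have e1 : ∀ y, i * (j * y) = k * y := fun y => by rw [← mul_assoc, h.ij]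
  have e2 : ∀ y, j * (i * y) = -(k * y) := fun y => by rw [← mul_assoc, h.ji, neg_mul]
  have e3 : ∀ y, j * (k * y) = i * y := fun y => by rw [← mul_assoc, h.jk]
  have e4 : ∀ y, i * (k * y) = -(j * y) := fun y => by rw [← mul_assoc, h.ik, neg_mul]
  constructor <;>
    simp only [proj, smul_mul_assoc, mul_smul_comm, sub_mul, mul_sub, mul_assoc, ei, ej, e1, e2, e3, e4, h.ii,
      h.jj, h.ij, h.ji, h.ki, h.kj, mul_neg, mul_one] <;>
    congr 1 <;> abel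

variable (h2 : (2 : K) ≠ 0)
include h2

theorem four_ne : (4 : K) ≠ 0 := by
  rw [show (4 : K) = 2 * 2 by norm_num]; exact mul_ne_zero h2 h2

theorem proj_qv (h : IsFrame i j k) {a₀ a₁ a₂ a₃ : R} (h0 : Cen i j a₀) (h1 : Cen i j a₁) (h2' : Cen i j a₂)
    (h3 : Cen i j a₃) : proj K i j k (qv i j k a₀ a₁ a₂ a₃) = a₀ := by
  have hi : i = qv i j k 0 1 0 0 := by simp [qv]
  have hj : j = qv i j k 0 0 1 0 := by simp [qv]
  have hk : k = qv i j k 0 0 0 1 := by simp [qv]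
  have z : Cen i j (0 : R) := Cen.zero
  have o : Cen i j (1 : R) := Cen.one
  have t : ∀ {x : R}, Cen i j x → x * 1 = x ∧ 1 * x = x := fun _ => ⟨mul_one _, one_mul _⟩
  unfold proj
  rw [show i * qv i j k a₀ a₁ a₂ a₃ * i = qv i j k 0 1 0 0 * qv i j k a₀ a₁ a₂ a₃ * qv i j k 0 1 0 0 by rw [← hi],
    show j * qv i j k a₀ a₁ a₂ a₃ * j = qv i j k 0 0 1 0 * qv i j k a₀ a₁ a₂ a₃ * qv i j k 0 0 1 0 by rw [← hj],
    show k * qv i j k a₀ a₁ a₂ a₃ * k = qv i j k 0 0 0 1 * qv i j k a₀ a₁ a₂ a₃ * qv i j k 0 0 0 1 by rw [← hk]]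
  rw [qv_mul h z o z z, qv_mul h z z o z, qv_mul h z z z o]
  simp only [zero_mul, one_mul, zero_sub, sub_zero, add_zero, zero_add, neg_zero]
  rw [qv_mul h h1.neg h0 h3.neg h2', qv_mul h h2'.neg h3 h0 h1.neg, qv_mul h h3.neg h2'.neg h1 h0]
  simp only [mul_zero, mul_one, zero_sub, sub_zero, add_zero, zero_add, neg_zero, neg_neg]
  simp only [qv_sub, qv_smul]
  simp only [qv]
  rw [show a₀ - -a₀ - -a₀ - -a₀ = (4 : K) • a₀ by module,
    show a₁ - -a₁ - a₁ - a₁ = 0 by abel, show a₂ - a₂ - -a₂ - a₂ = 0 by abel,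
    show a₃ - a₃ - a₃ - -a₃ = 0 by abel, inv_smul_smul₀ (four_ne h2)]
  simp

theorem qv_inj (h : IsFrame i j k) {a₀ a₁ a₂ a₃ b₀ b₁ b₂ b₃ : R} (h0 : Cen i j a₀) (h1 : Cen i j a₁)
    (h2' : Cen i j a₂) (h3 : Cen i j a₃) (g0 : Cen i j b₀) (g1 : Cen i j b₁) (g2 : Cen i j b₂) (g3 : Cen i j b₃)
    (e : qv i j k a₀ a₁ a₂ a₃ = qv i j k b₀ b₁ b₂ b₃) : a₀ = b₀ ∧ a₁ = b₁ ∧ a₂ = b₂ ∧ a₃ = b₃ := by
  have z : Cen i j (0 : R) := Cen.zero
  refine ⟨?_, ?_, ?_, ?_⟩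
  · have := congrArg (proj K i j k) e
    rwa [proj_qv h2 h h0 h1 h2' h3, proj_qv h2 h g0 g1 g2 g3] at this
  · have := congrArg (fun x => proj K i j k (qv i j k 0 (-1) 0 0 * x)) e
    simp only [qv_mul h z Cen.one.neg z z, zero_mul, neg_one_mul, zero_sub, sub_zero, add_zero, zero_add, neg_neg,
      neg_zero] at this
    rwa [proj_qv h2 h h1 h0.neg h3 h2'.neg, proj_qv h2 h g1 g0.neg g3 g2.neg] at this
  · have := congrArg (fun x => proj K i j k (qv i j k 0 0 (-1) 0 * x)) e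
    simp only [qv_mul h z z Cen.one.neg z, zero_mul, neg_one_mul, zero_sub, sub_zero, add_zero, zero_add, neg_neg,
      neg_zero] at this
    rwa [proj_qv h2 h h2' h3.neg h0.neg h1, proj_qv h2 h g2 g3.neg g0.neg g1] at this
  · have := congrArg (fun x => proj K i j k (qv i j k 0 0 0 (-1) * x)) e
    simp only [qv_mul h z z z Cen.one.neg, zero_mul, neg_one_mul, zero_sub, sub_zero, add_zero, zero_add, neg_neg,
      neg_zero] at this
    rwa [proj_qv h2 h h3 h2' h1.neg h0.neg, proj_qv h2 h g3 g2 g1.neg g0.neg] at this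

theorem exists_qv (h : IsFrame i j k) (p : R) : ∃ a₀ a₁ a₂ a₃ : R, Cen i j a₀ ∧ Cen i j a₁ ∧ Cen i j a₂ ∧
    Cen i j a₃ ∧ p = qv i j k a₀ a₁ a₂ a₃ := by
  refine ⟨proj K i j k p, proj K i j k (-(i * p)), proj K i j k (-(j * p)), proj K i j k (-(k * p)),
    proj_cen h _, proj_cen h _, proj_cen h _, proj_cen h _, ?_⟩
  have e1 : ∀ y, i * (i * y) = -y := fun y => by rw [← mul_assoc, h.ii, neg_one_mul]
  have e2 : ∀ y, j * (j * y) = -y := fun y => by rw [← mul_assoc, h.jj, neg_one_mul]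
  have e3 : ∀ y, k * (k * y) = -y := fun y => by rw [← mul_assoc, h.kk, neg_one_mul]
  have e4 : ∀ y, i * (j * y) = k * y := fun y => by rw [← mul_assoc, h.ij]
  have e5 : ∀ y, j * (i * y) = -(k * y) := fun y => by rw [← mul_assoc, h.ji, neg_mul]
  have e6 : ∀ y, j * (k * y) = i * y := fun y => by rw [← mul_assoc, h.jk]
  have e7 : ∀ y, k * (j * y) = -(i * y) := fun y => by rw [← mul_assoc, h.kj, neg_mul]
  have e8 : ∀ y, k * (i * y) = j * y := fun y => by rw [← mul_assoc, h.ki]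
  have e9 : ∀ y, i * (k * y) = -(j * y) := fun y => by rw [← mul_assoc, h.ik, neg_mul]
  simp only [qv, proj, mul_smul_comm, mul_neg, neg_mul, mul_sub, mul_assoc, e1, e2, e3, e4, e5, e6, e7, e8, e9,
    mul_add, sub_neg_eq_add, neg_neg]
  simp only [← smul_add]
  rw [eq_inv_smul_iff₀ (four_ne h2)]
  module

end Cfsg.Lib.Perm.Zas25
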