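import Cfsg.Agent.Lib.Perm.Zas25.Algebra

/-!
# Uniqueness of the parameter, and the main algebraic statement
-/

set_option autoImplicit false
set_option linter.unusedSectionVars false

namespace Cfsg.Lib.Perm.Zas25

variable {K : Type*} [Field K] {R : Type*} [Ring R] [Algebra K R] {P : Set R} {i j k : R}
  (hP : PSet K P) (h2 : (2 : K) ≠ 0) (h3 : (3 : K) ≠ 0)
include hP h2 h3

set_option maxHeartbeats 4000000 in
/-- The parameter is unique. -/
theorem param_unique (hR : (1 : R) ≠ 0) (h : Base P i j k) {e f : R} (he : Cen i j e) (hf : Cen i j f)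
    (he5 : e * e = (5 : K) • (1 : R)) (hf5 : f * f = (5 : K) • (1 : R)) (hpe : nf K i j k e ∈ P)
    (hpf : nf K i j k f ∈ P) : f = e := by
  unfold nf at hpe hpf
  set a := (2 : K)⁻¹ • (e - 1) with hadef
  set b := (2 : K)⁻¹ • (-e - 1) with hbdef
  set c := (2 : K)⁻¹ • (f - 1) with hcdef
  set d := (2 : K)⁻¹ • (-f - 1) with hddef
  have ga : Cen i j a := (he.sub Cen.one).smul _
  have gb : Cen i j b := (he.neg.sub Cen.one).smul _
  have gc : Cen i j c := (hf.sub Cen.one).smul _
  have gd : Cen i j d := (hf.neg.sub Cen.one).smul _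
  have z : Cen i j (0 : R) := Cen.zero
  have n4 := four_ne (K := K) h2
  have k10 : ∀ n : K, n ≠ 0 → n • (1 : R) ≠ 0 := fun n hn hh => hR (smul_cancel hn (hh.trans (smul_zero _).symm))
  have k16 : (16 : K) • (1 : R) ≠ 0 := k10 _ (by
    rw [show (16 : K) = 2 * 2 * (2 * 2) by norm_num]; exact mul_ne_zero (mul_ne_zero h2 h2) (mul_ne_zero h2 h2))
  have k64 : (64 : K) • (1 : R) ≠ 0 := k10 _ (by
    rw [show (64 : K) = 2 ^ 6 by norm_num]; exact pow_ne_zero _ h2)
  have not_one : ∀ x : R, x * x = (5 : K) • (1 : R) → (x = 1 ∨ x = -1) → False := by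
    intro x hx hx1
    refine k10 4 n4 ?_
    rcases hx1 with rfl | rfl
    · linear_combination (norm := module) (-1 : K) • hx + (1 : K) • mul_one (1 : R)
    · rw [neg_mul_neg, one_mul] at hx
      linear_combination (norm := module) (-1 : K) • hx
  have eqa : ∀ {x y : R}, (2 : K)⁻¹ • x = (2 : K)⁻¹ • y → x = y := fun hxy => smul_cancel (inv_ne_zero h2) hxy
  set X := e * f + f * e with hX
  set Y := e * f - f * e with hY
  have gX : Cen i j X := (he.mul hf).add (hf.mul he)
  have gY : Cen i j Y := (he.mul hf).sub (hf.mul he)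
  have hee : ∀ x, e * (e * x) = (5 : K) • x := fun x => by rw [← mul_assoc, he5, smul_mul_assoc, one_mul]
  have hff : ∀ x, f * (f * x) = (5 : K) • x := fun x => by rw [← mul_assoc, hf5, smul_mul_assoc, one_mul]
  have hXY : X * X - Y * Y = (100 : K) • (1 : R) := by
    simp only [hX, hY, mul_add, add_mul, mul_sub, sub_mul, mul_assoc, he5, hf5, hee, hff, mul_smul_comm, mul_one,
      smul_smul]
    module
  have hanti : (e + f) * Y + Y * (e + f) = 0 := by
    simp only [hY, mul_add, add_mul, mul_sub, sub_mul, mul_assoc, he5, hf5, hee, hff, mul_smul_comm, mul_one]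
    module
  have hSS : (e + f) * (e + f) = (10 : K) • (1 : R) + X := by
    simp only [hX, mul_add, add_mul, he5, hf5]
    module
  -- `p` against `p'`
  have h0 : qv i j k 0 0 a b * qv i j k 0 0 c d + qv i j k 0 0 c d * qv i j k 0 0 a b =
      qv i j k (-((2 : K)⁻¹ • X + 1)) 0 0 0 := by
    rw [qv_mul h.frame z z ga gb, qv_mul h.frame z z gc gd, qv_add, hadef, hbdef, hcdef, hddef, hX]
    simp only [smul_mul_assoc, mul_smul_comm, sub_mul, mul_sub, neg_mul, mul_neg, one_mul, mul_one, mul_zero,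
      zero_mul, smul_smul]
    congr 1 <;> match_scalars <;> field_simp <;> ring
  -- `p` against the flipped `p'`
  have hp1 : qv i j k 0 0 c (-d) ∈ P := by
    have := hP.neg _ (conj_flip hP h2 h3 h z z gc gd hpf)
    rwa [qv_neg, neg_zero, neg_zero, neg_neg] at this
  have h1 : qv i j k 0 0 a b * qv i j k 0 0 c (-d) + qv i j k 0 0 c (-d) * qv i j k 0 0 a b =
      qv i j k (e + f) ((2 : K)⁻¹ • Y) 0 0 := by
    rw [qv_mul h.frame z z ga gb, qv_mul h.frame z z gc gd.neg, qv_add, hadef, hbdef, hcdef, hddef, hY]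
    simp only [smul_mul_assoc, mul_smul_comm, sub_mul, mul_sub, neg_mul, mul_neg, one_mul, mul_one, mul_zero,
      zero_mul, smul_smul, smul_neg]
    congr 1 <;> match_scalars <;> field_simp <;> ring
  -- `p` against the rotated `p'`
  have hp2 : qv i j k 0 c d 0 ∈ P := conj_rot hP h2 h3 h z z gc gd hpf
  have hp3 : qv i j k 0 d 0 c ∈ P := conj_rot hP h2 h3 h z gc gd z hp2
  have h2' : qv i j k 0 0 a b * qv i j k 0 c d 0 + qv i j k 0 c d 0 * qv i j k 0 0 a b =
      qv i j k ((4 : K)⁻¹ • (X + (2 : K) • e - (2 : K) • f - (2 : K) • (1 : R))) (-((4 : K)⁻¹ • Y))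
        (-((4 : K)⁻¹ • Y)) (-((4 : K)⁻¹ • Y)) := by
    rw [qv_mul h.frame z z ga gb, qv_mul h.frame z gc gd z, qv_add, hadef, hbdef, hcdef, hddef, hX, hY]
    simp only [smul_mul_assoc, mul_smul_comm, sub_mul, mul_sub, neg_mul, mul_neg, one_mul, mul_one, mul_zero,
      zero_mul, smul_smul]
    congr 1 <;> match_scalars <;> field_simp <;> ring
  have h3' : qv i j k 0 0 a b * qv i j k 0 d 0 c + qv i j k 0 d 0 c * qv i j k 0 0 a b =
      qv i j k ((4 : K)⁻¹ • (X - (2 : K) • e + (2 : K) • f - (2 : K) • (1 : R))) ((4 : K)⁻¹ • Y)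
        ((4 : K)⁻¹ • Y) ((4 : K)⁻¹ • Y) := by
    rw [qv_mul h.frame z z ga gb, qv_mul h.frame z gd z gc, qv_add, hadef, hbdef, hcdef, hddef, hX, hY]
    simp only [smul_mul_assoc, mul_smul_comm, sub_mul, mul_sub, neg_mul, mul_neg, one_mul, mul_one, mul_zero,
      zero_mul, smul_smul]
    congr 1 <;> match_scalars <;> field_simp <;> ring
  -- `c₁` is never scalar
  have hc1 : X * X - (4 : K) • X - (60 : K) • (1 : R) = 0 := by
    have hno : ∀ n : K, n * n = 4 → qv i j k (e + f) ((2 : K)⁻¹ • Y) 0 0 = n • (1 : R) → False := by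
      intro n hn hh
      obtain ⟨x0, -, -, -⟩ := qv_inj h2 h.frame (he.add hf) (gY.smul _) z z (Cen.one.smul n) z z z
        (hh.trans (qv_scalar n))
      have hf' : f = n • (1 : R) - e := by rw [← x0]; abel
      have hh' := hf5
      rw [hf'] at hh'
      simp only [mul_sub, sub_mul, smul_mul_assoc, mul_smul_comm, one_mul, mul_one, smul_smul, hn, he5] at hh'
      have hne : ((2 : K) * n) • e = (4 : K) • (1 : R) := by
        linear_combination (norm := skip) (-1 : K) • hh'
        match_scalars <;> first | ring1 | linear_combination hn | linear_combination -hn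
      have hn0 : (2 : K) * n ≠ 0 := mul_ne_zero h2 fun e0 => n4 (by rw [← hn, e0, mul_zero])
      have hee' : e = (n / 2) • (1 : R) := smul_cancel hn0 (hne.trans (by
        rw [smul_smul]; congr 1; field_simp; linear_combination -hn))
      have h5' := he5
      rw [hee', smul_mul_assoc, one_mul, smul_smul, show n / 2 * (n / 2) = 1 by field_simp; linear_combination hn] at h5'
      exact k10 4 n4 (by linear_combination (norm := module) (-1 : K) • h5')
    rcases hP.pair _ hpe _ hp1 with ee | ee | ee | ee | ee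
    · exfalso
      obtain ⟨-, -, x2, x3⟩ := qv_inj h2 h.frame z z gc gd.neg z z ga gb ee
      rw [hddef, hbdef, ← smul_neg] at x3
      have hfe : f = e := by
        have := eqa x2
        linear_combination (norm := module) this
      have x3' := eqa x3
      rw [hfe] at x3'
      exact not_one e he5 (Or.inr (smul_cancel h2 (by linear_combination (norm := module) x3')))
    · exfalso
      rw [qv_neg, neg_zero] at ee
      obtain ⟨-, -, x2, x3⟩ := qv_inj h2 h.frame z z gc gd.neg z z ga.neg gb.neg ee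
      rw [hcdef, hadef, ← smul_neg] at x2
      have x3' := eqa (neg_injective x3)
      have hfe : f = e := by linear_combination (norm := module) (-1 : K) • x3'
      have x2' := eqa x2
      rw [hfe] at x2'
      exact not_one e he5 (Or.inl (smul_cancel h2 (by linear_combination (norm := module) x2')))
    · exact (hno 2 (by norm_num) (h1.symm.trans ee)).elim
    · exact (hno (-2) (by norm_num) (h1.symm.trans ee)).elim
    · rw [h1, qv_mul h.frame (he.add hf) (gY.smul _) z z] at ee
      obtain ⟨x0, -, -, -⟩ := qv_inj h2 h.frame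
        ((((he.add hf).mul (he.add hf)).sub ((gY.smul _).mul (gY.smul _))).sub (z.mul z) |>.sub (z.mul z))
        ((((he.add hf).mul (gY.smul _)).add ((gY.smul _).mul (he.add hf))).add (z.mul z) |>.sub (z.mul z))
        ((((he.add hf).mul z).sub ((gY.smul _).mul z)).add (z.mul (he.add hf)) |>.add (z.mul (gY.smul _)))
        ((((he.add hf).mul z).add ((gY.smul _).mul z)).sub (z.mul (gY.smul _)) |>.add (z.mul (he.add hf)))
        (Cen.one.smul _) z z z (ee.trans (qv_scalar _))
      rw [hSS] at x0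
      simp only [mul_zero, sub_zero, smul_mul_assoc, mul_smul_comm, smul_smul] at x0
      linear_combination (norm := skip) (-4 : K) • x0 + hXY
      match_scalars <;> field_simp <;> ring
  have hX2 : X ≠ (2 : K) • (1 : R) := fun hh => by
    rw [hh] at hc1
    simp only [smul_mul_assoc, one_mul, smul_smul] at hc1
    exact k64 (by linear_combination (norm := module) (-1 : K) • hc1)
  rcases hP.pair _ hpe _ hpf with ee | ee | ee | ee | ee
  · obtain ⟨-, -, x2, -⟩ := qv_inj h2 h.frame z z gc gd z z ga gb ee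
    have := eqa x2
    linear_combination (norm := module) this
  · exfalso
    rw [qv_neg, neg_zero] at ee
    obtain ⟨-, -, x2, x3⟩ := qv_inj h2 h.frame z z gc gd z z ga.neg gb.neg ee
    rw [hcdef, hadef, ← smul_neg] at x2
    rw [hddef, hbdef, ← smul_neg] at x3
    have x2' := eqa x2
    have x3' := eqa x3
    exact k10 4 n4 (by linear_combination (norm := module) (-1 : K) • x2' + (-1 : K) • x3')
  · exfalso
    obtain ⟨x0, -, -, -⟩ := qv_inj h2 h.frame ((gX.smul _).add Cen.one).neg z z z (Cen.one.smul _) z z z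
      ((h0.symm.trans ee).trans (qv_scalar _))
    have hX6 : X = (-6 : K) • (1 : R) := by
      linear_combination (norm := skip) (-2 : K) • x0
      match_scalars <;> field_simp <;> ring
    have hYne : Y ≠ 0 := fun hh => by
      rw [hh, hX6] at hXY
      simp only [smul_mul_assoc, one_mul, smul_smul, mul_zero, sub_zero] at hXY
      exact k64 (by linear_combination (norm := module) (-1 : K) • hXY)
    have nscal : ∀ (r : R) (n : K), Cen i j r →
        qv i j k r (-((4 : K)⁻¹ • Y)) (-((4 : K)⁻¹ • Y)) (-((4 : K)⁻¹ • Y)) ≠ n • (1 : R) := fun r n gr hh => by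
      obtain ⟨-, x1, -, -⟩ := qv_inj h2 h.frame gr (gY.smul _).neg (gY.smul _).neg (gY.smul _).neg (Cen.one.smul n)
        z z z (hh.trans (qv_scalar n))
      exact hYne (smul_cancel (inv_ne_zero n4) ((neg_eq_zero.mp x1).trans (smul_zero _).symm))
    have nscal' : ∀ (r : R) (n : K), Cen i j r →
        qv i j k r ((4 : K)⁻¹ • Y) ((4 : K)⁻¹ • Y) ((4 : K)⁻¹ • Y) ≠ n • (1 : R) := fun r n gr hh => by
      obtain ⟨-, x1, -, -⟩ := qv_inj h2 h.frame gr (gY.smul _) (gY.smul _) (gY.smul _) (Cen.one.smul n)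
        z z z (hh.trans (qv_scalar n))
      exact hYne (smul_cancel (inv_ne_zero n4) (x1.trans (smul_zero _).symm))
    have gr2 : Cen i j ((4 : K)⁻¹ • (X + (2 : K) • e - (2 : K) • f - (2 : K) • (1 : R))) :=
      (((gX.add (he.smul _)).sub (hf.smul _)).sub (Cen.one.smul _)).smul _
    have gr3 : Cen i j ((4 : K)⁻¹ • (X - (2 : K) • e + (2 : K) • f - (2 : K) • (1 : R))) :=
      (((gX.sub (he.smul _)).add (hf.smul _)).sub (Cen.one.smul _)).smul _
    have c0' : (2 : K)⁻¹ • (f - 1) ≠ 0 := fun hh =>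
      not_one f hf5 (Or.inl (sub_eq_zero.mp (smul_cancel (inv_ne_zero h2) (hh.trans (smul_zero _).symm))))
    have d0' : (2 : K)⁻¹ • (-f - 1) ≠ 0 := fun hh =>
      not_one f hf5 (Or.inr (neg_eq_iff_eq_neg.mp (sub_eq_zero.mp (smul_cancel (inv_ne_zero h2) (hh.trans (smul_zero _).symm)))))
    obtain ⟨u, hu, hu'⟩ : ∃ u, qv i j k 0 0 a b * qv i j k 0 c d 0 + qv i j k 0 c d 0 * qv i j k 0 0 a b = u ∧
        u * u = (20 : K) • (1 : R) := by
      rcases hP.pair _ hpe _ hp2 with q | q | q | q | q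
      · exact absurd (qv_inj h2 h.frame z gc gd z z z ga gb q).2.1 c0'
      · rw [qv_neg, neg_zero] at q
        exact absurd (qv_inj h2 h.frame z gc gd z z z ga.neg gb.neg q).2.1 c0'
      · exact absurd (h2'.symm.trans q) (nscal _ 2 gr2)
      · exact absurd (h2'.symm.trans q) (nscal _ (-2) gr2)
      · exact ⟨_, rfl, q⟩
    obtain ⟨w, hw, hw'⟩ : ∃ w, qv i j k 0 0 a b * qv i j k 0 d 0 c + qv i j k 0 d 0 c * qv i j k 0 0 a b = w ∧
        w * w = (20 : K) • (1 : R) := by
      rcases hP.pair _ hpe _ hp3 with q | q | q | q | q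
      · exact absurd (qv_inj h2 h.frame z gd z gc z z ga gb q).2.1 d0'
      · rw [qv_neg, neg_zero] at q
        exact absurd (qv_inj h2 h.frame z gd z gc z z ga.neg gb.neg q).2.1 d0'
      · exact absurd (h3'.symm.trans q) (nscal' _ 2 gr3)
      · exact absurd (h3'.symm.trans q) (nscal' _ (-2) gr3)
      · exact ⟨_, rfl, q⟩
    rw [h2'] at hu
    rw [h3'] at hw
    have hsum : w = (-4 : K) • (1 : R) - u := by
      rw [← hu, ← hw, eq_sub_iff_add_eq, qv_add, qv_scalar (i := i) (j := j) (k := k) (-4 : K), hX6]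
      congr 1 <;> match_scalars <;> field_simp <;> ring
    rw [hsum] at hw'
    simp only [mul_sub, sub_mul, smul_mul_assoc, mul_smul_comm, one_mul, mul_one, smul_smul, hu'] at hw'
    have hu2 : u = (-2 : K) • (1 : R) := smul_cancel (show (8 : K) ≠ 0 by
      rw [show (8 : K) = 2 * 2 * 2 by norm_num]; exact mul_ne_zero (mul_ne_zero h2 h2) h2)
      (by linear_combination (norm := module) hw')
    exact nscal _ (-2) gr2 (hu.trans hu2)
  · exfalso
    obtain ⟨x0, -, -, -⟩ := qv_inj h2 h.frame ((gX.smul _).add Cen.one).neg z z z (Cen.one.smul _) z z z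
      ((h0.symm.trans ee).trans (qv_scalar _))
    refine hX2 ?_
    linear_combination (norm := skip) (-2 : K) • x0
    match_scalars <;> field_simp <;> ring
  · exfalso
    rw [h0, qv_mul h.frame ((gX.smul _).add Cen.one).neg z z z] at ee
    simp only [mul_zero, zero_mul, sub_zero, add_zero, zero_add] at ee
    obtain ⟨x0, -, -, -⟩ := qv_inj h2 h.frame (((gX.smul _).add Cen.one).neg.mul ((gX.smul _).add Cen.one).neg)
      z z z (Cen.one.smul _) z z z (ee.trans (qv_scalar _))
    simp only [neg_mul_neg, add_mul, mul_add, smul_mul_assoc, mul_smul_comm, one_mul, mul_one, smul_smul] at x0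
    refine hX2 (smul_cancel (show (8 : K) ≠ 0 by
      rw [show (8 : K) = 2 * 2 * 2 by norm_num]; exact mul_ne_zero (mul_ne_zero h2 h2) h2) ?_)
    linear_combination (norm := skip) (4 : K) • x0 + (-1 : K) • hc1
    match_scalars <;> field_simp <;> ring

/-- An adjacent pair gives a frame with diagonals in `P`. -/
theorem exists_base {r s : R} (hr : r ∈ P) (hs : s ∈ P) (hrs : r * s + s * r = (2 : K) • (1 : R)) :
    ∃ i j k, Base P i j k := by
  have n4 := four_ne (K := K) h2
  set i := (2 : K)⁻¹ • (r + s) with hi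
  set j := (4 : K)⁻¹ • (r - s + r * s - 1) with hj
  set k := (4 : K)⁻¹ • (r - s - r * s + 1) with hk
  have r1 : r * r = (-3 : K) • (1 : R) := hP.sq r hr
  have r2 : s * s = (-3 : K) • (1 : R) := hP.sq s hs
  have r3 : s * r = (2 : K) • (1 : R) - r * s := by rw [← hrs]; abel
  have r4 : r * (r * s) = (-3 : K) • s := by rw [← mul_assoc, r1, smul_mul_assoc, one_mul]
  have r5 : s * (r * s) = (2 : K) • s + (3 : K) • r := by
    rw [← mul_assoc, r3, sub_mul, smul_mul_assoc, one_mul, mul_assoc, r2, mul_smul_comm, mul_one]; module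
  have hF : IsFrame i j k := by
    constructor <;>
      simp only [hi, hj, hk, smul_mul_assoc, mul_smul_comm, add_mul, mul_add, sub_mul, mul_sub, one_mul, mul_one,
        mul_assoc, r1, r2, r3, r4, r5, smul_add, smul_sub, smul_smul] <;>
      match_scalars <;> field_simp <;> ring
  have er : r = qv i j k 0 1 1 1 := by
    simp only [qv, hi, hj, hk, mul_one]
    match_scalars <;> field_simp <;> ring
  have es : s = qv i j k 0 1 (-1) (-1) := by
    simp only [qv, hi, hj, hk, mul_one, mul_neg]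
    match_scalars <;> field_simp <;> ring
  have o := (Cen.one : Cen i j (1 : R))
  have zc := (Cen.zero : Cen i j (0 : R))
  have calc' : ∀ q : R, q = 1 ∨ q = -1 → qv i j k (-1) q q q * qv i j k 0 1 (-1) (-1) * qv i j k (-1) (-q) (-q) (-q) =
      (4 : K) • qv i j k 0 (-1) (-q) q := by
    intro q hq
    have gq : Cen i j q := by rcases hq with rfl | rfl; exacts [o, o.neg]
    rw [qv_mul hF o.neg gq gq gq, qv_mul hF (((((o.neg).mul zc).sub (gq.mul o)).sub (gq.mul o.neg)).sub (gq.mul o.neg))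
      (((((o.neg).mul o).add (gq.mul zc)).add (gq.mul o.neg)).sub (gq.mul o.neg))
      (((((o.neg).mul o.neg).sub (gq.mul o.neg)).add (gq.mul zc)).add (gq.mul o))
      (((((o.neg).mul o.neg).add (gq.mul o.neg)).sub (gq.mul o)).add (gq.mul zc)), qv_smul]
    rcases hq with rfl | rfl <;>
      simp only [neg_mul, one_mul, mul_neg, mul_one, mul_zero, smul_neg, neg_neg] <;>
      congr 1 <;> module
  refine ⟨i, j, k, hF, er ▸ hr, es ▸ hs, ?_, ?_⟩
  · have := hP.conj _ (hP.neg _ hr) _ hs
    rw [er, es, qv_neg, neg_zero,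
      show qv i j k (0 : R) (-1) (-1) (-1) - 1 = qv i j k (-1) (-1) (-1) (-1) by simp [qv]; abel,
      show -qv i j k (0 : R) (-1) (-1) (-1) - 1 = qv i j k (-1) (-(-1)) (-(-1)) (-(-1)) by simp [qv]; abel,
      calc' (-1) (Or.inr rfl), inv_smul_smul₀ n4, neg_neg] at this
    exact this
  · have := hP.conj _ hr _ hs
    rw [er, es, show qv i j k (0 : R) 1 1 1 - 1 = qv i j k (-1) 1 1 1 by simp [qv]; abel,
      show -qv i j k (0 : R) 1 1 1 - 1 = qv i j k (-1) (-1) (-1) (-1) by simp [qv]; abel,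
      calc' 1 (Or.inl rfl), inv_smul_smul₀ n4] at this
    exact this

/-- All of `P` lies in a quaternion algebra over the ring generated by one element. -/
theorem exists_quaternion (hR : (1 : R) ≠ 0) (h : Base P i j k) :
    ∃ e, Cen i j e ∧ ∀ z ∈ P, ∃ v₁ ∈ Algebra.adjoin K ({e} : Set R), ∃ v₂ ∈ Algebra.adjoin K ({e} : Set R),
      ∃ v₃ ∈ Algebra.adjoin K ({e} : Set R), z = qv i j k 0 v₁ v₂ v₃ := by
  have hsc : ∀ (e : R) (c : K), c • (1 : R) ∈ Algebra.adjoin K ({e} : Set R) := fun e c =>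
    Subalgebra.smul_mem _ (one_mem _) c
  by_cases hex : ∃ e, Cen i j e ∧ e * e = (5 : K) • (1 : R) ∧ nf K i j k e ∈ P
  · obtain ⟨e, ge, he5, hpe⟩ := hex
    refine ⟨e, ge, fun z hz => ?_⟩
    rcases exists_param hP h2 h3 hR h hz with ⟨c₁, c₂, c₃, rfl⟩ | ⟨f, gf, hf5, hpf, rest⟩
    · exact ⟨_, hsc e c₁, _, hsc e c₂, _, hsc e c₃, rfl⟩
    · rwa [param_unique hP h2 h3 hR h ge gf he5 hf5 hpe hpf] at rest
  · refine ⟨0, Cen.zero, fun z hz => ?_⟩
    rcases exists_param hP h2 h3 hR h hz with ⟨c₁, c₂, c₃, rfl⟩ | ⟨f, gf, hf5, hpf, -⟩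
    · exact ⟨_, hsc 0 c₁, _, hsc 0 c₂, _, hsc 0 c₃, rfl⟩
    · exact absurd ⟨f, gf, hf5, hpf⟩ hex

end Cfsg.Lib.Perm.Zas25
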