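import Cfsg.Agent.Lib.Perm.Zas25.Embed
import Cfsg.Agent.Lib.Perm.Zas25.Polyhedral
import Cfsg.Agent.Lib.Perm.Zas25.Quaternion

/-!
# Elements of order three in a group of fixed-point-free linear maps

They generate a cyclic group, `SL(2, 3)` or a non-solvable group of order `120`.
-/

set_option autoImplicit false
set_option linter.style.haveILetI false

namespace Cfsg.Lib.Perm.Zas25

universe u v

variable {l : ℕ} [Fact l.Prime] {V : Type v} [AddCommGroup V] [Module (ZMod l) V] [Finite V] [Nontrivial V]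
  {G : Type u} [Group G] [Finite G] (ρ : G →* Module.End (ZMod l) V)
  (hfpf : ∀ g : G, g ≠ 1 → ∀ v : V, ρ g v = v → v = 0)
include hfpf

theorem rep_injective : Function.Injective ρ := by
  rw [injective_iff_map_eq_one]
  intro g hg
  by_contra h
  obtain ⟨v, hv⟩ := exists_ne (0 : V)
  exact hv (hfpf g h v (by rw [hg]; rfl))

theorem cancel {g : G} (hg : g ≠ 1) {x : Module.End (ZMod l) V} (h : (ρ g - 1) * x = 0) : x = 0 :=
  LinearMap.ext fun v => hfpf g hg _ (sub_eq_zero.mp (LinearMap.congr_fun h v))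

theorem not_dvd_card : ¬ l ∣ Nat.card G := by
  intro h
  obtain ⟨g, hg⟩ := exists_prime_orderOf_dvd_card' (G := G) l h
  have hg1 : g ≠ 1 := fun e => by rw [e, orderOf_one] at hg; exact (Fact.out : l.Prime).one_lt.ne hg
  haveI : Nontrivial (Module.End (ZMod l) V) := by
    obtain ⟨v, hv⟩ := exists_ne (0 : V)
    exact nontrivial_of_ne 1 0 fun e => hv (LinearMap.congr_fun e v)
  haveI : CharP (Module.End (ZMod l) V) l := by
    refine (CharP.charP_iff_prime_eq_zero Fact.out).mpr (LinearMap.ext fun v => ?_)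
    show ((l : Module.End (ZMod l) V)) v = 0
    simp [← Nat.cast_smul_eq_nsmul (R := ZMod l)]
  have h0 : ∀ n : ℕ, (ρ g - 1) ^ n = 0 → (1 : Module.End (ZMod l) V) = 0 := by
    intro n
    induction n with
    | zero => intro h; rwa [pow_zero] at h
    | succ n ih => intro h; rw [pow_succ'] at h; exact ih (cancel ρ hfpf hg1 h)
  exact one_ne_zero (h0 l (by
    rw [sub_pow_char_of_commute l (Commute.one_right (ρ g)), one_pow,
      ← map_pow]
    have hgl := pow_orderOf_eq_one g
    rw [hg] at hgl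
    rw [hgl, map_one, sub_self]))

theorem rel_three {x : G} (hx : x ^ 3 = 1) (hx1 : x ≠ 1) : ρ x * ρ x + ρ x + 1 = 0 := by
  refine cancel ρ hfpf hx1 ?_
  have h : ρ x * (ρ x * ρ x) = 1 := by rw [← map_mul, ← map_mul, ← pow_three, hx, map_one]
  simp only [sub_mul, mul_add, one_mul, mul_one, h]
  abel

theorem neg_one_of_involution {z : G} (hz : z * z = 1) (hz1 : z ≠ 1) : ρ z = -1 := by
  refine eq_neg_iff_add_eq_zero.mpr (cancel ρ hfpf hz1 ?_)
  rw [sub_mul, mul_add, ← map_mul, hz, map_one, mul_one, one_mul]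
  abel

/-- Commuting elements of order three generate the same subgroup. -/
theorem eq_of_comm {x y : G} (hx : x ^ 3 = 1) (hx1 : x ≠ 1) (hy : y ^ 3 = 1) (hy1 : y ≠ 1)
    (h : x * y = y * x) : y = x ∨ y = x ^ 2 := by
  by_cases he : y = x
  · exact Or.inl he
  right
  have hxy : ρ x * ρ y = ρ y * ρ x := by rw [← map_mul, ← map_mul, h]
  have hx2 : ρ x * ρ x = -ρ x - 1 := by
    rw [← sub_eq_zero, ← rel_three ρ hfpf hx hx1]; abel
  have hy2 : ρ y * ρ y = -ρ y - 1 := by
    rw [← sub_eq_zero, ← rel_three ρ hfpf hy hy1]; abel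
  have hx3 : x * x⁻¹ = 1 := mul_inv_cancel x
  have hprod : (ρ (y * x⁻¹) - 1) * (ρ x * (ρ y - ρ x * ρ x)) = 0 := by
    rw [← mul_assoc, sub_mul, one_mul, ← map_mul, inv_mul_cancel_right]
    simp only [sub_mul, mul_sub, hy2, ← mul_assoc]
    rw [← hxy]
    simp only [mul_assoc, hx2, mul_sub, mul_neg, mul_one, sub_mul, neg_mul, one_mul, hxy]
    simp only [← mul_assoc, hx2, mul_sub, mul_neg, mul_one, sub_mul, neg_mul, one_mul, ← hxy]
    abel
  have h1 := cancel ρ hfpf (fun e => he (mul_inv_eq_one.mp e)) hprod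
  have h2 := congrArg (fun z => ρ x⁻¹ * z) h1
  simp only [mul_zero, ← mul_assoc, ← map_mul, inv_mul_cancel, map_one, one_mul] at h2
  exact rep_injective ρ hfpf ((sub_eq_zero.mp h2).trans (by rw [map_mul]; exact (congrArg ρ (pow_two x)).symm ▸ (map_mul ρ x x).symm))

/-- The vector attached to an element of order three. -/
def pv (x : G) : Module.End (ZMod l) V := (2 : ZMod l) • ρ x + 1

variable (h2 : (2 : ZMod l) ≠ 0) (h3 : (3 : ZMod l) ≠ 0)
include h2 h3

omit h2 h3 in
theorem pv_sq {x : G} (hx : x ^ 3 = 1) (hx1 : x ≠ 1) : pv ρ x * pv ρ x = (-3 : ZMod l) • 1 := by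
  simp only [pv, add_mul, mul_add, smul_mul_assoc, mul_smul_comm, one_mul, mul_one, smul_smul]
  linear_combination (norm := module) (4 : ZMod l) • rel_three ρ hfpf hx hx1

omit h2 h3 in
theorem pv_inv {x : G} (hx : x ^ 3 = 1) (hx1 : x ≠ 1) : pv ρ (x ^ 2) = -pv ρ x := by
  simp only [pv, pow_two, map_mul]
  linear_combination (norm := module) (2 : ZMod l) • rel_three ρ hfpf hx hx1

omit h2 h3 in
/-- The anticommutator in terms of the product. -/
theorem anti_eq {x y : G} (hx : x ^ 3 = 1) (hx1 : x ≠ 1) (hy : y ^ 3 = 1) (hy1 : y ≠ 1) :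
    pv ρ x * pv ρ y + pv ρ y * pv ρ x = (4 : ZMod l) • (ρ (x * y) + ρ (x * y)⁻¹) - (2 : ZMod l) • 1 := by
  have hinv : (x * y)⁻¹ = (y * y) * (x * x) := inv_eq_of_mul_eq_one_right (by
    have hy' : y * (y * y) = 1 := by rw [← pow_three]; exact hy
    have hx' : x * (x * x) = 1 := by rw [← pow_three]; exact hx
    rw [mul_assoc, ← mul_assoc y, hy', one_mul, hx'])
  have hyy : ρ y * ρ y = -ρ y - 1 := by rw [← sub_eq_zero, ← rel_three ρ hfpf hy hy1]; abel
  have hxx : ρ x * ρ x = -ρ x - 1 := by rw [← sub_eq_zero, ← rel_three ρ hfpf hx hx1]; abel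
  rw [hinv, map_mul ρ (y * y), map_mul ρ y y, map_mul ρ x x, map_mul, hxx, hyy]
  simp only [pv, add_mul, mul_add, sub_mul, mul_sub, neg_mul, mul_neg, smul_mul_assoc, mul_smul_comm, one_mul,
    mul_one, smul_smul]
  module

/-- The traces of the admissible orders. -/
theorem trace_cases {g : G} (hg1 : g ≠ 1) (hg2 : g * g ≠ 1) (h : g ^ 4 = 1 ∨ g ^ 6 = 1 ∨ g ^ 10 = 1) :
    ρ g + ρ g⁻¹ = -1 ∨ ρ g + ρ g⁻¹ = 0 ∨ ρ g + ρ g⁻¹ = 1 ∨
      (ρ g + ρ g⁻¹) * (ρ g + ρ g⁻¹) + (ρ g + ρ g⁻¹) - 1 = 0 ∨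
      (ρ g + ρ g⁻¹) * (ρ g + ρ g⁻¹) - (ρ g + ρ g⁻¹) - 1 = 0 := by
  set u := ρ g with hu
  have hinv : ∀ n : ℕ, g ^ (n + 1) = 1 → ρ g⁻¹ = u ^ n := by
    intro n hn
    rw [hu, ← map_pow, inv_eq_of_mul_eq_one_left (by rw [← pow_succ]; exact hn)]
  have hneg : ∀ n : ℕ, g ^ n * g ^ n = 1 → g ^ n ≠ 1 → u ^ n = -1 := fun n a b => by
    rw [hu, ← map_pow]; exact neg_one_of_involution ρ hfpf a b
  rcases h with h | h | h
  · -- order four
    have e2 : u ^ 2 = -1 := hneg 2 (by rw [← pow_add]; exact h) (by rw [pow_two]; exact hg2)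
    refine Or.inr (Or.inl ?_)
    rw [hinv 3 h, pow_succ, e2, neg_one_mul, add_neg_cancel]
  · by_cases h3' : g ^ 3 = 1
    · refine Or.inl ?_
      rw [hinv 2 h3', pow_two, eq_neg_iff_add_eq_zero, ← rel_three ρ hfpf h3' hg1]
      abel
    · -- order six
      have e3 : u ^ 3 = -1 := hneg 3 (by rw [← pow_add]; exact h) h3'
      have hne : g ^ 4 ≠ 1 := fun e => hg2 (by
        rw [← pow_two, show (2 : ℕ) = 6 - 4 by rfl, pow_sub g (by norm_num), h, e, inv_one, mul_one])
      have e4 : u ^ 4 = -u := by rw [pow_succ, e3, neg_one_mul]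
      have hcan : u * u - u + 1 = 0 := by
        refine cancel ρ hfpf hne ?_
        rw [map_pow, ← hu, e4, sub_mul, one_mul, neg_mul]
        simp only [mul_add, mul_sub, mul_one]
        rw [show u * (u * u) = -1 by rw [← e3, pow_three]]
        abel
      refine Or.inr (Or.inr (Or.inl ?_))
      rw [hinv 5 h, show u ^ 5 = u ^ 3 * (u * u) by rw [← pow_two, ← pow_add], e3, neg_one_mul]
      linear_combination (norm := module) (-1 : ZMod l) • hcan
  · by_cases h5' : g ^ 5 = 1
    · have hphi : u * u * u * u + u * u * u + u * u + u + 1 = 0 := by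
        refine cancel ρ hfpf hg1 ?_
        have : u * (u * (u * (u * u))) = 1 := by
          rw [hu, ← map_mul, ← map_mul, ← map_mul, ← map_mul, ← map_one ρ, ← h5']
          congr 1; simp only [pow_succ, pow_zero, one_mul, mul_assoc]
        simp only [← hu, sub_mul, mul_add, one_mul, mul_one, mul_assoc, this]
        abel
      refine Or.inr (Or.inr (Or.inr (Or.inl ?_)))
      have h5u : u ^ 5 = 1 := by rw [hu, ← map_pow, h5', map_one]
      rw [hinv 4 h5', show (u + u ^ 4) * (u + u ^ 4) = u * u + (2 : ZMod l) • 1 + u * u * u by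
        simp only [add_mul, mul_add, ← pow_succ, ← pow_succ', ← pow_add]
        rw [h5u, show u ^ (4 + 4) = u ^ 5 * u ^ 3 by rw [← pow_add], h5u, one_mul]
        simp only [pow_succ, pow_zero, one_mul, mul_assoc]
        module]
      rw [show u ^ 4 = u * u * u * u by simp only [pow_succ, pow_zero, one_mul]]
      linear_combination (norm := module) hphi
    · have e5 : u ^ 5 = -1 := hneg 5 (by rw [← pow_add]; exact h) h5'
      have hne : g ^ 6 ≠ 1 := fun e => by
        have e4 : g ^ 4 = 1 := by rw [show (4 : ℕ) = 10 - 6 by rfl, pow_sub g (by norm_num), h, e, inv_one, mul_one]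
        exact hg2 (by rw [← pow_two, show (2 : ℕ) = 6 - 4 by rfl, pow_sub g (by norm_num), e, e4, inv_one, mul_one])
      have e6 : u ^ 6 = -u := by rw [pow_succ, e5, neg_one_mul]
      have h55 : u * (u * (u * (u * u))) = -1 := by
        rw [← e5]; simp only [pow_succ, pow_zero, one_mul, mul_assoc]
      have hphi : u * u * u * u - u * u * u + u * u - u + 1 = 0 := by
        refine cancel ρ hfpf hne ?_
        rw [map_pow, ← hu, e6, sub_mul, one_mul, neg_mul]
        simp only [mul_add, mul_sub, mul_one, mul_assoc, h55]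
        abel
      refine Or.inr (Or.inr (Or.inr (Or.inr ?_)))
      rw [hinv 9 h, show u ^ 9 = -u ^ 4 by rw [show u ^ 9 = u ^ 5 * u ^ 4 by rw [← pow_add], e5, neg_one_mul],
        show (u + -u ^ 4) * (u + -u ^ 4) = u * u + (2 : ZMod l) • 1 - u * u * u by
          simp only [add_mul, mul_add, neg_mul, mul_neg, neg_neg, ← pow_succ, ← pow_succ', ← pow_add]
          rw [e5, show u ^ (4 + 4) = u ^ 5 * u ^ 3 by rw [← pow_add], e5, neg_one_mul]
          simp only [pow_succ, pow_zero, one_mul, mul_assoc]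
          module]
      rw [show u ^ 4 = u * u * u * u by simp only [pow_succ, pow_zero, one_mul]]
      linear_combination (norm := module) hphi

set_option maxHeartbeats 2000000 in
/-- The embedding and the list of polyhedral groups combined. -/
theorem rank_four (S : Set G) (hne : S.Nonempty) (hS3 : ∀ x ∈ S, x ^ 3 = 1)
    (hSc : ∀ x ∈ S, ∃ y ∈ S, x * y ≠ y * x) (C : Subalgebra (ZMod l) (Module.End (ZMod l) V))
    (hCc : ∀ c ∈ C, ∀ d ∈ C, c * d = d * c) (a b : Module.End (ZMod l) V) (ha : ∀ c ∈ C, a * c = c * a)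
    (hb : ∀ c ∈ C, b * c = c * b) (haa : a * a ∈ C) (hbb : b * b ∈ C) (hab : a * b + b * a ∈ C)
    (hspan : ∀ x ∈ S, ∃ c₀ ∈ C, ∃ c₁ ∈ C, ∃ c₂ ∈ C, ∃ c₃ ∈ C, ρ x = c₀ + c₁ * a + c₂ * b + c₃ * (a * b)) :
    ((Nat.card (Subgroup.closure S) = 24 ∧ Group.IsSolvable (Subgroup.closure S)) ∨
      (Nat.card (Subgroup.closure S) = 120 ∧ ¬ Group.IsSolvable (Subgroup.closure S))) ∧
      ∀ g ∈ Subgroup.closure S, g ^ 4 = 1 ∨ g ^ 6 = 1 ∨ g ^ 10 = 1 := by
  have hl : l ≠ 2 := fun e => by subst e; exact h2 (by exact_mod_cast ZMod.natCast_self 2)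
  obtain ⟨E, i1, i2, i3, f, hf⟩ := exists_sl_embedding hl ρ hfpf S hne hS3 hSc C.toSubring hCc a b ha hb haa hbb hab hspan
  haveI := i3
  have hcop : ¬ l ∣ Nat.card (Subgroup.closure S) :=
    fun h => not_dvd_card ρ hfpf (h.trans (Subgroup.card_subgroup_dvd_card _))
  let T : Set (Subgroup.closure S) := {x | (x : G) ∈ S}
  have hT : Subgroup.closure T = ⊤ := Subgroup.closure_closure_coe_preimage
  have hT3 : ∀ z ∈ T, z ^ 3 = 1 := fun z hz => Subtype.ext (by rw [SubgroupClass.coe_pow]; exact hS3 _ hz)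
  rcases polyhedral (l := l) hl f hf hcop T hT hT3 with hc | ⟨h, hg⟩
  · exfalso
    obtain ⟨x, hx⟩ := hne
    obtain ⟨y, hy, hxy⟩ := hSc x hx
    exact hxy (congrArg Subtype.val (hc ⟨x, Subgroup.subset_closure hx⟩ ⟨y, Subgroup.subset_closure hy⟩))
  · exact ⟨h, fun g hgm => (hg ⟨g, hgm⟩).imp (congrArg Subtype.val) (Or.imp (congrArg Subtype.val) (congrArg Subtype.val))⟩

set_option maxHeartbeats 4000000 in
/-- The pair rule for noncommuting elements of order three. -/
theorem pair_rule {x y : G} (hx : x ^ 3 = 1) (hy : y ^ 3 = 1) (hxy : x * y ≠ y * x) :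
    pv ρ x * pv ρ y + pv ρ y * pv ρ x = (2 : ZMod l) • 1 ∨ pv ρ x * pv ρ y + pv ρ y * pv ρ x = (-2 : ZMod l) • 1 ∨
      (pv ρ x * pv ρ y + pv ρ y * pv ρ x) * (pv ρ x * pv ρ y + pv ρ y * pv ρ x) = (20 : ZMod l) • 1 := by
  have hl : l ≠ 2 := fun e => by subst e; exact h2 (by exact_mod_cast ZMod.natCast_self 2)
  have hx1 : x ≠ 1 := fun e => hxy (by rw [e, one_mul, mul_one])
  have hy1 : y ≠ 1 := fun e => hxy (by rw [e, one_mul, mul_one])
  have hord : ∀ y : G, y ^ 3 = 1 → x * y ≠ y * x →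
      (x * y) ≠ 1 ∧ (x * y) * (x * y) ≠ 1 ∧ ((x * y) ^ 4 = 1 ∨ (x * y) ^ 6 = 1 ∨ (x * y) ^ 10 = 1) := by
    intro y hy hxy
    have hy1 : y ≠ 1 := fun e => hxy (by rw [e, one_mul, mul_one])
    refine ⟨fun e => hxy (by rw [e, eq_inv_of_mul_eq_one_left e, mul_inv_cancel]), fun e => ?_, ?_⟩
    · have hz := neg_one_of_involution ρ hfpf e (fun e' => hxy (by rw [e', eq_inv_of_mul_eq_one_left e', mul_inv_cancel]))
      rw [map_mul] at hz
      refine hxy (rep_injective ρ hfpf ?_)
      rw [map_mul, map_mul, hz]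
      have hyx : ρ y = -(ρ x * ρ x) := by
        have := congrArg (fun t => ρ x * ρ x * t) hz
        simp only [← mul_assoc, mul_neg, mul_one] at this
        rw [← this, show ρ x * ρ x * ρ x = 1 by rw [← map_mul, ← map_mul, mul_assoc, ← pow_three, hx, map_one]] <;> simp
      rw [hyx, neg_mul, mul_assoc, show ρ x * (ρ x * ρ x) = 1 by rw [← map_mul, ← map_mul, ← pow_three, hx, map_one]]
    · let C := (Algebra.adjoin (ZMod l) ({pv ρ x * pv ρ y + pv ρ y * pv ρ x} : Set (Module.End (ZMod l) V)))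
      have hC1 : ∀ r : ZMod l, r • (1 : Module.End (ZMod l) V) ∈ C := fun r =>
        Subalgebra.smul_mem _ (one_mem _) r
      have hcen : ∀ z : Module.End (ZMod l) V, z * z = (-3 : ZMod l) • 1 →
          (z = pv ρ x ∨ z = pv ρ y) → ∀ c ∈ C, z * c = c * z := by
        intro z hz hz' c hc
        refine (Algebra.commute_of_mem_adjoin_of_forall_mem_commute (R := ZMod l) hc fun b hb => ?_).eq
        obtain rfl : b = _ := hb
        have e : ∀ p q : Module.End (ZMod l) V, p * p = (-3 : ZMod l) • 1 → Commute p (p * q + q * p) := fun p q hp => by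
          show p * (p * q + q * p) = (p * q + q * p) * p
          rw [mul_add, add_mul, mul_assoc q p p, ← mul_assoc p p q, hp, smul_mul_assoc, one_mul, mul_smul_comm,
            mul_one, mul_assoc p q p, add_comm]
        rcases hz' with rfl | rfl
        · exact e _ _ hz
        · rw [add_comm]; exact e _ _ hz
      obtain ⟨-, hrf⟩ := rank_four ρ hfpf h2 h3 {x, y} ⟨x, Or.inl rfl⟩
        (by rintro z (rfl | rfl) <;> assumption)
        (by rintro z (rfl | rfl)
            · exact ⟨y, Or.inr rfl, hxy⟩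
            · exact ⟨x, Or.inl rfl, fun e => hxy e.symm⟩)
        C (fun c hc d hd => by
          refine (Algebra.commute_of_mem_adjoin_of_forall_mem_commute (R := ZMod l) hd fun b hb => ?_).eq
          obtain rfl : b = _ := hb
          exact (Algebra.commute_of_mem_adjoin_of_forall_mem_commute (R := ZMod l) hc fun b' hb' => by
            obtain rfl : b' = _ := hb'
            exact Commute.refl _).symm)
        (pv ρ x) (pv ρ y) (hcen _ (pv_sq ρ hfpf hx hx1) (Or.inl rfl)) (hcen _ (pv_sq ρ hfpf hy hy1) (Or.inr rfl))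
        (by rw [pv_sq ρ hfpf hx hx1]; exact hC1 _) (by rw [pv_sq ρ hfpf hy hy1]; exact hC1 _)
        (Algebra.subset_adjoin rfl)
        (by
          rintro z (rfl | rfl)
          · refine ⟨(-(2 : ZMod l)⁻¹) • 1, hC1 _, (2 : ZMod l)⁻¹ • 1, hC1 _, 0, zero_mem _, 0, zero_mem _, ?_⟩
            simp only [zero_mul, add_zero, smul_mul_assoc, one_mul, pv, smul_add, smul_smul, inv_mul_cancel₀ h2]
            module
          · refine ⟨(-(2 : ZMod l)⁻¹) • 1, hC1 _, 0, zero_mem _, (2 : ZMod l)⁻¹ • 1, hC1 _, 0, zero_mem _, ?_⟩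
            simp only [zero_mul, add_zero, smul_mul_assoc, one_mul, pv, smul_add, smul_smul, inv_mul_cancel₀ h2]
            module)
      exact hrf (x * y) (mul_mem (Subgroup.subset_closure (Or.inl rfl)) (Subgroup.subset_closure (Or.inr rfl)))
  have hy' : (y ^ 2) ^ 3 = 1 := by rw [← pow_mul, pow_mul' y 2 3, hy, one_pow]
  have hxy' : x * y ^ 2 ≠ y ^ 2 * x := fun e => hxy (by
    have h4 : y = (y ^ 2) ^ 2 := by rw [← pow_mul, show 2 * 2 = 3 + 1 by rfl, pow_add, hy, one_mul, pow_one]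
    rw [h4]
    exact ((show Commute x (y ^ 2) from e).pow_right 2).eq)
  obtain ⟨a1, a2, a3⟩ := hord y hy hxy
  obtain ⟨b1, b2, b3⟩ := hord _ hy' hxy'
  have hA := anti_eq ρ hfpf hx hx1 hy hy1
  have hB := anti_eq ρ hfpf hx hx1 hy' (fun e => hy1 (by
    have : y ^ 3 = y ^ 2 * y := pow_succ y 2
    rw [hy, e, one_mul] at this
    exact this.symm))
  rw [pv_inv ρ hfpf hy hy1, mul_neg, neg_mul, ← neg_add, hA] at hB
  set T := ρ (x * y) + ρ (x * y)⁻¹ with hT
  set T' := ρ (x * y ^ 2) + ρ (x * y ^ 2)⁻¹ with hT'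
  have hsum : T' = 1 - T := smul_cancel (four_ne h2) (by linear_combination (norm := module) (-1 : ZMod l) • hB)
  rw [hA]
  haveI : Nontrivial (Module.End (ZMod l) V) := by
    obtain ⟨v, hv⟩ := exists_ne (0 : V)
    exact nontrivial_of_ne 1 0 fun e => hv (LinearMap.congr_fun e v)
  have n1 : ∀ {a : ZMod l}, a ≠ 0 → a • (1 : Module.End (ZMod l) V) ≠ 0 := fun ha hh =>
    one_ne_zero (smul_cancel ha (hh.trans (smul_zero _).symm))
  have not_neg_one : ∀ {g : G}, g ≠ 1 → ρ g + ρ g⁻¹ ≠ (2 : ZMod l) • 1 := fun {g} hg hh => by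
    have h0 : ρ g - 1 = 0 := cancel ρ hfpf hg (by
      have := congrArg (fun t => ρ g * t) hh
      simp only [mul_add, ← map_mul, mul_inv_cancel, map_one, mul_smul_comm, mul_one] at this
      rw [map_mul] at this
      simp only [sub_mul, mul_sub, one_mul, mul_one]
      linear_combination (norm := module) this)
    exact hg (rep_injective ρ hfpf (by rw [sub_eq_zero.mp h0, map_one]))
  rcases trace_cases ρ hfpf h2 h3 a1 a2 a3 with e | e | e | e | e <;> rw [← hT] at e
  · exfalso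
    refine not_neg_one b1 ?_
    rw [← hT', hsum, e]
    module
  · exact Or.inr (Or.inl (by rw [e]; module))
  · exact Or.inl (by rw [e]; module)
  · exfalso
    rcases trace_cases ρ hfpf h2 h3 b1 b2 b3 with e' | e' | e' | e' | e' <;> rw [← hT', hsum] at e'
    · refine not_neg_one a1 ?_
      rw [← hT]
      linear_combination (norm := module) (-1 : ZMod l) • e'
    · rw [show T = 1 by rw [← sub_eq_zero, ← neg_eq_zero, ← e']; abel] at e
      simp only [mul_one, add_sub_cancel_right] at e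
      exact one_ne_zero e
    · rw [show T = 0 by rw [← neg_eq_zero, ← sub_eq_zero.mpr e']; abel] at e
      simp at e
    · simp only [mul_sub, sub_mul, mul_one, one_mul] at e'
      have hh : T = (2 : ZMod l)⁻¹ • 1 := smul_cancel (four_ne h2) (by
        rw [smul_smul, show (4 : ZMod l) * 2⁻¹ = 2 by
          rw [show (4 : ZMod l) = 2 * 2 by norm_num, mul_assoc, mul_inv_cancel₀ h2, mul_one]]
        linear_combination (norm := module) e - e')
      rw [hh, smul_mul_assoc, one_mul, smul_smul] at e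
      refine n1 (inv_ne_zero (four_ne h2)) ?_
      linear_combination (norm := skip) (-1 : ZMod l) • e
      have h4' := four_ne (K := ZMod l) h2
      match_scalars
      field_simp
      ring
    · simp only [mul_sub, sub_mul, mul_one, one_mul] at e'
      have hh : T = 0 := smul_cancel h2 (by linear_combination (norm := module) e - e')
      rw [hh] at e
      simp at e
  · refine Or.inr (Or.inr ?_)
    simp only [mul_sub, sub_mul, smul_mul_assoc, mul_smul_comm, mul_one, one_mul, smul_smul] at e ⊢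
    linear_combination (norm := module) (16 : ZMod l) • e

set_option maxHeartbeats 4000000 in
/-- The elements of order three generate a cyclic group, or a group of order `24` or `120`. -/
theorem closure_order_three (D : Set G) (hD : D = {x | x ^ 3 = 1 ∧ x ≠ 1})
    (hnc : ∃ x ∈ D, ∃ y ∈ D, x * y ≠ y * x) :
    (Nat.card (Subgroup.closure D) = 24 ∧ Group.IsSolvable (Subgroup.closure D)) ∨
      (Nat.card (Subgroup.closure D) = 120 ∧ ¬ Group.IsSolvable (Subgroup.closure D)) := by
  subst hD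
  set D : Set G := {x | x ^ 3 = 1 ∧ x ≠ 1} with hD
  have hl : l ≠ 2 := fun e => by subst e; exact h2 (by exact_mod_cast ZMod.natCast_self 2)
  have h4 := four_ne (K := ZMod l) h2
  have hR : (1 : Module.End (ZMod l) V) ≠ 0 := by
    obtain ⟨v, hv⟩ := exists_ne (0 : V)
    exact fun e => hv (LinearMap.congr_fun e v)
  have hP : PSet (ZMod l) (pv ρ '' D) := by
    refine ⟨?_, ?_, ?_, ?_⟩
    · rintro _ ⟨x, ⟨hx, hx1⟩, rfl⟩
      exact pv_sq ρ hfpf hx hx1
    · rintro _ ⟨x, ⟨hx, hx1⟩, rfl⟩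
      refine ⟨x ^ 2, ⟨by rw [← pow_mul, pow_mul' x 2 3, hx, one_pow], fun e => hx1 ?_⟩, pv_inv ρ hfpf hx hx1⟩
      have := pow_succ x 2
      rw [hx, e, one_mul] at this
      exact this.symm
    · rintro _ ⟨x, ⟨hx, hx1⟩, rfl⟩ _ ⟨y, ⟨hy, hy1⟩, rfl⟩
      refine ⟨x * y * x⁻¹, ⟨by rw [conj_pow, hy, mul_one, mul_inv_cancel], fun e => hy1 ?_⟩, ?_⟩
      · rwa [mul_inv_eq_one, mul_eq_left] at e
      · have hinv : x⁻¹ = x * x := inv_eq_of_mul_eq_one_right (by rw [← pow_three, hx])
        have e1 : pv ρ x - 1 = (2 : ZMod l) • ρ x := by rw [pv, add_sub_cancel_right]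
        have e2 : -pv ρ x - 1 = (2 : ZMod l) • (ρ x * ρ x) := by
          rw [pv]
          linear_combination (norm := module) (-2 : ZMod l) • rel_three ρ hfpf hx hx1
        rw [e1, e2, smul_mul_assoc, smul_mul_smul_comm, smul_smul, show (4 : ZMod l)⁻¹ * (2 * 2) = 1 by
          rw [show (2 : ZMod l) * 2 = 4 by norm_num, inv_mul_cancel₀ h4], one_smul, hinv]
        simp only [pv, map_mul, mul_add, add_mul, mul_smul_comm, smul_mul_assoc, mul_one]
        rw [← map_mul ρ x (x), ← map_mul ρ x (x * x), ← pow_three, hx, map_one]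
    · rintro _ ⟨x, ⟨hx, hx1⟩, rfl⟩ _ ⟨y, ⟨hy, hy1⟩, rfl⟩
      by_cases hxy : x * y = y * x
      · rcases eq_of_comm ρ hfpf hx hx1 hy hy1 hxy with rfl | rfl
        · exact Or.inl rfl
        · exact Or.inr (Or.inl (pv_inv ρ hfpf hx hx1))
      · exact Or.inr (Or.inr (pair_rule ρ hfpf h2 h3 hx hy hxy))
  -- an adjacent pair
  obtain ⟨r, hr, s, hs, hrs⟩ : ∃ r ∈ pv ρ '' D, ∃ s ∈ pv ρ '' D, r * s + s * r = (2 : ZMod l) • 1 := by
    obtain ⟨x, hx, y, hy, hxy⟩ := hnc
    have hp := Set.mem_image_of_mem (pv ρ) hx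
    have hq := Set.mem_image_of_mem (pv ρ) hy
    rcases pair_rule ρ hfpf h2 h3 hx.1 hy.1 hxy with e | e | e
    · exact ⟨_, hp, _, hq, e⟩
    · refine ⟨_, hp, _, hP.neg _ hq, ?_⟩
      rw [mul_neg, neg_mul, ← neg_add, e, neg_smul, neg_neg]
    · refine ⟨_, hp, _, hP.neg _ (hP.conj _ hq _ hp), ?_⟩
      set p := pv ρ x
      set q := pv ρ y
      have hpp : p * p = (-3 : ZMod l) • 1 := hP.sq _ hp
      have hqq : q * q = (-3 : ZMod l) • 1 := hP.sq _ hq
      set c := p * q + q * p with hc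
      have hqp : q * p = c - p * q := by rw [hc]; abel
      have e1 : (q - 1) * p * (-q - 1) = -(c * q) - (2 : ZMod l) • p + p * q - q * p := by
        simp only [sub_mul, mul_sub, mul_neg, one_mul, mul_one]
        rw [hqp, sub_mul, mul_assoc p q q, hqq, mul_smul_comm, mul_one]
        module
      have hpc : p * c = c * p := by
        rw [hc, mul_add, add_mul, ← mul_assoc, hpp, mul_assoc q p p, hpp, smul_mul_assoc, one_mul, mul_smul_comm,
          mul_one, mul_assoc, add_comm]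
      have e2 : p * ((q - 1) * p * (-q - 1)) + (q - 1) * p * (-q - 1) * p = (-8 : ZMod l) • 1 := by
        rw [e1]
        simp only [mul_add, add_mul, mul_sub, sub_mul, mul_neg, neg_mul, mul_smul_comm, smul_mul_assoc, hpp,
          ← mul_assoc, hpc]
        simp only [mul_assoc, hpp, mul_smul_comm, mul_one]
        have : c * (p * q) + c * (q * p) = (20 : ZMod l) • 1 := by rw [← mul_add, ← hc]; exact e
        linear_combination (norm := module) (-1 : ZMod l) • this
      rw [mul_neg, neg_mul, mul_smul_comm, smul_mul_assoc, ← neg_add, ← smul_add, e2, smul_smul, ← neg_smul]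
      congr 1
      field_simp
      ring
  obtain ⟨i, j, k, hB⟩ := exists_base hP h2 h3 hr hs hrs
  obtain ⟨e, ge, hspan⟩ := exists_quaternion hP h2 h3 hR hB
  let C := Algebra.adjoin (ZMod l) ({e} : Set (Module.End (ZMod l) V))
  have hC1 : ∀ r : ZMod l, r • (1 : Module.End (ZMod l) V) ∈ C := fun r =>
    Subalgebra.smul_mem _ (one_mem _) r
  have hcomm : ∀ z, Commute z e → ∀ c ∈ C, z * c = c * z := fun z hz c hc =>
    (Algebra.commute_of_mem_adjoin_of_forall_mem_commute (R := ZMod l) hc fun b hb => by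
      obtain rfl : b = _ := hb; exact hz).eq
  obtain ⟨h, -⟩ := rank_four ρ hfpf h2 h3 D
    (by obtain ⟨x, hx, -⟩ := hnc; exact ⟨x, hx⟩) (fun x hx => hx.1)
    (fun x hx => by
      by_contra hh
      push Not at hh
      obtain ⟨a, ha, b, hb, hab⟩ := hnc
      rcases eq_of_comm ρ hfpf hx.1 hx.2 ha.1 ha.2 (hh a ha) with rfl | rfl <;>
        rcases eq_of_comm ρ hfpf hx.1 hx.2 hb.1 hb.2 (hh b hb) with rfl | rfl
      all_goals first
        | exact hab rfl
        | exact hab (Commute.pow_right (Commute.refl _) 2).eq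
        | exact hab (Commute.pow_left (Commute.refl _) 2).eq)
    C (fun c hc d hd => hcomm c (hcomm e (Commute.refl e) c hc).symm d hd)
    i j (hcomm i ge.1.symm) (hcomm j ge.2.symm)
    (by rw [hB.frame.ii]; exact neg_mem (one_mem C)) (by rw [hB.frame.jj]; exact neg_mem (one_mem C))
    (by rw [hB.frame.ij, hB.frame.ji, add_neg_cancel]; exact zero_mem C)
    (fun x hx => by
      obtain ⟨v₁, m1, v₂, m2, v₃, m3, hv⟩ := hspan _ (Set.mem_image_of_mem (pv ρ) hx)
      refine ⟨(-(2 : ZMod l)⁻¹) • 1, hC1 _, (2 : ZMod l)⁻¹ • v₁, Subalgebra.smul_mem _ m1 _,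
        (2 : ZMod l)⁻¹ • v₂, Subalgebra.smul_mem _ m2 _, (2 : ZMod l)⁻¹ • v₃, Subalgebra.smul_mem _ m3 _, ?_⟩
      have c1 : i * v₁ = v₁ * i := hcomm i ge.1.symm v₁ m1
      have c2 : j * v₂ = v₂ * j := hcomm j ge.2.symm v₂ m2
      have c3 : k * v₃ = v₃ * (i * j) := by
        rw [← hB.frame.ij, mul_assoc, hcomm j ge.2.symm v₃ m3, ← mul_assoc, hcomm i ge.1.symm v₃ m3, mul_assoc]
      rw [pv, qv, zero_add, c1, c2, c3] at hv
      simp only [smul_mul_assoc]
      have hx' : ρ x = (2 : ZMod l)⁻¹ • (v₁ * i + v₂ * j + v₃ * (i * j) - 1) := by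
        rw [← hv, add_sub_cancel_right, inv_smul_smul₀ h2]
      rw [hx']
      module)
  exact h

end Cfsg.Lib.Perm.Zas25
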