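import Cfsg.Agent.Lib.Perm.Zas25.SixTypes
import Cfsg.Agent.Lib.Perm.Zas25.MetaPres
import Cfsg.Agent.Lib.Perm.NearFieldSolvable
import Cfsg.Agent.S2879
import Cfsg.Agent.S3379

/-!
# Solvable linear groups regular on the non-zero vectors
-/

set_option autoImplicit false
set_option linter.style.haveILetI false

namespace Cfsg.Lib.Perm.Zas25

universe u v

/-- A `Z`-group of even order has a subgroup of index two. -/
theorem zgroup_index_two {G : Type u} [Group G] [Finite G] [IsZGroup G] (h2 : 2 ∣ Nat.card G) :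
    ∃ N : Subgroup G, N.Normal ∧ N.index = 2 := by
  obtain ⟨x, y, n, m, r, hgen, hn, hm, hrel, hr1, hnm, hr, hrn⟩ :=
    Cfsg.Agent.S3379.result (G := G) (fun p hp P => IsZGroup.isZGroup p hp.out P)
  obtain ⟨e⟩ := meta_presented_iso x y n m r hgen hn hm hrel hnm
  have hm0 : 0 < m := hm ▸ orderOf_pos y
  have hn0 : 0 < n := hn ▸ orderOf_pos x
  have hmodd : ¬ 2 ∣ m := by
    intro hm2
    have hrodd : r % 2 = 1 := by
      rcases Nat.mod_two_eq_zero_or_one r with h | h
      · exfalso
        have h1 : (r ^ n % m) % 2 = 0 := by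
          rw [Nat.mod_mod_of_dvd _ hm2, Nat.pow_mod, h, zero_pow hn0.ne']; rfl
        rw [hrn, Nat.mod_mod_of_dvd _ hm2] at h1
        norm_num at h1
      · exact h
    have h1 := Nat.dvd_gcd (show 2 ∣ r - 1 by omega) hm2
    rw [hr1] at h1
    norm_num at h1
  have hn2 : 2 ∣ n := by
    rw [Nat.card_congr e.toEquiv] at h2
    by_contra hn2
    -- the order divides `n * m`
    have hxy : ∀ g : G, g ^ (n * m) = 1 → orderOf g ∣ n * m := fun g => orderOf_dvd_of_pow_eq_one
    have hN : (Subgroup.zpowers y).Normal := by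
      refine Subgroup.normalizer_eq_top_iff.mp (top_le_iff.mp ?_)
      rw [← hgen, Subgroup.closure_le]
      rintro s (rfl | rfl)
      · refine Subgroup.inv_mem_iff _ |>.mp ?_
        refine Subgroup.mem_normalizer_iff.mpr fun k => ?_
        rw [inv_inv]
        constructor
        · intro hk
          obtain ⟨i, rfl⟩ := Subgroup.mem_zpowers_iff.mp hk
          refine Subgroup.mem_zpowers_iff.mpr ⟨r * i, ?_⟩
          have h3 := conj_zpow (a := s⁻¹) (b := y) (i := i)
          rw [inv_inv] at h3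
          rw [← h3, hrel, zpow_mul, zpow_natCast]
        · intro hk
          have hfix : ∀ i : ℤ, ∃ j : ℤ, s⁻¹ * y ^ j * s = y ^ i := by
            have hinj : Function.Injective (fun k : Subgroup.zpowers y =>
                (⟨s⁻¹ * k * s, by
                  obtain ⟨i, hi⟩ := Subgroup.mem_zpowers_iff.mp k.2
                  refine Subgroup.mem_zpowers_iff.mpr ⟨r * i, ?_⟩
                  have h3 := conj_zpow (a := s⁻¹) (b := y) (i := i)
                  rw [inv_inv] at h3
                  rw [← hi, ← h3, hrel, zpow_mul, zpow_natCast]⟩ : Subgroup.zpowers y)) := by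
              intro a b hab
              exact Subtype.ext (mul_left_cancel (mul_right_cancel (congrArg Subtype.val hab :)))
            intro i
            obtain ⟨k, hk⟩ := (Finite.injective_iff_surjective.mp hinj) ⟨y ^ i, i, rfl⟩
            obtain ⟨j, hj⟩ := Subgroup.mem_zpowers_iff.mp k.2
            exact ⟨j, by rw [hj]; exact congrArg Subtype.val hk⟩
          obtain ⟨i, hi⟩ := Subgroup.mem_zpowers_iff.mp hk
          obtain ⟨j, hj⟩ := hfix i
          rw [hi] at hj
          rw [← mul_left_cancel (mul_right_cancel hj)]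
          exact ⟨j, rfl⟩
      · exact Subgroup.le_normalizer (Subgroup.mem_zpowers s)
    haveI := hN
    have hdvd : Nat.card G ∣ n * m := by
      rw [← (Subgroup.zpowers y).card_mul_index, Nat.card_zpowers, hm, mul_comm n]
      refine Nat.mul_dvd_mul_left m ?_
      have hq : Subgroup.zpowers (x : G ⧸ Subgroup.zpowers y) = ⊤ := by
        rw [eq_top_iff, ← Subgroup.map_top_of_surjective _ (QuotientGroup.mk'_surjective (Subgroup.zpowers y)), ← hgen,
          MonoidHom.map_closure, Subgroup.closure_le]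
        rintro _ ⟨s, (rfl | rfl), rfl⟩
        · exact Subgroup.mem_zpowers _
        · show ((s : G ⧸ Subgroup.zpowers s)) ∈ _
          rw [(QuotientGroup.eq_one_iff _).mpr (Subgroup.mem_zpowers s)]
          exact one_mem _
      rw [Subgroup.index_eq_card, ← Nat.card_congr (Subgroup.topEquiv.toEquiv), ← hq, Nat.card_zpowers]
      exact orderOf_dvd_of_pow_eq_one (by rw [← QuotientGroup.mk_pow, ← hn, pow_orderOf_eq_one, QuotientGroup.mk_one])
    rw [← Nat.card_congr e.toEquiv] at h2
    rcases (Nat.Prime.dvd_mul Nat.prime_two).mp (h2.trans hdvd) with h | h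
    · exact hn2 h
    · exact hmodd h
  let gens : Fin 2 → Multiplicative (ZMod 2) := ![Multiplicative.ofAdd 1, 1]
  have hrels : ∀ s ∈ ({FreeGroup.of (0 : Fin 2) ^ n, FreeGroup.of (1 : Fin 2) ^ m,
      (FreeGroup.of (0 : Fin 2))⁻¹ * FreeGroup.of 1 * FreeGroup.of 0 * (FreeGroup.of (1 : Fin 2) ^ r)⁻¹} :
      Set (FreeGroup (Fin 2))), FreeGroup.lift gens s = 1 := by
    rintro s (rfl | rfl | rfl)
    · obtain ⟨j, rfl⟩ := hn2
      simp [gens, pow_mul]
      rw [show (Multiplicative.ofAdd (1 : ZMod 2)) ^ 2 = 1 by decide, one_pow]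
    · simp [gens]
    · simp [gens]
  let f : G →* Multiplicative (ZMod 2) := (PresentedGroup.toGroup hrels).comp e.toMonoidHom
  have hf : Function.Surjective f := by
    intro u
    have h0 : f (e.symm (PresentedGroup.of 0)) = Multiplicative.ofAdd 1 := by
      show PresentedGroup.toGroup hrels (e (e.symm _)) = _
      rw [e.apply_symm_apply, PresentedGroup.toGroup.of]
      rfl
    rcases (show u = 1 ∨ u = Multiplicative.ofAdd 1 by revert u; decide) with rfl | rfl
    · exact ⟨1, map_one f⟩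
    · exact ⟨_, h0⟩
  refine ⟨f.ker, inferInstance, ?_⟩
  rw [Subgroup.index_ker, MonoidHom.range_eq_top.mpr hf, Subgroup.card_top, Nat.card_eq_fintype_card]
  rfl

theorem index_two_of_surjective {G T : Type*} [Group G] [Group T] (f : G →* T) (hf : Function.Surjective f)
    {K : Subgroup T} (hK : K.index = 2) : ∃ N : Subgroup G, N.Normal ∧ N.index = 2 := by
  refine ⟨K.comap f, ?_, by rw [Subgroup.index_comap_of_surjective K hf, hK]⟩
  exact Subgroup.normal_of_index_eq_two (by rw [Subgroup.index_comap_of_surjective K hf, hK])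

def fv4 : Subgroup (alternatingGroup (Fin 4)) where
  carrier := {u | u * u = 1}
  one_mem' := one_mul 1
  mul_mem' := by
    intro a b
    revert a b
    show ∀ a b : alternatingGroup (Fin 4), a * a = 1 → b * b = 1 → (a * b) * (a * b) = 1
    decide +kernel
  inv_mem' := by
    intro a ha
    show a⁻¹ * a⁻¹ = 1
    rw [← mul_inv_rev, ha, inv_one]

theorem a4_facts : (∀ u : alternatingGroup (Fin 4), ∃ x y, x ^ 3 = 1 ∧ y ^ 3 = 1 ∧ u = x * y) ∧
    (∀ u : alternatingGroup (Fin 4), ∀ g : alternatingGroup (Fin 4), g ^ 3 = 1 → g ≠ 1 → u * u = 1 → u ≠ 1 →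
      g * u * g⁻¹ ≠ u ∧ g * (g * u * g⁻¹) * g⁻¹ = u * (g * u * g⁻¹)) := by
  constructor <;> decide +kernel

theorem card_fv4 : Nat.card fv4 = 4 := by
  have h : Nat.card {u : alternatingGroup (Fin 4) // u * u = 1} = 4 := by
    rw [Nat.card_eq_fintype_card]; decide +kernel
  exact h

theorem q8_rule : ∀ x y : QuaternionGroup 2, x * x ≠ 1 → y * y ≠ 1 → y ≠ x → y ≠ x⁻¹ →
    y * x = x⁻¹ * y ∧ y * y = x * x ∧ x ^ 4 = 1 := by
  decide +kernel

/-- A normal subgroup of two-power index maps onto `A₄`. -/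
theorem map_eq_top_of_two_power {G : Type u} [Group G] [Finite G] (f : G →* alternatingGroup (Fin 4))
    (hf : Function.Surjective f) (C : Subgroup G) [hC : C.Normal] (h : ∃ k, C.index = 2 ^ k) : C.map f = ⊤ := by
  obtain ⟨k, hk⟩ := h
  have h3 : ∀ x : alternatingGroup (Fin 4), x ^ 3 = 1 → x ∈ C.map f := by
    intro x hx
    haveI : (C.map f).Normal := hC.map f hf
    have hd : (C.map f).index ∣ C.index := Subgroup.index_map_dvd C hf
    have h1 : ((x : alternatingGroup (Fin 4) ⧸ C.map f)) ^ 3 = 1 := by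
      rw [← QuotientGroup.mk_pow, hx, QuotientGroup.mk_one]
    have h2 : ((x : alternatingGroup (Fin 4) ⧸ C.map f)) ^ C.index = 1 := by
      obtain ⟨t, ht⟩ := hd
      rw [ht, pow_mul, Subgroup.index_eq_card, pow_card_eq_one', one_pow]
    have h4 := Nat.dvd_gcd (orderOf_dvd_of_pow_eq_one h1) (orderOf_dvd_of_pow_eq_one h2)
    rw [hk, (Nat.Coprime.pow_right k (by norm_num : Nat.Coprime 3 2)), Nat.dvd_one, orderOf_eq_one_iff] at h4
    exact (QuotientGroup.eq_one_iff x).mp h4
  refine Subgroup.eq_top_iff' _ |>.mpr fun u => ?_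
  obtain ⟨x, y, hx, hy, rfl⟩ := a4_facts.1 u
  exact mul_mem (h3 x hx) (h3 y hy)

variable {l : ℕ} [Fact l.Prime] {V : Type v} [AddCommGroup V] [Module (ZMod l) V] [Finite V] [Nontrivial V]
  {G : Type u} [Group G] [Finite G] (ρ : G →* Module.End (ZMod l) V)
  (hfpf : ∀ g : G, g ≠ 1 → ∀ v : V, ρ g v = v → v = 0)
include hfpf

/-- In the `A₄` case the kernel has order twice an odd number. -/
theorem a4_kernel (f : G →* alternatingGroup (Fin 4)) (hf : Function.Surjective f) [IsZGroup f.ker] :
    ¬ 4 ∣ Nat.card f.ker := by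
  classical
  intro h4
  haveI := Fact.mk Nat.prime_two
  obtain ⟨S⟩ : Nonempty (Sylow 2 f.ker) := inferInstance
  set S' : Subgroup G := (S : Subgroup f.ker).map f.ker.subtype with hS'
  haveI : IsCyclic S' := isCyclic_of_surjective
    ((S : Subgroup f.ker).equivMapOfInjective f.ker.subtype f.ker.subtype_injective).toMonoidHom
    ((S : Subgroup f.ker).equivMapOfInjective f.ker.subtype f.ker.subtype_injective).surjective
  have hsup : Subgroup.normalizer (S' : Set G) ⊔ f.ker = ⊤ := Sylow.normalizer_sup_eq_top S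
  have hfN : Function.Surjective (f.comp (Subgroup.normalizer (S' : Set G)).subtype) := by
    rw [← MonoidHom.range_eq_top, MonoidHom.range_comp, Subgroup.range_subtype, eq_top_iff,
      ← Subgroup.map_top_of_surjective f hf, ← hsup, Subgroup.map_sup]
    exact sup_le le_rfl (by rw [(Subgroup.map_eq_bot_iff _).mpr le_rfl]; exact bot_le)
  let φ := Subgroup.normalizerMonoidHom S'
  haveI : Finite (MulAut S') := Finite.of_injective _ DFunLike.coe_injective
  have hC2 : ∃ k, φ.ker.index = 2 ^ k := by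
    obtain ⟨c, hc⟩ := IsPGroup.iff_card.mp (S.2.map f.ker.subtype)
    have h1 : Nat.card φ.range ∣ 2 ^ (c - 1) := by
      refine (Subgroup.card_subgroup_dvd_card φ.range).trans (dvd_of_eq ?_)
      rw [IsCyclic.card_mulAut, hc]
      rcases c with _ | c
      · rfl
      · rw [Nat.totient_prime_pow_succ Nat.prime_two, Nat.add_sub_cancel]; norm_num
    obtain ⟨j, -, hj⟩ := (Nat.dvd_prime_pow Nat.prime_two).mp h1
    exact ⟨j, by rw [Subgroup.index_ker, hj]⟩
  have hCtop := map_eq_top_of_two_power _ hfN φ.ker hC2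
  -- a Sylow subgroup of the centralizer
  obtain ⟨P⟩ : Nonempty (Sylow 2 φ.ker) := inferInstance
  let fC : φ.ker →* alternatingGroup (Fin 4) := (f.comp (Subgroup.normalizer (S' : Set G)).subtype).comp φ.ker.subtype
  have hfC : Function.Surjective fC := by
    rw [← MonoidHom.range_eq_top, MonoidHom.range_comp, Subgroup.range_subtype]
    exact hCtop
  let P' : Sylow 2 (alternatingGroup (Fin 4)) := P.mapSurjective hfC
  have hP'4 : Nat.card (P' : Subgroup (alternatingGroup (Fin 4))) = 4 := by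
    have hA : Nat.card (alternatingGroup (Fin 4)) = 12 := by rw [Nat.card_eq_fintype_card]; decide +kernel
    rw [Sylow.card_eq_multiplicity, hA, show (12 : ℕ) = 2 ^ 2 * 3 by norm_num,
      Nat.factorization_mul (by norm_num) (by norm_num), Nat.Prime.factorization_pow Nat.prime_two,
      Nat.Prime.factorization Nat.prime_three]
    simp
  -- the subgroup of `G`
  let j : φ.ker →* G := (Subgroup.normalizer (S' : Set G)).subtype.comp φ.ker.subtype
  have hjinj : Function.Injective j := Subtype.val_injective.comp Subtype.val_injective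
  have hSC : ∀ s ∈ S', ∀ x : φ.ker, j x * s = s * j x := by
    intro s hs x
    have h1 := congrArg (fun e : MulAut S' => ((e ⟨s, hs⟩ : S') : G)) (MonoidHom.mem_ker.mp x.2)
    exact mul_inv_eq_iff_eq_mul.mp (h1 : j x * s * (j x)⁻¹ = s)
  have hSmem : ∀ s ∈ S', ∃ x : φ.ker, j x = s := by
    intro s hs
    refine ⟨⟨⟨s, Subgroup.le_normalizer hs⟩, MonoidHom.mem_ker.mpr ?_⟩, rfl⟩
    refine MulEquiv.ext fun t => Subtype.ext ?_
    show s * (t : G) * s⁻¹ = t
    have h1 : s * (t : G) = t * s := by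
      letI := IsCyclic.commGroup (α := S')
      exact congrArg Subtype.val (mul_comm (⟨s, hs⟩ : S') t)
    rw [h1, mul_inv_cancel_right]
  let T : Subgroup φ.ker := S'.comap j
  haveI : T.Normal := ⟨fun t ht x => by
    show j (x * t * x⁻¹) ∈ S'
    rw [map_mul, map_mul, map_inv, hSC _ ht x, mul_inv_cancel_right]
    exact ht⟩
  have hT2 : IsPGroup 2 T := (S.2.map f.ker.subtype).comap_of_injective j hjinj
  have hTP : T ≤ P := sup_eq_left.mp (P.is_maximal'
    (Cfsg.Lib.Core.isPGroup_sup_of_normal (H := (P : Subgroup φ.ker)) P.2 hT2) le_sup_left)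
  have hPsurj : ∀ u ∈ (P' : Subgroup (alternatingGroup (Fin 4))), ∃ x ∈ (P : Subgroup φ.ker), fC x = u :=
    fun u hu => hu
  rcases pgroup_cases ρ hfpf _ (P.2.map j) with hc | ⟨-, n, hn, ⟨e⟩⟩
  · haveI := hc
    haveI : IsCyclic (P : Subgroup φ.ker) := isCyclic_of_surjective
      ((P : Subgroup φ.ker).equivMapOfInjective j hjinj).symm.toMonoidHom
      ((P : Subgroup φ.ker).equivMapOfInjective j hjinj).symm.surjective
    haveI : IsCyclic (P' : Subgroup (alternatingGroup (Fin 4))) :=
      isCyclic_of_surjective (fC.subgroupMap (P : Subgroup φ.ker)) (fC.subgroupMap_surjective _)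
    obtain ⟨g, hg⟩ := IsCyclic.exists_ofOrder_eq_natCard (α := (P' : Subgroup (alternatingGroup (Fin 4))))
    rw [hP'4, ← Subgroup.orderOf_coe] at hg
    have hno : ∀ u : alternatingGroup (Fin 4), u ^ 4 = 1 → u ^ 2 = 1 := by decide +kernel
    have h2 : orderOf (g : alternatingGroup (Fin 4)) ∣ 2 :=
      orderOf_dvd_of_pow_eq_one (hno _ (by
        have h := pow_orderOf_eq_one (g : alternatingGroup (Fin 4))
        rwa [hg] at h))
    rw [hg] at h2
    norm_num at h2
  · haveI : NeZero (2 ^ n) := ⟨by positivity⟩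
    haveI : NeZero (2 * 2 ^ n) := ⟨by positivity⟩
    have hc : ∀ q : QuaternionGroup (2 ^ n), q * QuaternionGroup.xa 0 = QuaternionGroup.xa 0 * q →
        q * QuaternionGroup.a 1 = QuaternionGroup.a 1 * q → q * q = 1 := by
      intro q h1 h2
      rcases q with i | i
      · rw [QuaternionGroup.a_mul_xa, QuaternionGroup.xa_mul_a, QuaternionGroup.xa.injEq] at h1
        rw [QuaternionGroup.a_mul_a, ← QuaternionGroup.a_zero]
        congr 1
        linear_combination (-1 : ZMod (2 * 2 ^ n)) * h1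
      · rw [QuaternionGroup.xa_mul_a, QuaternionGroup.a_mul_xa, QuaternionGroup.xa.injEq] at h2
        exfalso
        have h3 : ((2 : ℕ) : ZMod (2 * 2 ^ n)) = 0 := by push_cast; linear_combination h2
        rw [ZMod.natCast_eq_zero_iff] at h3
        have := Nat.le_of_dvd (by norm_num) h3
        have : 2 ≤ 2 ^ n := le_trans (by norm_num) (Nat.pow_le_pow_right (by norm_num) hn)
        omega
    obtain ⟨g, hg⟩ := IsCyclic.exists_ofOrder_eq_natCard (α := S')
    have hS4 : 4 ∣ Nat.card S' := by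
      rw [hS', Subgroup.card_map_of_injective f.ker.subtype_injective]
      exact Sylow.pow_dvd_card_of_pow_dvd_card (n := 2) S (by simpa using h4)
    obtain ⟨x, hx⟩ := hSmem g g.2
    have hxP : x ∈ (P : Subgroup φ.ker) := hTP (show j x ∈ S' from hx ▸ g.2)
    set gP : (P : Subgroup φ.ker).map j := ⟨j x, x, hxP, rfl⟩
    have hcomm : ∀ y : (P : Subgroup φ.ker).map j, gP * y = y * gP := by
      rintro ⟨_, y, hy, rfl⟩
      exact Subtype.ext (show j x * j y = j y * j x by rw [hx]; exact (hSC g g.2 y).symm)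
    have hall : ∀ q : QuaternionGroup (2 ^ n), e gP * q = q * e gP := fun q => by
      obtain ⟨y, rfl⟩ := e.surjective q
      rw [← map_mul, ← map_mul, hcomm]
    have h1 : gP * gP = 1 := e.injective (by
      rw [map_mul, map_one]
      exact hc (e gP) (hall _) (hall _))
    have h2 : (g : G) * g = 1 := by rw [← hx]; exact congrArg Subtype.val h1
    have h3 : orderOf g ∣ 2 := orderOf_dvd_of_pow_eq_one (by rw [pow_two]; exact Subtype.ext h2)
    rw [hg] at h3
    exact absurd (hS4.trans h3) (by norm_num)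

/-- A group of order `24` mapping onto `A₄`. -/
theorem sl23_of_card (h24 : Nat.card G = 24) (f : G →* alternatingGroup (Fin 4)) (hf : Function.Surjective f) :
    Nonempty (G ≃* Matrix.SpecialLinearGroup (Fin 2) (ZMod 3)) := by
  classical
  haveI := Fact.mk Nat.prime_two
  haveI := Fact.mk Nat.prime_three
  have hker : Nat.card f.ker = 2 := by
    have h1 := f.ker.card_mul_index
    rw [Subgroup.index_ker, MonoidHom.range_eq_top.mpr hf, Subgroup.card_top, h24] at h1
    have hA : Nat.card (alternatingGroup (Fin 4)) = 12 := by rw [Nat.card_eq_fintype_card]; decide +kernel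
    rw [hA] at h1
    omega
  let Q : Subgroup G := fv4.comap f
  have hQ8 : Nat.card Q = 8 := by
    rw [Cfsg.Lib.Core.card_comap_eq f hf, card_fv4, hker]
  have hQ2 : IsPGroup 2 Q := IsPGroup.of_card (n := 3) (by rw [hQ8]; norm_num)
  have hmemQ : ∀ x, x ∈ Q ↔ f x * f x = 1 := fun x => Iff.rfl
  obtain ⟨a, ha⟩ := hf ⟨pv4, Equiv.Perm.mem_alternatingGroup.2 (by decide +kernel)⟩
  obtain ⟨g, hg⟩ := exists_prime_orderOf_dvd_card' (G := G) 3 (by rw [h24]; norm_num)
  have hg3 : g ^ 3 = 1 := by rw [← hg]; exact pow_orderOf_eq_one g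
  have hfg1 : f g ≠ 1 := by
    intro h
    have h1 : orderOf g ∣ Nat.card f.ker := Subgroup.orderOf_dvd_natCard _ (MonoidHom.mem_ker.mpr h)
    rw [hg, hker] at h1
    norm_num at h1
  have hfa2 : f a * f a = 1 := by rw [ha]; decide +kernel
  have hfa1 : f a ≠ 1 := by rw [ha]; decide +kernel
  obtain ⟨hab, hab'⟩ := a4_facts.2 (f a) (f g) (by rw [← map_pow, hg3, map_one]) hfg1 hfa2 hfa1
  rcases pgroup_cases ρ hfpf Q hQ2 with hc | ⟨-, n, hn, ⟨eQ⟩⟩
  · haveI := hc
    haveI : IsCyclic fv4 := isCyclic_of_surjective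
      ((f.comp Q.subtype).codRestrict fv4 fun x => x.2) (fun u => by
        obtain ⟨x, hx⟩ := hf u
        exact ⟨⟨x, show f x ∈ fv4 from hx ▸ u.2⟩, Subtype.ext hx⟩)
    obtain ⟨u, hu⟩ := IsCyclic.exists_ofOrder_eq_natCard (α := fv4)
    have h1 : orderOf u ∣ 2 := orderOf_dvd_of_pow_eq_one (by rw [pow_two]; exact Subtype.ext u.2)
    rw [hu, card_fv4] at h1
    norm_num at h1
  obtain rfl : n = 1 := by
    have h1 := Nat.card_congr eQ.toEquiv
    rw [hQ8, Nat.card_eq_fintype_card, QuaternionGroup.card] at h1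
    have h2 : 2 ^ n = 2 ^ 1 := by omega
    exact Nat.pow_right_injective le_rfl h2
  obtain ⟨z, hz⟩ := exists_prime_orderOf_dvd_card' (G := f.ker) 2 (dvd_of_eq hker.symm)
  have hz2 : (z : G) * z = 1 := by
    have h1 : z * z = 1 := by rw [← pow_two, ← hz]; exact pow_orderOf_eq_one z
    exact congrArg Subtype.val h1
  have hz1 : (z : G) ≠ 1 := fun h => by
    rw [show z = 1 from Subtype.ext h, orderOf_one] at hz
    norm_num at hz
  have hfz : f z = 1 := z.2
  have hzc : ∀ x : G, x * z = z * x := by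
    intro x
    rcases sq_cases ρ hfpf hz2 hz1 (y := x * z * x⁻¹)
      (by rw [conj_mul, hz2, mul_one, mul_inv_cancel]) with h | h
    · exact absurd (conj_eq_one_iff.mp h) hz1
    · exact mul_inv_eq_iff_eq_mul.mp h
  -- squares of elements over non-trivial elements of the four-group
  have hsq : ∀ x ∈ Q, f x ≠ 1 → x * x ≠ 1 := by
    intro x hx hfx h
    rcases sq_cases ρ hfpf hz2 hz1 h with h1 | h1
    · exact hfx (by rw [h1, map_one])
    · exact hfx (by rw [h1, hfz])
  set b := g * a * g⁻¹ with hb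
  have hfb : f b = f g * f a * (f g)⁻¹ := by rw [hb, map_mul, map_mul, map_inv]
  have haQ : a ∈ Q := hfa2
  have hbQ : b ∈ Q := by
    rw [hmemQ, hfb, conj_mul, hfa2, mul_one, mul_inv_cancel]
  have hfb1 : f b ≠ 1 := by rw [hfb]; exact fun h => hfa1 (conj_eq_one_iff.mp h)
  obtain ⟨hba, hbb, ha4⟩ := q8_rule (eQ ⟨a, haQ⟩) (eQ ⟨b, hbQ⟩)
    (fun h => hsq a haQ hfa1 (congrArg Subtype.val (eQ.injective (by rw [map_mul, map_one]; exact h) :
      (⟨a, haQ⟩ : Q) * ⟨a, haQ⟩ = 1)))
    (fun h => hsq b hbQ hfb1 (congrArg Subtype.val (eQ.injective (by rw [map_mul, map_one]; exact h) :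
      (⟨b, hbQ⟩ : Q) * ⟨b, hbQ⟩ = 1)))
    (fun h => hab (by rw [← hfb]; exact congrArg f (congrArg Subtype.val (eQ.injective h) : b = a)))
    (fun h => hab (by
      rw [← map_inv] at h
      rw [← hfb, show b = a⁻¹ from congrArg Subtype.val (eQ.injective h), map_inv]
      exact inv_eq_of_mul_eq_one_right hfa2))
  rw [← map_mul, ← map_inv, ← map_mul] at hba
  rw [← map_mul, ← map_mul] at hbb
  rw [← map_pow, ← map_one eQ] at ha4
  have hba' : b * a = a⁻¹ * b := congrArg Subtype.val (eQ.injective hba)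
  have hbb' : b * b = a * a := congrArg Subtype.val (eQ.injective hbb)
  have ha4' : a ^ 4 = 1 := congrArg Subtype.val (eQ.injective ha4)
  -- adjust the first generator
  obtain ⟨a', b', ha', hb', h⟩ : ∃ a' b', (f a' = f a ∧ a' ∈ Q) ∧ b' = g * a' * g⁻¹ ∧
      (a' ^ 4 = 1 ∧ b' * b' = a' * a' ∧ b' * a' = a'⁻¹ * b' ∧ g * b' * g⁻¹ = a' * b') := by
    have hker2 : f (g * b * g⁻¹ * (a * b)⁻¹) = 1 := by
      rw [map_mul f (g * b * g⁻¹), map_inv, map_mul f (g * b), map_mul f g b, map_inv, map_mul f a b, hfb, hab',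
        mul_inv_cancel]
    have hk2 : (g * b * g⁻¹ * (a * b)⁻¹) * (g * b * g⁻¹ * (a * b)⁻¹) = 1 := by
      have h1 : (⟨_, MonoidHom.mem_ker.mpr hker2⟩ : f.ker) ^ Nat.card f.ker = 1 := pow_card_eq_one'
      rw [hker, pow_two] at h1
      exact congrArg Subtype.val h1
    rcases sq_cases ρ hfpf hz2 hz1 hk2 with h | h
    · exact ⟨a, b, ⟨rfl, haQ⟩, hb, ha4', hbb', hba', mul_inv_eq_one.mp h⟩
    · have hgb : g * b * g⁻¹ = z * (a * b) := mul_inv_eq_iff_eq_mul.mp h
      have hzi : (z : G)⁻¹ = z := inv_eq_of_mul_eq_one_right hz2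
      refine ⟨a * z, b * z, ⟨by rw [map_mul, hfz, mul_one],
        mul_mem haQ (by rw [hmemQ, hfz, mul_one])⟩, ?_, ?_, ?_, ?_, ?_⟩
      · rw [hb]
        simp only [mul_assoc]
        rw [hzc g⁻¹ |>.symm]
      · rw [(show Commute a z from hzc a).mul_pow, ha4', one_mul]
        show (z : G) ^ (2 * 2) = 1
        rw [pow_mul, pow_two (z : G), hz2, one_pow]
      · rw [mul_assoc b, ← mul_assoc (z : G), ← hzc b, mul_assoc b, hz2, mul_one, hbb', mul_assoc a,
          ← mul_assoc (z : G), ← hzc a, mul_assoc a, hz2, mul_one]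
      · rw [mul_inv_rev, hzi, mul_assoc b, ← mul_assoc (z : G), ← hzc a, mul_assoc a, hz2, mul_one, hba',
          ← hzc a⁻¹, mul_assoc a⁻¹, ← mul_assoc (z : G), ← hzc b, mul_assoc b, hz2, mul_one]
      · rw [show g * (b * z) * g⁻¹ = (g * b * g⁻¹) * z by simp only [mul_assoc]; rw [hzc g⁻¹ |>.symm], hgb,
          ← hzc (a * b), mul_assoc (a * b), hz2, mul_one, mul_assoc a (z : G), ← mul_assoc (z : G) b, ← hzc b,
          mul_assoc b, hz2, mul_one]
  obtain ⟨hfa', ha'Q⟩ := ha'
  obtain ⟨h1, h2, h3, h4⟩ := h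
  have hb'Q : b' ∈ Q := by
    rw [hb', hmemQ, map_mul, map_mul, map_inv, hfa', conj_mul, hfa2, mul_one, mul_inv_cancel]
  have hgQ : g ∉ Q := fun h => by
    have := Subgroup.orderOf_dvd_natCard Q h
    rw [hg, hQ8] at this
    norm_num at this
  have hbn : b' ∉ Subgroup.zpowers a' := fun h => by
    obtain ⟨i, hi⟩ := Subgroup.mem_zpowers_iff.mp h
    have h5 := congrArg f hi
    rw [map_zpow, hfa', hb', map_mul, map_mul, map_inv, hfa'] at h5
    rcases Int.even_or_odd i with ⟨k, hk⟩ | ⟨k, hk⟩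
    · rw [hk, ← two_mul, zpow_mul, zpow_two, hfa2, one_zpow] at h5
      exact hfa1 (conj_eq_one_iff.mp h5.symm)
    · rw [hk, zpow_add, zpow_mul, zpow_two, hfa2, one_zpow, one_mul, zpow_one] at h5
      exact hab h5.symm
  obtain ⟨Φ, hΦ⟩ := Cfsg.Agent.S2879.sl23_hom h1 (hsq a' ha'Q (hfa' ▸ hfa1)) h2 h3 hb'.symm h4 hg3 ha'Q hb'Q hgQ hbn
  have hcard : Nat.card (Matrix.SpecialLinearGroup (Fin 2) (ZMod 3)) = Nat.card G := by
    rw [h24, ← Nat.card_congr Cfsg.Agent.S2879.sl23Equiv]
    simp
  exact ⟨(MulEquiv.ofBijective Φ ((Nat.bijective_iff_injective_and_card Φ).mpr ⟨hΦ, hcard⟩)).symm⟩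

/-- A group of order `120` mapping onto `A₄` with `Z`-kernel. -/
theorem sl23_times_five (h120 : Nat.card G = 120) (f : G →* alternatingGroup (Fin 4)) (hf : Function.Surjective f) :
    Nonempty (G ≃* Matrix.SpecialLinearGroup (Fin 2) (ZMod 3) × Multiplicative (ZMod 5)) := by
  classical
  haveI := Fact.mk Nat.prime_two
  haveI := Fact.mk (show Nat.Prime 5 by norm_num)
  have hA : Nat.card (alternatingGroup (Fin 4)) = 12 := by rw [Nat.card_eq_fintype_card]; decide +kernel
  have hker : Nat.card f.ker = 10 := by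
    have h1 := f.ker.card_mul_index
    rw [Subgroup.index_ker, MonoidHom.range_eq_top.mpr hf, Subgroup.card_top, h120, hA] at h1
    omega
  obtain ⟨R₀⟩ : Nonempty (Sylow 5 f.ker) := inferInstance
  have hR5 : Nat.card (R₀ : Subgroup f.ker) = 5 := by
    rw [Sylow.card_eq_multiplicity, hker, show (10 : ℕ) = 5 * 2 by norm_num,
      Nat.factorization_mul (by norm_num) (by norm_num), Nat.Prime.factorization Nat.prime_two,
      Nat.Prime.factorization (show Nat.Prime 5 by norm_num)]
    simp
  have hRi : (R₀ : Subgroup f.ker).index = 2 := by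
    have := (R₀ : Subgroup f.ker).card_mul_index
    rw [hR5, hker] at this
    omega
  haveI : (R₀ : Subgroup f.ker).Normal := Subgroup.normal_of_index_eq_two hRi
  haveI : (R₀ : Subgroup f.ker).Characteristic := Sylow.characteristic_of_normal R₀ inferInstance
  let R : Subgroup G := (R₀ : Subgroup f.ker).map f.ker.subtype
  haveI hRn : R.Normal := ConjAct.normal_of_characteristic_of_normal
  have hRc : Nat.card R = 5 := (Subgroup.card_map_of_injective f.ker.subtype_injective).trans hR5
  haveI : IsCyclic R := isCyclic_of_prime_card hRc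
  let φ : G →* MulAut R := MulAut.conjNormal
  haveI : Finite (MulAut R) := Finite.of_injective _ DFunLike.coe_injective
  have hC2 : ∃ k, φ.ker.index = 2 ^ k := by
    have h1 : Nat.card φ.range ∣ 2 ^ 2 := by
      refine (Subgroup.card_subgroup_dvd_card φ.range).trans (dvd_of_eq ?_)
      rw [IsCyclic.card_mulAut, hRc, Nat.totient_prime (by norm_num)]
      norm_num
    obtain ⟨j, -, hj⟩ := (Nat.dvd_prime_pow Nat.prime_two).mp h1
    exact ⟨j, by rw [Subgroup.index_ker, hj]⟩
  have hCtop := map_eq_top_of_two_power f hf φ.ker hC2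
  -- the centralizer contains the whole kernel
  have hkerle : f.ker ≤ φ.ker := by
    have hmap := Subgroup.index_map φ.ker f
    rw [hCtop, Subgroup.index_top, MonoidHom.range_eq_top.mpr hf, Subgroup.index_top, mul_one] at hmap
    -- `φ.ker ⊔ f.ker = ⊤`
    have h2c : 2 ∣ Nat.card φ.ker := by
      have h1 : Nat.card (φ.ker.map f) ∣ Nat.card φ.ker := Subgroup.card_map_dvd φ.ker f
      rw [hCtop, Subgroup.card_top, hA] at h1
      exact dvd_trans (by norm_num) h1
    obtain ⟨c, hc⟩ := exists_prime_orderOf_dvd_card' (G := φ.ker) 2 h2c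
    obtain ⟨z, hz⟩ := exists_prime_orderOf_dvd_card' (G := f.ker) 2 (by rw [hker]; norm_num)
    have hcz : (c : G) = z := by
      have hc2 : (c : G) * c = 1 := by
        have : c * c = 1 := by rw [← pow_two, ← hc]; exact pow_orderOf_eq_one c
        exact congrArg Subtype.val this
      have hz2 : (z : G) * z = 1 := by
        have : z * z = 1 := by rw [← pow_two, ← hz]; exact pow_orderOf_eq_one z
        exact congrArg Subtype.val this
      have hz1 : (z : G) ≠ 1 := fun h => by
        rw [show z = 1 from Subtype.ext h, orderOf_one] at hz; norm_num at hz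
      rcases sq_cases ρ hfpf hz2 hz1 hc2 with h | h
      · rw [show c = 1 from Subtype.ext h, orderOf_one] at hc; norm_num at hc
      · exact h
    have hRker : R ≤ φ.ker := fun y hy => MonoidHom.mem_ker.mpr (MulEquiv.ext fun t => Subtype.ext (by
      show y * (t : G) * y⁻¹ = t
      have h1 : y * (t : G) = t * y := by
        letI := IsCyclic.commGroup (α := R)
        exact congrArg Subtype.val (mul_comm (⟨y, hy⟩ : R) t)
      rw [h1, mul_inv_cancel_right]))
    have h10 : 10 ∣ Nat.card (f.ker ⊓ φ.ker : Subgroup G) := by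
      have h5 : 5 ∣ Nat.card (f.ker ⊓ φ.ker : Subgroup G) :=
        hRc ▸ Subgroup.card_dvd_of_le (le_inf (Subgroup.map_subtype_le _) hRker)
      have h2 : 2 ∣ Nat.card (f.ker ⊓ φ.ker : Subgroup G) := by
        have hmem : (z : G) ∈ f.ker ⊓ φ.ker := Subgroup.mem_inf.mpr ⟨z.2, hcz ▸ c.2⟩
        have := Subgroup.orderOf_dvd_natCard _ hmem
        rwa [Subgroup.orderOf_coe, hz] at this
      exact Nat.Coprime.mul_dvd_of_dvd_of_dvd (by norm_num) h2 h5
    have h11 : f.ker ⊓ φ.ker = f.ker := Subgroup.eq_of_le_of_card_ge inf_le_left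
      (by rw [hker]; exact Nat.le_of_dvd Nat.card_pos h10)
    exact inf_eq_left.mp h11
  have hφtop : φ.ker = ⊤ := by
    refine Subgroup.eq_top_iff' _ |>.mpr fun x => ?_
    have : f x ∈ φ.ker.map f := hCtop ▸ Subgroup.mem_top _
    obtain ⟨y, hy, hyx⟩ := this
    have h1 : y⁻¹ * x ∈ f.ker := by rw [MonoidHom.mem_ker, map_mul, map_inv, hyx, inv_mul_cancel]
    simpa using φ.ker.mul_mem hy (hkerle h1)
  have hcent : ∀ x : G, ∀ y ∈ R, x * y = y * x := fun x y hy => by
    have h1 := congrArg (fun e : MulAut R => ((e ⟨y, hy⟩ : R) : G)) (MonoidHom.mem_ker.mp (hφtop ▸ Subgroup.mem_top x))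
    exact mul_inv_eq_iff_eq_mul.mp (h1 : x * y * x⁻¹ = y)
  have hRidx : R.index = 24 := by
    have := R.card_mul_index
    rw [hRc, h120] at this
    omega
  obtain ⟨K, hK⟩ := Subgroup.exists_right_complement'_of_coprime (N := R) (by rw [hRc, hRidx]; norm_num)
  have hKc : Nat.card K = 24 := by
    have := hK.card_mul
    rw [hRc, h120] at this
    omega
  have hfK : Function.Surjective (f.comp K.subtype) := by
    intro u
    obtain ⟨x, rfl⟩ := hf u
    obtain ⟨⟨r, k⟩, hrk⟩ := hK.2 x
    refine ⟨k, ?_⟩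
    have hr : f r = 1 := (Subgroup.map_subtype_le (R₀ : Subgroup f.ker)) r.2
    show f k = f x
    rw [← hrk, map_mul, hr, one_mul]
  obtain ⟨eK⟩ := sl23_of_card (ρ.comp K.subtype) (fun g hg v hv => hfpf g (fun h => hg (Subtype.ext h)) v hv) hKc _ hfK
  let m : K × R →* G := MonoidHom.noncommCoprod K.subtype R.subtype fun k r => hcent k r r.2
  have hm : Function.Injective m := by
    rw [injective_iff_map_eq_one]
    rintro ⟨k, r⟩ h
    have h1 : (k : G) * r = 1 := h
    have h2 : (r : G) ∈ R ⊓ K :=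
      Subgroup.mem_inf.mpr ⟨r.2, by rw [eq_inv_of_mul_eq_one_right h1]; exact K.inv_mem k.2⟩
    rw [hK.disjoint.eq_bot] at h2
    have hr : (r : G) = 1 := h2
    rw [hr, mul_one] at h1
    exact Prod.ext (Subtype.ext h1) (Subtype.ext hr)
  have hbij : Function.Bijective m := (Nat.bijective_iff_injective_and_card m).mpr
    ⟨hm, by rw [Nat.card_prod, hKc, hRc, h120]⟩
  exact ⟨(MulEquiv.ofBijective m hbij).symm.trans (MulEquiv.prodCongr eK
    (mulEquivOfPrimeCardEq hRc (by rw [Nat.card_congr Multiplicative.toAdd, Nat.card_zmod])))⟩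

end Cfsg.Lib.Perm.Zas25
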