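import Cfsg.Agent.Lib.Perm.Zas25.Frame

/-!
# All elements lie in one quaternion algebra over a commutative ring
-/

set_option autoImplicit false
set_option linter.unusedSectionVars false

namespace Cfsg.Lib.Perm.Zas25

variable {K : Type*} [Field K] {R : Type*} [Ring R] [Algebra K R] {P : Set R} {i j k : R}
  (hP : PSet K P) (h2 : (2 : K) ≠ 0) (h3 : (3 : K) ≠ 0)
include hP h2 h3

/-- Conjugation by the first diagonal permutes the coordinates. -/
theorem conj_rot (h : Base P i j k) {a₀ a₁ a₂ a₃ : R} (h0 : Cen i j a₀) (h1 : Cen i j a₁) (h2' : Cen i j a₂)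
    (h3' : Cen i j a₃) (hp : qv i j k a₀ a₁ a₂ a₃ ∈ P) : qv i j k a₀ a₂ a₃ a₁ ∈ P := by
  have e : (qv i j k 0 1 1 1 - 1) * qv i j k a₀ a₁ a₂ a₃ * (-qv i j k 0 1 1 1 - 1) =
      (4 : K) • qv i j k a₀ a₂ a₃ a₁ := by
    rw [show qv i j k 0 1 1 1 - 1 = qv i j k (-1) 1 1 1 by simp [qv]; abel,
      show -qv i j k 0 1 1 1 - 1 = qv i j k (-1) (-1) (-1) (-1) by simp [qv]; abel,
      qv_mul h.frame Cen.one.neg Cen.one Cen.one Cen.one, qv_mul h.frame
      ((((Cen.one.neg.mul h0).sub (Cen.one.mul h1)).sub (Cen.one.mul h2')).sub (Cen.one.mul h3'))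
      ((((Cen.one.neg.mul h1).add (Cen.one.mul h0)).add (Cen.one.mul h3')).sub (Cen.one.mul h2'))
      ((((Cen.one.neg.mul h2').sub (Cen.one.mul h3')).add (Cen.one.mul h0)).add (Cen.one.mul h1))
      ((((Cen.one.neg.mul h3').add (Cen.one.mul h2')).sub (Cen.one.mul h1)).add (Cen.one.mul h0)), qv_smul]
    simp only [neg_mul, one_mul, mul_neg, mul_one]
    congr 1 <;> module
  have := hP.conj _ h.r_mem _ hp
  rwa [e, inv_smul_smul₀ (four_ne h2)] at this

/-- Conjugation by a unit of the frame. -/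
theorem conj_flip (h : Base P i j k) {a₀ a₁ a₂ a₃ : R} (h0 : Cen i j a₀) (h1 : Cen i j a₁) (h2' : Cen i j a₂)
    (h3' : Cen i j a₃) (hp : qv i j k a₀ a₁ a₂ a₃ ∈ P) : qv i j k a₀ (-a₁) (-a₂) a₃ ∈ P := by
  have e : ∀ a b c d : R, qv i j k a b c d = qv i (-j) (-k) a b (-c) (-d) := fun a b c d => by simp [qv]
  have hc : ∀ {x : R}, Cen i j x → Cen i (-j) x := fun {x} hx => ⟨hx.1, by rw [mul_neg, neg_mul, hx.2]⟩
  have h' := conj_rot hP h2 h3 h.flip (hc h0) (hc h1) (hc h2'.neg) (hc h3'.neg) (by rw [← e]; exact hp)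
  rw [show qv i (-j) (-k) a₀ (-a₂) (-a₃) a₁ = qv i j k a₀ (-a₂) a₃ (-a₁) by rw [e]; simp] at h'
  exact conj_rot hP h2 h3 h (h0) (h3') (h1.neg) (h2'.neg) (conj_rot hP h2 h3 h h0 h2'.neg h3' h1.neg h')

/-- The part commuting with the frame vanishes. -/
theorem p0_zero (hR : (1 : R) ≠ 0) (h : Base P i j k) {a₀ a₁ a₂ a₃ : R} (h0 : Cen i j a₀) (h1 : Cen i j a₁)
    (h2' : Cen i j a₂) (h3' : Cen i j a₃) (hp : qv i j k a₀ a₁ a₂ a₃ ∈ P) : a₀ = 0 := by
  by_contra hne
  have far : ∀ {e₁ e₂ e₃ : R}, (e₁ = 1 ∨ e₁ = -1) → (e₂ = 1 ∨ e₂ = -1) → (e₃ = 1 ∨ e₃ = -1) →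
      qv i j k 0 e₁ e₂ e₃ ∈ P →
      a₀ * (e₁ * a₁ + e₂ * a₂ + e₃ * a₃) + (e₁ * a₁ + e₂ * a₂ + e₃ * a₃) * a₀ = 0 ∧
        (e₁ * a₁ + e₂ * a₂ + e₃ * a₃) * (e₁ * a₁ + e₂ * a₂ + e₃ * a₃) - (3 : K) • (a₀ * a₀) = (5 : K) • (1 : R) := by
    intro e₁ e₂ e₃ he₁ he₂ he₃ he
    rcases diag_cases hP h2 h3 h.frame h0 h1 h2' h3' he₁ he₂ he₃ hp he with e | e | e | e
    · exact absurd e.1 hne
    · exact absurd e.1 hne
    · exact absurd e.1 hne
    · exact e
  obtain ⟨ar, qr⟩ := far (Or.inl rfl) (Or.inl rfl) (Or.inl rfl) h.r_mem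
  obtain ⟨as', qs⟩ := far (Or.inl rfl) (Or.inr rfl) (Or.inr rfl) h.s_mem
  obtain ⟨at', qt⟩ := far (Or.inr rfl) (Or.inl rfl) (Or.inr rfl) h.t_mem
  obtain ⟨au, qu⟩ := far (Or.inr rfl) (Or.inr rfl) (Or.inl rfl) h.u_mem
  simp only [one_mul, neg_one_mul, mul_add, add_mul, neg_mul, mul_neg, neg_neg] at ar as' at' au qr qs qt qu
  obtain ⟨s0, s1, s2, s3⟩ := sq_coords hP h2 h3 h.frame h0 h1 h2' h3' hp
  have an1 : a₀ * a₁ = -(a₁ * a₀) := by
    rw [eq_neg_iff_add_eq_zero]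
    exact smul_cancel h2 ((show (2 : K) • (a₀ * a₁ + a₁ * a₀) = _ + _ by module).trans
      ((congrArg₂ (· + ·) ar as').trans (by simp)))
  have an2 : a₀ * a₂ = -(a₂ * a₀) := by
    rw [eq_neg_iff_add_eq_zero]
    exact smul_cancel h2 ((show (2 : K) • (a₀ * a₂ + a₂ * a₀) = _ + _ by module).trans
      ((congrArg₂ (· + ·) ar at').trans (by simp)))
  have an3 : a₀ * a₃ = -(a₃ * a₀) := by
    rw [eq_neg_iff_add_eq_zero]
    exact smul_cancel h2 ((show (2 : K) • (a₀ * a₃ + a₃ * a₀) = _ + _ by module).trans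
      ((congrArg₂ (· + ·) ar au).trans (by simp)))
  have c23 : a₂ * a₃ = a₃ * a₂ := by
    rw [an1, neg_add_cancel, zero_add, sub_eq_zero] at s1; exact s1
  have c31 : a₃ * a₁ = a₁ * a₃ := by
    rw [an2] at s2; rw [← sub_eq_zero, ← s2]; abel
  have c12 : a₁ * a₂ = a₂ * a₁ := by
    rw [an3] at s3; rw [← sub_eq_zero, ← s3]; abel
  have h8 : (8 : K) ≠ 0 := by
    rw [show (8 : K) = 2 * 2 * 2 by norm_num]; exact mul_ne_zero (mul_ne_zero h2 h2) h2
  have hA0 : a₀ * a₀ = (-1 : K) • (1 : R) := by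
    refine smul_cancel h8 ?_
    linear_combination (norm := module) (-1 : K) • qr + (-1 : K) • qs + (-1 : K) • qt + (-1 : K) • qu + (-4 : K) • s0
  have hsum : a₁ * a₁ + a₂ * a₂ + a₃ * a₃ = (2 : K) • (1 : R) := by
    rw [hA0, ← sub_eq_zero] at s0
    rw [← sub_eq_zero, ← neg_eq_zero, ← s0]
    module
  rw [hA0, c31, ← c12, ← c23] at qr qs qt qu
  have e4 : ∀ x : R, (4 : K) • x = 0 → x = 0 := fun x hx => smul_cancel (four_ne h2) (hx.trans (smul_zero _).symm)
  have z12 : a₁ * a₂ = 0 := e4 _ (smul_cancel h2 (by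
    rw [smul_zero, ← sub_self ((5 : K) • (1 : R) + (5 : K) • 1)]
    conv_rhs => arg 1; rw [← congrArg₂ (· + ·) qr qu]
    conv_rhs => arg 2; rw [← congrArg₂ (· + ·) qs qt]
    module))
  have z13 : a₁ * a₃ = 0 := e4 _ (smul_cancel h2 (by
    rw [smul_zero, ← sub_self ((5 : K) • (1 : R) + (5 : K) • 1)]
    conv_rhs => arg 1; rw [← congrArg₂ (· + ·) qr qt]
    conv_rhs => arg 2; rw [← congrArg₂ (· + ·) qs qu]
    module))
  have z23 : a₂ * a₃ = 0 := e4 _ (smul_cancel h2 (by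
    rw [smul_zero, ← sub_self ((5 : K) • (1 : R) + (5 : K) • 1)]
    conv_rhs => arg 1; rw [← congrArg₂ (· + ·) qr qs]
    conv_rhs => arg 2; rw [← congrArg₂ (· + ·) qt qu]
    module))
  -- each coordinate squares to zero or it is the only one
  have step : ∀ {i j k : R}, Base P i j k → ∀ {b₁ b₂ b₃ : R}, Cen i j a₀ → Cen i j b₁ → Cen i j b₂ → Cen i j b₃ →
      qv i j k a₀ b₁ b₂ b₃ ∈ P → a₀ * b₁ = -(b₁ * a₀) → a₀ * b₂ = -(b₂ * a₀) → a₀ * b₃ = -(b₃ * a₀) →
      b₁ * b₂ = 0 → b₂ * b₁ = 0 → b₁ * b₃ = 0 → b₃ * b₁ = 0 → b₂ * b₃ = 0 → b₃ * b₂ = 0 →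
      b₁ * b₁ + b₂ * b₂ + b₃ * b₃ = (2 : K) • (1 : R) → b₁ * b₁ = 0 := by
    intro i j k h b₁ b₂ b₃ g0 g1 g2 g3 hp n1 n2 n3 p12 p21 p13 p31 p23 p32 hS
    have hu2 : b₁ * b₁ * (b₁ * b₁) = (2 : K) • (b₁ * b₁) := by
      have := congrArg (fun z => b₁ * b₁ * z) hS
      simp only [mul_add, mul_smul_comm, mul_one] at this
      rw [show b₁ * b₁ * (b₂ * b₂) = b₁ * (b₁ * b₂) * b₂ by simp only [mul_assoc], p12,
        show b₁ * b₁ * (b₃ * b₃) = b₁ * (b₁ * b₃) * b₃ by simp only [mul_assoc], p13] at this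
      simpa only [mul_zero, zero_mul, add_zero] using this
    have hq : qv i j k a₀ b₁ (-b₂) (-b₃) ∈ P := by
      have e : ∀ a b c d : R, qv j k i a c d b = qv i j k a b c d := fun a b c d => by simp only [qv]; abel
      rw [← e]
      exact conj_flip hP h2 h3 h.rot (g0.rot h.frame) (g2.rot h.frame) (g3.rot h.frame) (g1.rot h.frame)
        (by rw [e]; exact hp)
    have hanti : qv i j k a₀ b₁ b₂ b₃ * qv i j k a₀ b₁ (-b₂) (-b₃) +
        qv i j k a₀ b₁ (-b₂) (-b₃) * qv i j k a₀ b₁ b₂ b₃ = qv i j k ((2 : K) • (1 : R) - (4 : K) • (b₁ * b₁)) 0 0 0 := by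
      have e3 : b₃ * b₃ = (2 : K) • (1 : R) - b₁ * b₁ - b₂ * b₂ := by rw [← hS]; abel
      rw [qv_mul h.frame g0 g1 g2 g3, qv_mul h.frame g0 g1 g2.neg g3.neg, qv_add]
      simp only [neg_mul, mul_neg, p12, p21, p13, p31, p23, p32, n1, n2, n3, hA0, neg_zero, e3]
      congr 1 <;> module
    have hkey : ∀ n : K, b₁ * b₁ = n • (1 : R) → n * n = 2 * n := by
      intro n hn
      by_contra hne'
      rw [hn, smul_mul_assoc, one_mul, smul_smul, smul_smul] at hu2
      refine hR (smul_cancel (sub_ne_zero.mpr hne') (y := (0 : R)) ?_)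
      rw [smul_zero, sub_smul, hu2, sub_self]
    have hsc : ∀ c : K, qv i j k ((2 : K) • (1 : R) - (4 : K) • (b₁ * b₁)) 0 0 0 = c • (1 : R) →
        b₁ * b₁ = ((2 - c) / 4) • (1 : R) := by
      intro c hc
      have h' := (qv_inj h2 h.frame ((Cen.one.smul _).sub ((g1.mul g1).smul _)) Cen.zero Cen.zero Cen.zero
        (Cen.one.smul c) Cen.zero Cen.zero Cen.zero (hc.trans (qv_scalar c))).1
      refine smul_cancel (four_ne h2) ?_
      rw [smul_smul, mul_div_cancel₀ _ (four_ne h2), sub_smul, ← h']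
      abel
    rcases hP.pair _ hp _ hq with e | e | e | e | e
    · -- the other two coordinates vanish
      obtain ⟨-, -, x2, x3⟩ := qv_inj h2 h.frame g0 g1 g2.neg g3.neg g0 g1 g2 g3 e
      have hb2 : b₂ = 0 := smul_cancel h2 (show (2 : K) • b₂ = (2 : K) • 0 by
        rw [smul_zero, two_smul]; exact add_eq_zero_iff_eq_neg.mpr x2.symm)
      have hb3 : b₃ = 0 := smul_cancel h2 (show (2 : K) • b₃ = (2 : K) • 0 by
        rw [smul_zero, two_smul]; exact add_eq_zero_iff_eq_neg.mpr x3.symm)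
      exfalso
      have hb11 : b₁ * b₁ = (2 : K) • (1 : R) := by rwa [hb2, hb3, mul_zero, add_zero, add_zero] at hS
      subst hb2 hb3
      -- conjugate the first diagonal
      set m := (2 : K)⁻¹ • (b₁ - a₀ * b₁) with hm
      have gm : Cen i j m := (g1.sub (g0.mul g1)).smul _
      have hr' : qv i j k 0 1 m (-m) ∈ P := by
        have e' : (qv i j k a₀ b₁ 0 0 - 1) * qv i j k 0 1 1 1 * (-qv i j k a₀ b₁ 0 0 - 1) =
            (4 : K) • qv i j k 0 1 m (-m) := by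
          rw [show qv i j k a₀ b₁ 0 0 - 1 = qv i j k (a₀ - 1) b₁ 0 0 by simp [qv]; abel,
            show -qv i j k a₀ b₁ 0 0 - 1 = qv i j k (-a₀ - 1) (-b₁) 0 0 by simp [qv]; abel,
            qv_mul h.frame (g0.sub Cen.one) g1 Cen.zero Cen.zero, qv_mul h.frame
            (((((g0.sub Cen.one).mul Cen.zero).sub (g1.mul Cen.one)).sub (Cen.zero.mul Cen.one)).sub (Cen.zero.mul Cen.one))
            (((((g0.sub Cen.one).mul Cen.one).add (g1.mul Cen.zero)).add (Cen.zero.mul Cen.one)).sub (Cen.zero.mul Cen.one))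
            (((((g0.sub Cen.one).mul Cen.one).sub (g1.mul Cen.one)).add (Cen.zero.mul Cen.zero)).add (Cen.zero.mul Cen.one))
            (((((g0.sub Cen.one).mul Cen.one).add (g1.mul Cen.one)).sub (Cen.zero.mul Cen.one)).add (Cen.zero.mul Cen.zero)),
            qv_smul, hm, smul_neg, smul_smul, show (4 : K) * 2⁻¹ = 2 by
              rw [show (4 : K) = 2 * 2 by norm_num, mul_assoc, mul_inv_cancel₀ h2, mul_one]]
          simp only [mul_zero, zero_mul, mul_one, sub_zero, add_zero, zero_sub, zero_add, mul_neg, neg_mul, neg_neg,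
            sub_mul, mul_sub, add_mul, mul_add, one_mul, hA0, hb11, n1, smul_zero, smul_sub]
          congr 1 <;> module
        have := hP.conj _ hp _ h.r_mem
        rwa [e', inv_smul_smul₀ (four_ne h2)] at this
      have hr'' := hP.neg _ hr'
      rw [qv_neg, neg_zero, neg_neg] at hr''
      obtain ⟨-, hcase⟩ := two_scalar hP h2 h3 h Cen.one.neg gm.neg gm hR hr'' (by abel) (by abel)
      have hm0 : a₀ * m = m * a₀ := by
        rcases hcase with ⟨-, x⟩ | ⟨-, x⟩ <;> rw [x] <;> simp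
      rw [hm, mul_smul_comm, smul_mul_assoc] at hm0
      have hm1 := smul_cancel (inv_ne_zero h2) hm0
      simp only [mul_sub, sub_mul] at hm1
      rw [← mul_assoc, hA0, mul_assoc, show b₁ * a₀ = -(a₀ * b₁) by rw [n1, neg_neg], mul_neg, ← mul_assoc,
        hA0, smul_mul_assoc, one_mul] at hm1
      have h01 : a₀ * b₁ = -b₁ := smul_cancel h2 (show (2 : K) • (a₀ * b₁) = (2 : K) • (-b₁) by
        rw [← sub_eq_zero] at hm1 ⊢; rw [← hm1]; module)
      have h02 := congrArg (fun z => a₀ * z) h01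
      simp only [mul_neg] at h02
      rw [← mul_assoc, hA0, smul_mul_assoc, one_mul, h01, neg_neg] at h02
      have hb0 : b₁ = 0 := smul_cancel h2 (show (2 : K) • b₁ = (2 : K) • 0 by
        rw [smul_zero, two_smul]
        nth_rewrite 1 [← h02]
        simp)
      rw [hb0, mul_zero] at hb11
      exact hR (smul_cancel h2 (hb11.symm.trans (smul_zero _).symm))
    · rw [qv_neg] at e
      obtain ⟨x0, -, -, -⟩ := qv_inj h2 h.frame g0 g1 g2.neg g3.neg g0.neg g1.neg g2.neg g3.neg e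
      exact absurd (smul_cancel h2 (show (2 : K) • a₀ = (2 : K) • 0 by
        rw [smul_zero, two_smul]; exact add_eq_zero_iff_eq_neg.mpr x0)) hne
    · rw [hanti] at e
      have h' := hsc 2 e
      rw [sub_self, zero_div, zero_smul] at h'
      exact h'
    · rw [hanti] at e
      have h' := hsc (-2) e
      have hn := hkey _ h'
      rw [show ((2 : K) - -2) / 4 = 1 by rw [div_eq_one_iff_eq (four_ne h2)]; norm_num] at hn
      exfalso
      exact one_ne_zero (show (1 : K) = 0 by linear_combination -hn)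
    · rw [hanti, qv_mul h.frame ((Cen.one.smul _).sub ((g1.mul g1).smul _)) Cen.zero Cen.zero Cen.zero] at e
      simp only [mul_zero, zero_mul, sub_zero, add_zero, qv, sub_mul, mul_sub, smul_mul_assoc, mul_smul_comm,
        one_mul, mul_one, smul_sub, smul_smul, hu2] at e
      have h1' : b₁ * b₁ = (1 : K) • (1 : R) := by
        refine smul_cancel (pow_ne_zero 4 h2) ?_
        simp only [smul_zero, sub_zero, add_zero, mul_zero] at e
        linear_combination (norm := module) e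
      have hn := hkey 1 h1'
      exfalso
      exact one_ne_zero (show (1 : K) = 0 by linear_combination -hn)
  have w1 := step h h0 h1 h2' h3' hp an1 an2 an3 z12 (c12 ▸ z12) z13 (c31.trans z13) z23 (c23 ▸ z23) hsum
  have e : ∀ a b c d : R, qv j k i a c d b = qv i j k a b c d := fun a b c d => by simp only [qv]; abel
  have w2 := step h.rot (h0.rot h.frame) (h2'.rot h.frame) (h3'.rot h.frame) (h1.rot h.frame)
    (by rw [e]; exact hp) an2 an3 an1 z23 (c23 ▸ z23) (c12 ▸ z12) z12 (c31.trans z13) z13 (by rw [← hsum]; abel)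
  have w3 := step h.rot.rot ((h0.rot h.frame).rot h.rot.frame) ((h3'.rot h.frame).rot h.rot.frame)
    ((h1.rot h.frame).rot h.rot.frame) ((h2'.rot h.frame).rot h.rot.frame)
    (by rw [show qv k i j a₀ a₃ a₁ a₂ = qv i j k a₀ a₁ a₂ a₃ by simp only [qv]; abel]; exact hp) an3 an1 an2
    (c31.trans z13) z13 (c23 ▸ z23) z23 z12 (c12 ▸ z12) (by rw [← hsum]; abel)
  rw [w1, w2, w3, add_zero, add_zero] at hsum
  exact hR (smul_cancel h2 (hsum.symm.trans (smul_zero _).symm))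

end Cfsg.Lib.Perm.Zas25
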